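import Mathlib
import Cfsg.Agent.Small.Sv2
import Cfsg.Agent.Ab2.App1
import Cfsg.Agent.Classical.SmallIso

/-!
# Simple groups of order `4 p^a q^b` and `3 p^2 q^b`
-/

set_option autoImplicit false
set_option linter.unusedSectionVars false

namespace CF.Small

open Subgroup CF.BlockB Cfsg CF.PF Sv
open scoped ComplexConjugate MatrixGroups

variable {G : Type*} [Group G] [Finite G]

theorem card_dvd_deg_of_vanish {χ : G → ℂ} (h : IsCh ⊤ χ) {H : Subgroup G}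
    (h0 : ∀ x ∈ H, x ≠ 1 → χ x = 0) : Nat.card H ∣ charDegree χ := by
  classical
  refine ⟨mu H χ (triv H), Nat.cast_injective (R := ℂ) ?_⟩
  have : (Nat.card H : ℂ) ≠ 0 := Nat.cast_ne_zero.2 Nat.card_pos.ne'
  rw [Nat.cast_mul, coe_mu le_top h (isCh_triv _), ip, coe_deg h,
    Finset.sum_eq_single_of_mem 1 (mem_els.2 H.one_mem) fun x hx h1 => by
      rw [h0 x (mem_els.1 hx) h1, zero_mul]]
  simp [this]

/-- A character of degree coprime to the index of an abelian subgroup. -/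
theorem card_dvd_deg_of_comm [IsSimpleGroup G] (hG : ¬ IsMulCommutative G) {χ : G → ℂ}
    (h : χ ∈ irr (⊤ : Subgroup G)) (h1 : χ ≠ triv ⊤) {H : Subgroup G} [IsMulCommutative H]
    (hc : (charDegree χ).Coprime H.index) : Nat.card H ∣ charDegree χ :=
  card_dvd_deg_of_vanish (isCh_of_irr h) fun x hx x1 =>
    (Char.irr_eq_zero_or_mem_charCenter (mem_irr_top.1 h) (exists_degree h) x
      (hc.coprime_dvd_right (index_dvd_of_le fun y hy => mem_centralizer_singleton_iff.2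
        (congrArg Subtype.val (mul_comm' (⟨y, hy⟩ : H) ⟨x, hx⟩))))).resolve_right
      fun e => h1 (eq_triv_of_mem_center hG h x1 e)

theorem not_solvable_of_simple [IsSimpleGroup G] (hG : ¬ IsMulCommutative G) :
    ¬ Group.IsSolvable G := fun _ => hG ⟨⟨IsSimpleGroup.comm_iff_isSolvable.2 inferInstance⟩⟩

theorem eq_two_of_pq {m p q a b : ℕ} (hp : p.Prime) (hq : q.Prime) (hp2 : p ≠ 2) (hq2 : q ≠ 2)
    (hm : 2 ≤ m) (h : (2 * m + 1) * (m * (m + 1)) = 2 * (p ^ a * q ^ b)) : m = 2 := by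
  by_contra h3
  have ho : Odd (p ^ a * q ^ b) := ((hp.odd_of_ne_two hp2).pow).mul (hq.odd_of_ne_two hq2).pow
  have key : ∀ n, 2 < n → n ∣ 2 * (p ^ a * q ^ b) → p ∣ n ∨ q ∣ n := fun n h2 hn => by
    rcases Nat.four_dvd_or_exists_odd_prime_and_dvd_of_two_lt h2 with h4 | ⟨t, ht, h4, h5⟩
    · have := h4.trans hn
      obtain ⟨c, hc⟩ := ho
      omega
    · have h6 := (Nat.Coprime.dvd_of_dvd_mul_left (Nat.coprime_two_right.2 h5) (h4.trans hn))
      rcases (Nat.Prime.dvd_mul ht).1 h6 with h7 | h7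
      · exact .inl ((Nat.prime_dvd_prime_iff_eq ht hp).1 (ht.dvd_of_dvd_pow h7) ▸ h4)
      · exact .inr ((Nat.prime_dvd_prime_iff_eq ht hq).1 (ht.dvd_of_dvd_pow h7) ▸ h4)
  have k1 := key (2 * m + 1) (by omega) (h ▸ dvd_mul_right _ _)
  have k2 := key m (by omega) (h ▸ (dvd_mul_right _ _).mul_left _)
  have k3 := key (m + 1) (by omega) (h ▸ (dvd_mul_left _ _).mul_left _)
  have c : ∀ t : ℕ, t.Prime → ¬ (t ∣ m ∧ t ∣ m + 1) ∧ ¬ (t ∣ 2 * m + 1 ∧ t ∣ m) ∧
      ¬ (t ∣ 2 * m + 1 ∧ t ∣ m + 1) := fun t ht =>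
    ⟨fun ⟨x, y⟩ => ht.one_lt.ne' (Nat.dvd_one.1 ((Nat.dvd_add_right x).1 y)),
      fun ⟨x, y⟩ => ht.one_lt.ne' (Nat.dvd_one.1 ((Nat.dvd_add_right (y.mul_left 2)).1 x)),
      fun ⟨x, y⟩ => ht.one_lt.ne' (Nat.dvd_one.1 ((Nat.dvd_add_right x).1
        (show t ∣ 2 * m + 1 + 1 from (show 2 * (m + 1) = 2 * m + 1 + 1 by ring) ▸ y.mul_left 2)))⟩
  have := c p hp
  have := c q hq
  tauto

/-- Simple groups with Sylow `2`-subgroups of order four. -/
theorem psl_of_four [IsSimpleGroup G] (hG : ¬ IsMulCommutative G) {n : ℕ} (hn : Odd n)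
    (h : Nat.card G = 4 * n) : ∃ (F : Type) (_ : Field F) (_ : Fintype F) (m : ℕ),
      Fintype.card F = 2 * m + 1 ∧ 2 ≤ m ∧ (2 * m + 1) * (m * (m + 1)) = 2 * n ∧
        Nonempty (G ≃* PSL(2, F)) := by
  have := Fact.mk Nat.prime_two
  obtain ⟨S⟩ : Nonempty (Sylow 2 G) := inferInstance
  obtain ⟨F, _, _, ⟨m, hm⟩, h3, ⟨e⟩⟩ := Ab2.gw4 G inferInstance hG S (by
    show Nat.card S = 4
    rw [S.card_eq_multiplicity, h, Nat.factorization_mul (by norm_num) hn.pos.ne', Finsupp.add_apply,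
      Nat.factorization_eq_zero_of_not_dvd hn.not_two_dvd_nat, show 4 = 2 ^ 2 by rfl,
      Nat.prime_two.factorization_pow]
    simp)
  refine ⟨F, _, _, m, hm, by omega, ?_, ⟨e⟩⟩
  have h4 := Classical.card_PSL_two (F := F)
  rw [← Nat.card_congr e.toEquiv, h, hm, Nat.add_sub_cancel, Nat.gcd_eq_left (dvd_mul_right 2 m),
    show (2 * m + 1) ^ 2 - 1 = 4 * (m * (m + 1)) by
      rw [show (2 * m + 1) ^ 2 = 4 * (m * (m + 1)) + 1 by ring, Nat.add_sub_cancel]] at h4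
  nlinarith

theorem A5_of_four [IsSimpleGroup G] (hG : ¬ IsMulCommutative G) {p q a b : ℕ} (hp : p.Prime)
    (hq : q.Prime) (h : Nat.card G = 4 * p ^ a * q ^ b) : Nonempty (G ≃* alternatingGroup (Fin 5)) := by
  have hs := not_solvable_of_simple hG
  have hp2 : p ≠ 2 := by
    rintro rfl
    exact hs (Char.burnside_paqb (a := a + 2) (b := b) hp hq (by rw [h]; ring))
  have hq2 : q ≠ 2 := by
    rintro rfl
    exact hs (Char.burnside_paqb (a := a) (b := b + 2) hp hq (by rw [h]; ring))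
  obtain ⟨F, _, _, m, h1, h2, h3, ⟨e⟩⟩ := psl_of_four hG
    (((hp.odd_of_ne_two hp2).pow (n := a)).mul ((hq.odd_of_ne_two hq2).pow (n := b)))
    (by rw [h, mul_assoc])
  obtain rfl := eq_two_of_pq hp hq hp2 hq2 h2 h3
  obtain ⟨e2⟩ := Classical.PSL2_five_equiv (F := F) (by rw [Nat.card_eq_fintype_card, h1])
  exact ⟨e.trans e2⟩

/-- The principal `3`-block when `3` divides the order exactly once. -/
theorem exists_three_block [IsSimpleGroup G] (hG : ¬ IsMulCommutative G) (h1 : 3 ∣ Nat.card G)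
    (h2 : ¬ 3 ^ 2 ∣ Nat.card G) : ∃ χ ∈ irr (⊤ : Subgroup G), ∃ ψ ∈ irr (⊤ : Subgroup G),
      χ ≠ triv ⊤ ∧ ψ ≠ triv ⊤ ∧ ¬ 3 ∣ charDegree χ ∧ ¬ 3 ∣ charDegree ψ ∧
        charDegree χ = charDegree ψ + 1 := by
  have := Fact.mk Nat.prime_three
  obtain ⟨S⟩ := nonempty_pset h1 h2
  obtain ⟨B, hB⟩ := S.exists_pblk
  have hf := B.fi_ne_one (commutator_eq_top hG) hB
  have h3 : S.fi = 2 := ((Nat.dvd_prime Nat.prime_two).1 (PSet.fi_dvd (S := S))).resolve_left hf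
  have h4 := B.length_sgn hB
  have h5 := B.sum_sgn hB
  rw [h3] at h4
  obtain ⟨a, ha⟩ := List.length_eq_one_iff.1 h4
  obtain ⟨χ, k1, k2, k3⟩ := B.mem_sgn.1 (ha ▸ List.mem_singleton_self a)
  rw [ha, List.sum_singleton, ← k3] at h5
  obtain ⟨ψ, k4⟩ := Finset.card_pos.1 B.card_Y_pos
  have t := triv_mem_irr S.K
  have k5 := B.deg_Y t k4
  have i1 := B.X_irr χ k1
  have a1 := B.mem_all.2 (.inl k1)
  have a2 := B.mem_all.2 (.inr k4)
  have i2 := (B.mem_all_iff.1 a2).1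
  have d1 := B.not_dvd_degree t a1 (exists_degree i1)
  have d2 := B.not_dvd_degree t a2 (exists_degree i2)
  have n2 := B.ex_ne_triv hB k4
  have := deg_pos i1
  have := deg_pos i2
  rw [← k5] at h5
  rcases B.ε_sign χ k1 with e | e <;> rcases B.δ_sign with d | d <;> rw [e, d] at h5
  · exact ⟨ψ, i2, χ, i1, n2, k2, d2, d1, by omega⟩
  · omega
  · omega
  · exact ⟨χ, i1, ψ, i2, k2, n2, d1, d2, by omega⟩

theorem card_ne_three_sq [IsSimpleGroup G] (hG : ¬ IsMulCommutative G) {p q b : ℕ} (hp : p.Prime)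
    (hq : q.Prime) (hpq : p ≠ q) (hp2 : p ≠ 2) (hp3 : p ≠ 3) (hq3 : q ≠ 3) :
    Nat.card G ≠ 3 * p ^ 2 * q ^ b := fun h => by
  have c3 : Nat.Coprime 3 (p ^ 2 * q ^ b) := Nat.Coprime.mul_right
    (((Nat.coprime_primes Nat.prime_three hp).2 hp3.symm).pow_right _)
    (((Nat.coprime_primes Nat.prime_three hq).2 hq3.symm).pow_right _)
  rw [mul_assoc] at h
  have := Fact.mk hp
  obtain ⟨P, hP⟩ := Sylow.exists_subgroup_card_pow_prime p (G := G) (n := 2)
    (h ▸ (dvd_mul_right _ _).mul_left _)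
  have : IsMulCommutative P := IsPGroup.isMulCommutative_of_card_eq_prime_sq hP
  have hI : P.index = 3 * q ^ b := Nat.eq_of_mul_eq_mul_left (pow_pos hp.pos 2) (by
    rw [← hP, card_mul_index, h, hP]; ring)
  have ho := hp.odd_of_ne_two hp2
  have key : ∀ χ ∈ irr (⊤ : Subgroup G), ∀ ψ ∈ irr (⊤ : Subgroup G), χ ≠ triv ⊤ → ψ ≠ triv ⊤ →
      ¬ 3 ∣ charDegree χ → ¬ 3 ∣ charDegree ψ → 2 ∣ charDegree ψ →
      (charDegree χ = charDegree ψ + 1 ∨ charDegree ψ = charDegree χ + 1) → False := by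
    intro χ i1 ψ i2 n1 n2 d1 d2 e2 hd
    have v : ∀ χ ∈ irr (⊤ : Subgroup G), ¬ 3 ∣ charDegree χ → charDegree χ ∣ p ^ 2 * q ^ b :=
      fun χ i d => Nat.Coprime.dvd_of_dvd_mul_left
        ((Nat.Prime.coprime_iff_not_dvd Nat.prime_three).2 d).symm
        (h ▸ Char.irr_one_dvd_card (mem_irr_top.1 i) (exists_degree i))
    obtain rfl : q = 2 := by
      rcases (Nat.Prime.dvd_mul Nat.prime_two).1 (e2.trans (v ψ i2 d2)) with k | k
      · exact absurd (Nat.prime_two.dvd_of_dvd_pow k) ho.not_two_dvd_nat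
      · exact ((Nat.prime_dvd_prime_iff_eq Nat.prime_two hq).1 (Nat.prime_two.dvd_of_dvd_pow k)).symm
    have o1 : ¬ 2 ∣ charDegree χ := by omega
    have c1 : (charDegree χ).Coprime 2 := ((Nat.Prime.coprime_iff_not_dvd Nat.prime_two).2 o1).symm
    have k1 := Nat.Coprime.dvd_of_dvd_mul_right (c1.pow_right b) (v χ i1 d1)
    have k2 := card_dvd_deg_of_comm hG i1 n1 (H := P) (by
      rw [hI]
      exact Nat.Coprime.mul_right ((Nat.Prime.coprime_iff_not_dvd Nat.prime_three).2 d1).symm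
        (c1.pow_right b))
    rw [hP] at k2
    have k3 := Nat.dvd_antisymm k1 k2
    have c2 : (charDegree ψ).Coprime (p ^ 2) := by
      rw [← k3]
      rcases hd with e | e <;> rw [e] <;> simp
    obtain ⟨k, -, hk⟩ := (Nat.dvd_prime_pow Nat.prime_two).1
      (Nat.Coprime.dvd_of_dvd_mul_left c2 (v ψ i2 d2))
    rw [k3, hk] at hd
    have h5 : 5 ≤ p := by
      have := hp.two_le
      obtain ⟨c, hc⟩ := ho
      omega
    rcases hd with e | e
    · have k4 : p % 3 = 1 ∨ p % 3 = 2 := by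
        have : ¬ 3 ∣ p := fun d => hp3 ((Nat.prime_dvd_prime_iff_eq Nat.prime_three hp).1 d).symm
        omega
      have k5 : p ^ 2 % 3 = 1 := by rcases k4 with k | k <;> simp [pow_two, Nat.mul_mod, k]
      exact d2 (by rw [hk]; omega)
    · obtain ⟨c, rfl⟩ := ho
      have k4 : 4 ∣ 2 ^ k := pow_dvd_pow 2 (show 2 ≤ k by
        by_contra k5
        interval_cases k <;> nlinarith)
      rw [e, show (2 * c + 1) ^ 2 + 1 = 4 * (c * c + c) + 2 by ring] at k4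
      omega
  obtain ⟨χ, i1, ψ, i2, n1, n2, d1, d2, e⟩ := exists_three_block hG (h ▸ dvd_mul_right _ _) (by
    rw [h, pow_two, Nat.mul_dvd_mul_iff_left (by norm_num)]
    exact (Nat.Prime.coprime_iff_not_dvd Nat.prime_three).1 c3)
  rcases (by omega : 2 ∣ charDegree ψ ∨ 2 ∣ charDegree χ) with k | k
  · exact key χ i1 ψ i2 n1 n2 d1 d2 k (.inl e)
  · exact key ψ i2 χ i1 n2 n1 d2 d1 k (.inr e)

end CF.Small
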