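import Mathlib

/-! Størmer's list of consecutive `7`-smooth numbers. -/

set_option autoImplicit false

namespace CF.Small.I2
open Pell Pell.Solution₁

theorem dvd_pow_of_lt {a c e B : ℕ} (h : a ∣ c ^ e) (h0 : a ≠ 0) (hB : a < 2 ^ B) : a ∣ c ^ B := by
  refine (Nat.dvd_iff_prime_pow_dvd_dvd _ _).2 fun p k hp hk => ?_
  rcases k.eq_zero_or_pos with rfl | hk0
  · simp
  have h2 : k ≤ B := by
    by_contra! h2
    have := (Nat.pow_le_pow_right two_pos h2.le).trans ((Nat.pow_le_pow_left hp.two_le k).trans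
      (Nat.le_of_dvd (Nat.pos_of_ne_zero h0) hk))
    omega
  exact (pow_dvd_pow _ h2).trans (pow_dvd_pow_of_dvd
    (hp.dvd_of_dvd_pow (((dvd_pow_self p hk0.ne').trans hk).trans h)) _)

theorem mem_of_dvd_210 {q : ℕ} (hq : q.Prime) (h : q ∣ 210) : q ∈ [2, 3, 5, 7] := by
  have h1 : q ∈ Nat.primeFactors 210 := Nat.mem_primeFactors.2 ⟨hq, h, by norm_num⟩
  have h2 : Nat.primeFactors 210 = {2, 3, 5, 7} := by decide +kernel
  simpa [h2] using h1

section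
variable {d : ℤ} (b : Solution₁ d)

theorem y_dvd_mul (j k : ℕ) : (b ^ j).y ∣ (b ^ (j * k)).y := by
  induction k with
  | zero => simp
  | succ k ih =>
    rw [Nat.mul_succ, pow_add, y_mul]
    exact dvd_add (dvd_mul_left _ _) (ih.mul_right _)

theorem y_dvd_gcd {c : ℤ} (i j : ℕ) : c ∣ (b ^ i).y → c ∣ (b ^ j).y → c ∣ (b ^ i.gcd j).y := by
  induction i, j using Nat.gcd.induction with
  | H0 n => simp
  | H1 m n _ ih =>
    intro h1 h2
    rw [Nat.gcd_rec]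
    refine ih ?_ h1
    have h3 := h1.trans (y_dvd_mul b m (n / m))
    rw [← Nat.div_add_mod n m, pow_add, y_mul] at h2
    have h4 := (dvd_add_left (h3.mul_right _)).1 h2
    refine IsCoprime.dvd_of_dvd_mul_left ?_ h4
    obtain ⟨t, ht⟩ := h3
    refine ⟨-(d * t * (b ^ (m * (n / m))).y), (b ^ (m * (n / m))).x, ?_⟩
    have := (b ^ (m * (n / m))).prop
    rw [← this]; rw [ht]; ring

end

/-- Powers of `a + √(a² - 1)`. -/
def pw (a : ℕ) : ℕ → ℕ × ℕ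
  | 0 => (1, 0)
  | k + 1 => ((pw a k).1 * a + (a ^ 2 - 1) * (pw a k).2, (pw a k).1 + (pw a k).2 * a)

/-- The list of Størmer. -/
def SL : List ℕ := [1, 2, 3, 4, 5, 6, 7, 8, 9, 14, 15, 20, 24, 27, 35, 48, 49, 63, 80, 125, 224, 2400, 4374]

def chk (D a y : ℕ) : Bool := a ^ 2 == D * y ^ 2 + 1 && decide (1 < a) &&
  ((List.range a).all fun u => (List.range y).all fun v => v == 0 || u ^ 2 != D * v ^ 2 + 1) &&
  ([2, 3, 5, 7].all fun q => [2, 3, 4, 5, 7].any fun j => (pw a j).2 % q == 0) &&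
  ([5, 6, 7, 8, 9].all fun j => decide ((pw a j).2 < 2 ^ 99) && 210 ^ 99 % (pw a j).2 != 0) &&
  [1, 2, 3, 4].all fun j => decide ((pw a j).2 < 2 ^ 99) && (210 ^ 99 % (pw a j).2 != 0 ||
    (pw a j).1 % 2 == 0 || SL.contains ((pw a j).1 / 2))

theorem pw_eq {d : ℤ} (s : Solution₁ d) {a : ℕ} (ha : s.x = a) (h1 : 1 < a) (k : ℕ) :
    (s ^ k).x = (pw a k).1 ∧ (s ^ k).y = (pw a k).2 * s.y := by
  have h0 : d * s.y ^ 2 = ((a ^ 2 - 1 : ℕ) : ℤ) := by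
    rw [s.prop_y, ha, Nat.cast_sub (Nat.one_le_pow _ _ (by omega))]; simp
  induction k with
  | zero => simp [pw]
  | succ k ih =>
    rw [pow_succ, x_mul, y_mul, ih.1, ih.2, ha, pw]
    push_cast
    rw [← h0]
    constructor <;> ring

theorem pw_U {a : ℕ} (h1 : 1 < a) : ∃ (d : ℤ) (b : Solution₁ d), ∀ k, (b ^ k).y = (pw a k).2 :=
  ⟨a ^ 2 - 1, mk a 1 (by ring), fun k => (pw_eq (d := a ^ 2 - 1) (mk a 1 (by ring)) rfl h1 k).2.trans (mul_one _)⟩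

theorem U_dvd {a : ℕ} (h1 : 1 < a) {j k : ℕ} (h : j ∣ k) : (pw a j).2 ∣ (pw a k).2 := by
  obtain ⟨d, b, hb⟩ := pw_U h1
  obtain ⟨k, rfl⟩ := h
  exact Int.natCast_dvd_natCast.1 (hb _ ▸ hb _ ▸ y_dvd_mul b j k)

theorem U_cop {a c : ℕ} (h1 : 1 < a) {j k : ℕ} (h : j.Coprime k) (hj : c ∣ (pw a j).2)
    (hk : c ∣ (pw a k).2) : c = 1 := by
  obtain ⟨d, b, hb⟩ := pw_U h1
  have := y_dvd_gcd b (c := c) j k (hb _ ▸ Int.natCast_dvd_natCast.2 hj)
    (hb _ ▸ Int.natCast_dvd_natCast.2 hk)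
  rw [h, hb] at this
  simpa [pw] using Int.natCast_dvd_natCast.1 this

theorem pw_pos {a : ℕ} (h1 : 1 < a) (k : ℕ) : 0 < (pw a k).1 := by
  induction k with
  | zero => simp [pw]
  | succ k ih => rw [pw]; exact Nat.add_pos_left (Nat.mul_pos ih (by omega)) _

theorem one_lt_U {a : ℕ} (h1 : 1 < a) (k : ℕ) : 1 < (pw a (k + 2)).2 := by
  have h2 := pw_pos h1 (k + 1)
  have h3 : 0 < (pw a (k + 1)).2 := by rw [pw]; exact Nat.add_pos_left (pw_pos h1 k) _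
  rw [pw]; nlinarith

theorem of_chk {D a y : ℕ} (h : chk D a y = true) {n v e : ℕ} (hn : 0 < n)
    (hv : (2 * n + 1) ^ 2 = D * v ^ 2 + 1) (he : v ∣ 210 ^ e) : n ∈ SL := by
  simp only [chk, Bool.and_eq_true, beq_iff_eq, decide_eq_true_eq, List.all_eq_true, List.mem_range,
    Bool.or_eq_true, bne_iff_ne, List.any_eq_true, List.contains_iff_mem] at h
  obtain ⟨⟨⟨⟨⟨h1, h2⟩, h3⟩, h4⟩, h5⟩, h6⟩ := h
  let s : Solution₁ (D : ℤ) := mk a y (by zify at h1; linarith)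
  have hs : IsFundamental s := by
    refine ⟨by simpa [s] using h2, ?_, fun {b} hb => ?_⟩
    · rcases y with _ | y
      · nlinarith
      · simp [s]
    by_contra! hlt
    simp only [s, x_mk] at hlt
    have e1 := b.prop_x
    have e2 := y_ne_zero_of_one_lt_x hb
    have e3 : b.x.natAbs ^ 2 = D * b.y.natAbs ^ 2 + 1 := by
      zify; simp only [sq_abs]; linarith
    have e4 : b.x.natAbs < a := by omega
    refine (h3 _ e4 b.y.natAbs ?_).elim (by simpa using e2) fun k => k e3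
    have := Nat.pow_lt_pow_left e4 two_ne_zero
    exact lt_of_pow_lt_pow_left₀ 2 (Nat.zero_le _) (Nat.lt_of_mul_lt_mul_left (a := D) (by omega))
  obtain ⟨k, hk⟩ := hs.eq_pow_of_nonneg (a := mk (2 * n + 1 : ℕ) v (by zify at hv ⊢; linarith))
    (by simp only [x_mk]; positivity) (by simp)
  obtain ⟨k1, k2⟩ := pw_eq s rfl h2 k
  rw [← hk] at k1 k2
  simp only [s, x_mk, y_mk] at k1 k2
  have k3 : 2 * n + 1 = (pw a k).1 := by exact_mod_cast k1
  have k4 : (pw a k).2 ∣ 210 ^ e := Dvd.dvd.trans ⟨y, by exact_mod_cast k2⟩ he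
  have k5 : ∀ j, j ∣ k → (pw a j).2 < 2 ^ 99 → 210 ^ 99 % (pw a j).2 = 0 := fun j e1 e2 =>
    Nat.mod_eq_zero_of_dvd (dvd_pow_of_lt ((U_dvd h2 e1).trans k4)
      (ne_zero_of_dvd_ne_zero (by positivity) ((U_dvd h2 e1).trans k4)) e2)
  have k6 : ∀ j ∈ [5, 6, 7, 8, 9], ¬ j ∣ k := fun j e1 e2 => (h5 j e1).2 (k5 j e2 (h5 j e1).1)
  have k7 : ∀ l, l.Prime → l ∣ k → l ≤ 7 := fun l e1 e2 => by
    by_contra! e3
    obtain ⟨l, rfl⟩ : ∃ l', l = l' + 2 := ⟨l - 2, by omega⟩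
    obtain ⟨q, e4, e5⟩ := Nat.exists_prime_and_dvd (one_lt_U h2 l).ne'
    obtain ⟨j, e6, e7⟩ := h4 q (mem_of_dvd_210 e4
      (e4.dvd_of_dvd_pow (e5.trans ((U_dvd h2 e2).trans k4))))
    refine e4.one_lt.ne' (U_cop h2 ((Nat.Prime.coprime_iff_not_dvd e1).2 fun e8 => ?_) e5
      (Nat.dvd_of_mod_eq_zero e7))
    simp only [List.mem_cons, List.not_mem_nil, or_false] at e6
    have := Nat.le_of_dvd (by omega) e8
    omega
  have k8 : k ∣ 12 := (Nat.dvd_iff_prime_pow_dvd_dvd _ _).2 fun l j e1 e2 => by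
    rcases j.eq_zero_or_pos with rfl | j0
    · simp
    have e3 := (dvd_pow_self l j0.ne').trans e2
    have e4 := k7 l e1 e3
    have e5 : ∀ i, ¬ l ^ (i + 1) ∣ k → l ^ i ∣ 12 → l ^ j ∣ 12 := fun i e6 e7 =>
      (pow_dvd_pow _ (by by_contra! e8; exact e6 ((pow_dvd_pow _ e8).trans e2))).trans e7
    have e6 : l = 2 ∨ l = 3 ∨ l = 5 ∨ l = 7 := by
      clear * - e1 e4; interval_cases l <;> simp_all (decide := true)
    rcases e6 with rfl | rfl | rfl | rfl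
    exacts [e5 2 (k6 _ (by simp)) (by norm_num), e5 1 (k6 _ (by simp)) (by norm_num),
      absurd e3 (k6 _ (by simp)), absurd e3 (k6 _ (by simp))]
  have k9 : k ∈ [1, 2, 3, 4] := (by decide : ∀ k ∈ Nat.divisors 12, ¬ 6 ∣ k → k ∈ [1, 2, 3, 4]) k
    (Nat.mem_divisors.2 ⟨k8, by norm_num⟩) (k6 6 (by simp))
  rcases (h6 k k9).2 with (e1 | e1) | e1
  · exact absurd (k5 k dvd_rfl (h6 k k9).1) e1
  · omega
  · rwa [← k3, show (2 * n + 1) / 2 = n by omega] at e1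

theorem stormer {n e : ℕ} (hn : 0 < n) (h : n * (n + 1) ∣ 210 ^ e) : n ∈ SL := by
  obtain ⟨D, v, h1, h2⟩ := Nat.sq_mul_squarefree (4 * (n * (n + 1)))
  have h3 : 4 * (n * (n + 1)) ∣ 210 ^ (2 + e) := pow_add 210 2 e ▸ mul_dvd_mul (by norm_num) h
  have h4 : D ∣ 210 := (h2.dvd_pow_iff_dvd (by omega)).1 ((Dvd.intro_left _ h1).trans h3)
  have h5 : v ∣ 210 ^ (2 + e) := ((dvd_pow_self v two_ne_zero).trans (Dvd.intro _ h1)).trans h3
  have h6 : (2 * n + 1) ^ 2 = D * v ^ 2 + 1 := by linarith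
  have h7 : D ∈ Nat.divisors 210 := Nat.mem_divisors.2 ⟨h4, by norm_num⟩
  have h8 : ∀ D ∈ Nat.divisors 210, D = 1 ∨ ∃ t ∈ [(3, 2), (2, 1), (9, 4), (5, 2), (8, 3), (19, 6),
    (15, 4), (4, 1), (55, 12), (11, 2), (6, 1), (13, 2), (251, 30), (41, 4), (29, 2)],
      chk D t.1 t.2 = true := by decide +kernel
  rcases h8 D h7 with rfl | ⟨t, -, ht⟩
  · have : v < 2 * n + 1 := by nlinarith
    nlinarith
  · exact of_chk ht hn h6 h5

end CF.Small.I2
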