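import Mathlib
import Cfsg.Agent.Small.SC
import Cfsg.Agent.S0495
import Cfsg.Agent.Classical.MaxL2c
import Cfsg.Agent.Classical.PSL2
import Cfsg.Agent.Invol.DihSylow

/-!
# The simple group of order 168
-/

set_option autoImplicit false
set_option linter.unusedSectionVars false

namespace CF.Small.O168

open Subgroup CF.Classical CF.Transfer MulAction OnePoint
open scoped MatrixGroups

instance : Fact (Nat.Prime 7) := ⟨by norm_num⟩

abbrev F7 := ZMod 7
abbrev K7 := AlgebraicClosure (ZMod 7)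

theorem card7 : Nat.card F7 = 7 := Nat.card_zmod 7
theorem two_ne : (2 : F7) ≠ 0 := by decide

variable {G : Type*} [Group G] [Finite G] [IsSimpleGroup G] (h : Nat.card G = 168)
include h

theorem nc : ¬ IsMulCommutative G := not_comm_of_not_prime (by rw [h]; norm_num)

theorem exists_L2 : ∃ (φ : G →* PGL(2, F7)) (_ : MulAction G (OnePoint K7))
    (_ : IsKlein G (OnePoint K7)), IsL2 φ K7 ∧ φ.range = psl F7 ∧ φ.range.index = 2 := by
  obtain ⟨e⟩ := Cfsg.Agent.S0495.result h (F := F7) rfl
  let φ : G →* PGL(2, F7) := Matrix.ProjectiveSpecialLinearGroup.toPGL.comp e.toMonoidHom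
  have h1 : Function.Injective φ :=
    Matrix.ProjectiveSpecialLinearGroup.toPGL_injective.comp e.injective
  have h2 : φ.range = psl F7 := by
    rw [MonoidHom.range_comp, MonoidHom.range_eq_top.2 e.surjective, ← MonoidHom.range_eq_map,
      range_pslToPGL]
  let := MulAction.compHom (OnePoint K7) φ
  exact ⟨φ, this, IsKlein.pullback φ h1 fun _ _ => rfl, ⟨h1, h2.ge, fun _ _ => rfl⟩, h2,
    h2 ▸ index_psl_of_odd two_ne⟩

theorem cent {g : G} (hg : g ≠ 1) :
    (orderOf g = 2 ∧ Nat.card (centralizer ({g} : Set G)) = 8) ∨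
    ((orderOf g = 3 ∨ orderOf g = 4 ∨ orderOf g = 7) ∧
      Nat.card (centralizer ({g} : Set G)) = orderOf g) := by
  obtain ⟨φ, _, _, L, -, h1⟩ := exists_L2 h
  have h2 := mt orderOf_eq_one_iff.1 hg
  have h3 : g * g = 1 ↔ orderOf g ∣ 2 := by rw [orderOf_dvd_iff_pow_eq_one, pow_two]
  rcases L.card_centralizer_cases hg with e | ⟨n, e1, e2, e3⟩
  · have := ((Nat.dvd_prime (by norm_num)).1 (e.trans card7 ▸ (centralizer ({g} : Set G)).orderOf_dvd_natCard
      (mem_centralizer_singleton_iff.2 rfl))).resolve_left h2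
    exact .inr ⟨.inr (.inr this), by rw [e, this, card7]⟩
  · rw [h1, card7] at e1
    rw [h3] at e3
    have h4 := Nat.le_of_dvd (by omega) e2
    obtain rfl | rfl : n = 3 ∨ n = 4 := by omega
    all_goals generalize orderOf g = k at *; interval_cases k <;> simp_all

theorem cent_two {g : G} (hg : orderOf g = 2) : Nat.card (centralizer ({g} : Set G)) = 8 := by
  have := cent h (g := g) (by rintro rfl; simp at hg)
  omega

theorem cent_of {g : G} (hg : 2 < orderOf g) :
    Nat.card (centralizer ({g} : Set G)) = orderOf g := by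
  have := cent h (g := g) (by rintro rfl; simp at hg)
  omega

theorem cent_eq {g : G} (hg : 2 < orderOf g) : centralizer ({g} : Set G) = zpowers g :=
  (eq_of_le_of_card_ge (zpowers_le.2 (mem_centralizer_singleton_iff.2 rfl))
    (by rw [cent_of h hg, Nat.card_zpowers])).symm

theorem ord (g : G) :
    orderOf g = 1 ∨ orderOf g = 2 ∨ orderOf g = 3 ∨ orderOf g = 4 ∨ orderOf g = 7 := by
  rcases eq_or_ne g 1 with rfl | hg
  · simp
  · have := cent h hg
    omega

theorem isConj_two {s t : G} (hs : orderOf s = 2) (ht : orderOf t = 2) : IsConj s t := by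
  obtain ⟨e⟩ := Cfsg.Agent.S0495.result h (F := F7) rfl
  simpa using e.symm.toMonoidHom.map_isConj (isConj_invol_PSL two_ne
    ((e.orderOf_eq s).trans hs) ((e.orderOf_eq t).trans ht))

theorem card_isConj {g : G} {n m : ℕ} (hn : Nat.card (centralizer ({g} : Set G)) = n)
    (hm : n * m = 168) : Nat.card {y // IsConj g y} = m := by
  have := card_centralizer_mul_card_isConj g
  rw [hn, h, ← hm] at this
  exact Nat.eq_of_mul_eq_mul_left (Nat.pos_of_ne_zero (by rintro rfl; omega)) this

omit h in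
theorem isConj_of_card {n : ℕ} {s t : G} (hs : orderOf s = n) (ht : orderOf t = n)
    (h : Nat.card {g : G // orderOf g = n} ≤ Nat.card {y // IsConj s y}) : IsConj s t :=
  (Set.eq_of_subset_of_ncard_le (s := {y | IsConj s y}) (t := {g | orderOf g = n})
    (fun y hy => by
      obtain ⟨c, rfl⟩ := isConj_iff.1 hy
      rwa [Set.mem_setOf_eq, ← MulAut.conj_apply, MulEquiv.orderOf_eq]) h).ge ht

theorem card_two : Nat.card {g : G // orderOf g = 2} = 21 := by
  obtain ⟨s, hs⟩ := exists_prime_orderOf_dvd_card' (G := G) 2 (by rw [h]; norm_num)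
  rw [← card_isConj h (cent_two h hs) (m := 21) rfl]
  refine Nat.card_congr (Equiv.subtypeEquivRight fun y => ⟨isConj_two h hs, fun hy => ?_⟩)
  obtain ⟨c, rfl⟩ := isConj_iff.1 hy
  rwa [← MulAut.conj_apply, MulEquiv.orderOf_eq]

theorem n7 : Nat.card (Sylow 7 G) = 8 := by
  simpa using card_sylow_mem (nc h) h 7 0 24 (by norm_num) (by norm_num) [7 + 1] (by decide +kernel)

theorem n3 : Nat.card (Sylow 3 G) = 28 := by
  obtain ⟨s, hs⟩ := exists_prime_orderOf_dvd_card' (G := G) 3 (by rw [h]; norm_num)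
  obtain ⟨S, rfl, hK⟩ := exists_pset_self hs (cent_eq h (by omega))
  obtain ⟨B, hB⟩ := S.exists_pblk
  have h1 := B.fi_ne_one (commutator_eq_top (nc h)) hB
  have h2 := PSet.card_eq' hK
  rw [h, ((Nat.dvd_prime Nat.prime_two).1 (PSet.fi_dvd (S := S))).resolve_left h1,
    S.index_N] at h2
  omega

theorem card_prime {p m : ℕ} [Fact p.Prime] (h1 : 168 = p ^ 1 * m) (h2 : ¬ p ∣ m) :
    Nat.card {g : G // orderOf g = p} = Nat.card (Sylow p G) * (p - 1) := by
  obtain ⟨P⟩ : Nonempty (Sylow p G) := inferInstance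
  exact card_orderOf_eq_prime P ((Small.card_sylow_eq P (h.trans h1) h2).trans (pow_one p))

theorem card_three : Nat.card {g : G // orderOf g = 3} = 56 := by
  rw [card_prime h (m := 56) rfl (by norm_num), n3 h]

theorem card_seven : Nat.card {g : G // orderOf g = 7} = 48 := by
  rw [card_prime h (m := 24) rfl (by norm_num), n7 h]

theorem card_four : Nat.card {g : G // orderOf g = 4} = 42 := by
  classical
  have := Fintype.ofFinite G
  have h1 := Finset.card_eq_sum_card_fiberwise (f := orderOf) (s := (Finset.univ : Finset G))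
    (t := {1, 2, 3, 4, 7}) fun g _ => by simpa using ord h g
  have h2 : ∀ n, (Finset.univ.filter fun g : G => orderOf g = n).card =
      Nat.card {g : G // orderOf g = n} := fun n => by
    rw [Nat.card_eq_fintype_card, Fintype.card_subtype]
  rw [Finset.card_univ, ← Nat.card_eq_fintype_card, h] at h1
  simp only [h2] at h1
  rw [Finset.sum_insert (by decide), Finset.sum_insert (by decide), Finset.sum_insert (by decide),
    Finset.sum_pair (by decide), card_two h, card_three h, card_seven h] at h1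
  simp only [orderOf_eq_one_iff, Nat.card_unique] at h1
  omega

theorem card_T (T : Sylow 2 G) : Nat.card (T : Subgroup G) = 8 :=
  Small.card_sylow_eq T (a := 3) (m := 21) h (by norm_num)

theorem cent_eq_T (T : Sylow 2 G) {z : G} (h1 : z ≠ 1)
    (h2 : ∀ t ∈ (T : Subgroup G), t * z = z * t) : centralizer ({z} : Set G) = T :=
  (eq_of_le_of_card_ge (fun t ht => mem_centralizer_singleton_iff.2 (h2 t ht)) (by
    have := cent h h1
    rw [card_T h]; omega)).symm

theorem exists_z (T : Sylow 2 G) : ∃ z, orderOf z = 2 ∧ centralizer ({z} : Set G) = T := by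
  have : Nontrivial (T : Subgroup G) := Finite.one_lt_card_iff_nontrivial.1 (by simp [card_T h])
  have := T.isPGroup'.center_nontrivial
  obtain ⟨⟨⟨z, hz⟩, hc⟩, h1⟩ := exists_ne (1 : center (T : Subgroup G))
  have h2 : z ≠ 1 := fun e => h1 (Subtype.ext (Subtype.ext e))
  have h3 := cent_eq_T h T h2 fun t ht => congrArg Subtype.val (mem_center_iff.1 hc ⟨t, ht⟩)
  have := cent h h2
  rw [h3, card_T h] at this
  exact ⟨z, by omega, h3⟩

theorem dihedral (T : Sylow 2 G) : Nonempty ((T : Subgroup G) ≃* DihedralGroup 4) := by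
  obtain ⟨z, h1, h2⟩ := exists_z h T
  obtain ⟨φ, _, _, L, -, -⟩ := exists_L2 h
  have h3 : z * z = 1 := by rw [← pow_two, ← h1, pow_orderOf_eq_one]
  have h4 : z ≠ 1 := by rintro rfl; simp at h1
  obtain ⟨x, y, hxy, hz⟩ := L.exists_torus_of_mul_self two_ne h3
  obtain ⟨⟨t, h5, h6⟩, -⟩ := L.torus_cases hxy fun e => h4 (e.le hz)
  have h7 := card_pairStab hxy h5 h6
  have h8 := pairStab_equiv_dihedral hxy h5 h6
  rw [← centralizer_eq_pairStab hxy h4 hz h3, h2] at h7 h8
  rwa [show Nat.card (torus G x y) = 4 by rw [card_T h] at h7; omega] at h8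

theorem norm_four {U : Subgroup G} (hU : IsKleinFour U) :
    Nonempty (normalizer (U : Set G) ≃* Equiv.Perm (Fin 4)) := by
  obtain ⟨φ, _, _, L, h1, -⟩ := exists_L2 h
  have h2 := normalizer_four_equiv two_ne (isKleinFour_map hU L.inj) (h1 ▸ map_le_range φ U)
  have h3 := comap_normalizer_eq_of_le_range (map_le_range φ U)
  rw [comap_map_eq_self_of_injective L.inj] at h3
  rwa [← L.equiv_map_iff, ← h3, map_comap_eq_self (h1 ▸ (S4_le_psl_iff two_ne h2).2 ⟨3, by decide⟩)]

theorem exists_four {M : Subgroup G} (hM : Nonempty (M ≃* Equiv.Perm (Fin 4))) :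
    ∃ U : Subgroup G, IsKleinFour U ∧ M = normalizer (U : Set G) := by
  obtain ⟨φ, _, _, L, h1, -⟩ := exists_L2 h
  obtain ⟨V, h2, h3, h4⟩ := exists_eq_normalizer_four two_ne (L.equiv_map_iff.2 hM)
  rw [← h1] at h3
  exact ⟨V.comap φ, isKleinFour_of_map L.inj (by rwa [map_comap_eq_self h3]), by
    rw [← comap_normalizer_eq_of_le_range h3, ← h4, comap_map_eq_self_of_injective L.inj]⟩

theorem exists_pair (T : Sylow 2 G) : ∃ U W : Subgroup G, U ≤ T ∧ W ≤ T ∧ IsKleinFour U ∧
    IsKleinFour W ∧ (∀ g, cj g U ≠ W) ∧ ∀ V : Subgroup G, V ≤ T → IsKleinFour V → V = U ∨ V = W := by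
  obtain ⟨e⟩ := dihedral h T
  obtain ⟨n, a, b, h1, h2⟩ := Invol.exists_dh T.isPGroup' (by norm_num) e
  obtain rfl : n = 2 := (Nat.pow_right_injective le_rfl (show 2 ^ 2 = 2 ^ n from h1)).symm
  refine ⟨_, _, sup_le (zpowers_le.2 (h2.a_mem _)) (zpowers_le.2 (h2.b_mem _)),
    sup_le (zpowers_le.2 (h2.a_mem _)) (zpowers_le.2 (h2.b_mem _)), h2.klein 0, h2.klein 1,
    h2.not_conj_T (isSylowIn_top T) le_rfl, fun V hV hK => ?_⟩
  obtain ⟨s, hs, h3⟩ := h2.klein_conj_cases hV hK
  refine h3.imp (fun e => ?_) fun e => ?_ <;>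
    exact (cj_eq_iff.1 e).trans (cj_eq_of_mem_normalizer (inv_mem (h2.le_normalizer_M _ hs)))

theorem norm_T (T : Sylow 2 G) : normalizer ((T : Subgroup G) : Set G) = T := by
  obtain ⟨z, h1, h2⟩ := exists_z h T
  refine le_antisymm (fun g hg => ?_) le_normalizer
  obtain ⟨e⟩ := dihedral h T
  have h3 : ∀ a b : DihedralGroup 4, a ≠ 1 → b ≠ 1 → (∀ c, c * a = a * c) → (∀ c, c * b = b * c) →
      a = b := by decide
  have h4 : ∀ {y : G} (hy : y ∈ (T : Subgroup G)), centralizer ({y} : Set G) = T →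
      ∀ c, c * e ⟨y, hy⟩ = e ⟨y, hy⟩ * c := fun hy h' c => by
    obtain ⟨c, rfl⟩ := e.surjective c
    rw [← map_mul, ← map_mul]
    exact congrArg e (Subtype.ext (mem_centralizer_singleton_iff.1 (h'.ge c.2)))
  have hz : z ∈ (T : Subgroup G) := h2.le (mem_centralizer_singleton_iff.2 rfl)
  have h5 : z ≠ 1 := by rintro rfl; simp at h1
  have := congrArg Subtype.val (e.injective (h3 _ _ (by simpa [Subtype.ext_iff]) (by
    simpa [Subtype.ext_iff]) (h4 (conj_mem_of_mem_normalizer hg hz) (by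
      rw [← Set.image_singleton (f := fun x => g * x * g⁻¹), centralizer_conj_image, h2,
        cj_eq_of_mem_normalizer hg])) (h4 hz h2)))
  exact h2.le (mem_centralizer_singleton_iff.2 (mul_inv_eq_iff_eq_mul.1 this))

theorem card_S4 {M : Subgroup G} (hM : Nonempty (M ≃* Equiv.Perm (Fin 4))) : Nat.card M = 24 := by
  rw [card_of_equiv hM, Nat.card_perm]; simp [Nat.factorial]

theorem coatom_S4 {M : Subgroup G} (hM : Nonempty (M ≃* Equiv.Perm (Fin 4))) : IsCoatom M := by
  have := M.card_mul_index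
  rw [card_S4 h hM, h] at this
  exact isCoatom_of_index_prime (by rw [show M.index = 7 by omega]; norm_num)

theorem eq_of_norm_eq {U W : Subgroup G} (hU : IsKleinFour U) (hW : IsKleinFour W)
    (e : normalizer (U : Set G) = normalizer (W : Set G)) : U = W := by
  by_contra h1
  obtain ⟨T, hT⟩ := ((Invol.klein_isPGroup hU).to_sup_of_normal_right' (Invol.klein_isPGroup hW)
    (e ▸ le_normalizer)).exists_le_sylow
  have h2 : U < U ⊔ W := left_lt_sup.2 fun h' =>
    h1 (eq_of_le_of_card_ge h' (by rw [hU.card_four, hW.card_four])).symm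
  have h3 := Transfer.card_lt_of_lt h2
  have h4 := card_dvd_of_le hT
  rw [card_T h] at h4
  rw [hU.card_four] at h3
  have h5 : U ⊔ W = T := eq_of_le_of_card_ge hT (by
    have := Nat.le_of_dvd (by norm_num) h4
    rw [card_T h]
    generalize Nat.card (U ⊔ W : Subgroup G) = n at *
    interval_cases n <;> simp_all)
  have h6 := card_le_of_le (normalizer_inf_normalizer_le_normalizer_sup U W)
  rw [← e, inf_idem, h5, norm_T h, card_T h, card_S4 h (norm_four h hU)] at h6
  omega

theorem coatom {M : Subgroup G} (hM : IsCoatom M) : Nonempty (M ≃* Equiv.Perm (Fin 4)) ∨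
    ∃ P : Sylow 7 G, M = normalizer ((P : Subgroup G) : Set G) := by
  obtain ⟨φ, _, _, L, h1, h2⟩ := exists_L2 h
  obtain ⟨T⟩ : Nonempty (Sylow 2 G) := inferInstance
  obtain ⟨U, -, -, -, hU, -⟩ := exists_pair h T
  have h3 := norm_four h hU
  rcases L.coatom_cases (by simp [card7]) hM (fun e => hM.1 (eq_top_iff.2 fun g _ =>
    (mem_map_iff_mem L.inj).1 (e (h1.le ⟨g, rfl⟩)))) with
    ⟨x, rfl⟩ | ⟨x, y, hxy, h4, rfl⟩ | ⟨-, e | e | e⟩ | ⟨K, -, hK, -⟩
  · have h4 := L.card_unip_ratPt x
    obtain ⟨P, hP⟩ := (IsPGroup.of_card (p := 7) (n := 1) (h4.trans card7)).exists_le_sylow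
    exact .inr ⟨P, by
      rw [← eq_of_le_of_card_ge hP (by
        rw [h4, card7, Small.card_sylow_eq P (a := 1) (m := 24) h (by norm_num)]; rfl),
        normalizer_unip (L.unip_ratPt_ne_bot x)]⟩
  · have h5 := (L.torus_cases hxy h4).2
    rw [h2, card7] at h5
    have := L.card_eq_of_isCoatom_pairStab hxy hM (by rw [h2]; omega)
      (S := (normalizer (U : Set G)).map φ) (lt_of_le_of_ne (map_le_range _ _) fun e =>
        (coatom_S4 h h3).1 (map_injective L.inj (e.trans φ.range_eq_map))) fun E hE => by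
      obtain ⟨e₁⟩ := hE
      obtain ⟨e₂⟩ := L.equiv_map_iff.2 h3
      rcases h5 with h5 | h5
      · exact (show Nat.card (torus G x y) = 3 by omega) ▸ exists_inverted_S4_three ⟨e₁.trans e₂⟩
      · exact (show Nat.card (torus G x y) = 4 by omega) ▸ exists_inverted_S4_four ⟨e₁.trans e₂⟩
    rw [card_map_of_injective L.inj, card_S4 h h3] at this
    omega
  · obtain ⟨S, h4, h5⟩ := A4_le_S4 two_ne (L.equiv_map_iff.2 e)
    have h6 : S ≤ φ.range := h1 ▸ (S4_le_psl_iff two_ne h5).2 ⟨3, by decide⟩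
    rw [← map_comap_eq_self h6, L.equiv_map_iff] at h5
    exact .inl (hM.le_iff_eq (coatom_S4 h h5).1 |>.1 (map_le_iff_le_comap.1 h4) ▸ h5)
  · exact .inl e
  · have := M.card_subgroup_dvd_card
    rw [card_of_equiv e, h, nat_card_alternatingGroup] at this
    simp [Nat.factorial] at this
  · exact absurd (subfield_eq_top_of_prime (by rw [card7]; norm_num) K) hK

theorem card_norm7 (P : Sylow 7 G) : Nat.card (normalizer ((P : Subgroup G) : Set G)) = 21 := by
  have := card_sylow_mul_card_normalizer P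
  rw [n7 h, h] at this
  omega

end CF.Small.O168
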