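import Mathlib
import Cfsg.Agent.Small.O360
import Cfsg.Agent.S3188
import Cfsg.Agent.Recog.J1.Rec
import Cfsg.Agent.CIT.Few2
import Cfsg.Agent.GW.Main
import Cfsg.Agent.Loc.Two
import Cfsg.Agent.Transfer.Tate
import Cfsg.Agent.ZD.Rk1

/-!
# Simple groups of order 175560
-/

set_option autoImplicit false
set_option linter.unusedSectionVars false

namespace CF.Small

open Subgroup CF.BlockB Cfsg CF.PF Sv
open scoped MatrixGroups commutatorElement

variable {p : ℕ} [hp : Fact p.Prime] {G : Type*} [Group G] [Finite G]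

theorem le_cent_of_norm {Q : Subgroup G} {u : G} (hu : orderOf u = p)
    (hn : u ∈ normalizer (Q : Set G)) (hQ : Nat.card Q < p) : Q ≤ centralizer {u} := by
  classical
  let f := (MulAut.toPerm Q).comp Q.normalizerMonoidHom
  have h1 : orderOf (f ⟨u, hn⟩) ∣ p := hu ▸ (orderOf_map_dvd f _).trans (orderOf_mk u hn).dvd
  have h2 := orderOf_dvd_natCard (f ⟨u, hn⟩)
  rw [Nat.card_perm] at h2
  have h3 : f ⟨u, hn⟩ = 1 := orderOf_eq_one_iff.1 (((Nat.dvd_prime hp.out).1 h1).resolve_right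
    fun e => absurd ((hp.out.dvd_factorial).1 (e ▸ h2)) (by omega))
  intro x hx
  have h4 : u * x * u⁻¹ = x := congrArg Subtype.val (Equiv.congr_fun h3 ⟨x, hx⟩)
  exact mem_centralizer_singleton_iff.2 (mul_inv_eq_iff_eq_mul.1 h4).symm

namespace PSet

theorem card_cent (S : PSet p G) {g : G} (hg : orderOf g = p) :
    Nat.card (centralizer ({g} : Set G)) = p * Nat.card S.K := by
  obtain ⟨a, ha⟩ := S.exists_conj_mem_P (x := g) (k := 1) (by rw [pow_one, ← hg, pow_orderOf_eq_one])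
  obtain ⟨i, hi⟩ := S.mem_P_iff.1 ha
  have h0 : i ≠ 0 := by
    rintro rfl
    rw [S.zp_zero, eq_comm, mul_inv_eq_one, mul_eq_left] at hi
    exact hp.out.ne_one (by rw [← hg, hi, orderOf_one])
  have h1 : centralizer {S.zp i} = S.C := by
    ext c
    rw [mem_centralizer_singleton_iff]
    exact ⟨fun h => S.mem_C_of_commute h0 h, fun h => S.commute_zp h i⟩
  rw [← S.card_C, ← h1, hi]
  exact Invol.card_centralizer_eq_of_isConj (isConj_iff.2 ⟨a, rfl⟩)

theorem comm_N_le (S : PSet p G) : ⁅S.N, S.N⁆ ≤ S.C := Subgroup.commutator_le.2 fun a ha b hb => by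
  have h1 := mul_mem ha hb
  have h2 := mul_mem h1 (inv_mem ha)
  rw [commutatorElement_def, ← S.act_eq_one_iff (mul_mem h2 (inv_mem hb)),
    S.act_mul h2 (inv_mem hb), S.act_mul h1 (inv_mem ha), S.act_mul ha hb, S.act_inv ha,
    S.act_inv hb]
  have := S.act_ne_zero ha
  have := S.act_ne_zero hb
  field_simp

theorem par [IsSimpleGroup G] (hG : ¬ IsMulCommutative G) (S : PSet p G) :
    ∃ j, j ≠ 0 ∧ Nat.card G = p * Nat.card S.K * S.fi * (j * p + 1) ∧ 2 ≤ S.fi ∧ S.fi ∣ p - 1 ∧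
      idxOK (Nat.card G) (j * p + 1) = true := by
  obtain ⟨B, hB⟩ := S.exists_pblk
  obtain ⟨j, hj⟩ := S.exists_index_N
  have hG' := commutator_eq_top hG
  have hf := B.fi_ne_one hG' hB
  have hf0 := PSet.fi_pos (S := S)
  have hν := S.index_N_ne_one hG' hf
  exact ⟨j, by rintro rfl; omega, hj ▸ S.card_eq, by omega, fi_dvd,
    idxOK_of hG rfl (mt index_eq_one.2 hν) hj.le⟩

end PSet

theorem sol_cent_of_dvd (h : Nat.card G ∣ 87780) {j : G} (hj : orderOf j = 2) :
    Group.IsSolvable (centralizer ({j} : Set G)) := by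
  set X := centralizer ({j} : Set G)
  have hx : j ∈ X := mem_centralizer_singleton_iff.2 rfl
  let Z := zpowers (⟨j, hx⟩ : X)
  have hZ : Z ≤ center X := zpowers_le.2 (mem_center_iff.2 fun g =>
    Subtype.ext (mem_centralizer_singleton_iff.1 g.2))
  haveI : Z.Normal := ⟨fun x h g => by rwa [mem_center_iff.1 (hZ h) g, mul_inv_cancel_right]⟩
  have h1 := Z.card_mul_index
  rw [Nat.card_zpowers, orderOf_mk, hj] at h1
  have h2 : Z.index ∣ 43890 := Nat.dvd_of_mul_dvd_mul_left two_pos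
    (h1 ▸ (card_subgroup_dvd_card X).trans h)
  haveI : IsZGroup (X ⧸ Z) := IsZGroup.of_squarefree (Squarefree.squarefree_of_dvd h2 (by
    rw [Nat.squarefree_iff_nodup_primeFactorsList (by norm_num)]; simp))
  exact solvable_of_ker_le_range Z.subtype (QuotientGroup.mk' Z) (by simp)

theorem card_psl_cases {F : Type*} [Field F] [Fintype F] {n : ℕ} (hn : n ≤ 175560)
    (h : Nat.card PSL(2, F) ∣ n) (h0 : n ≠ 0) : ∃ q < 80, Fintype.card F = q ∧
      Nat.gcd 2 (q - 1) * Nat.card PSL(2, F) = q * (q ^ 2 - 1) := by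
  have h1 := CF.Classical.card_PSL_two' (F := F)
  rw [Nat.card_eq_fintype_card (α := F)] at h1
  refine ⟨_, by_contra fun hq => ?_, rfl, h1⟩
  have h2 := Nat.le_of_dvd (by omega) h
  have h3 : Nat.gcd 2 (Fintype.card F - 1) ≤ 2 := Nat.gcd_le_left _ two_pos
  have h4 : 80 * (80 ^ 2 - 1) ≤ Fintype.card F * (Fintype.card F ^ 2 - 1) :=
    Nat.mul_le_mul (by omega) (Nat.sub_le_sub_right (Nat.pow_le_pow_left (by omega) 2) 1)
  have := Nat.mul_le_mul h3 h2
  omega

theorem struct4 (h : Nat.card G ∣ 87780) (ns : ¬ Group.IsSolvable G) :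
    ∃ (F : Type) (_ : Field F) (_ : Fintype F) (n : ℕ), Nat.card PSL(2, F) = n ∧
      ((n = 60 ∧ (Nat.card F = 4 ∨ Nat.card F = 5)) ∨ n = 660) ∧ n ∣ Nat.card G ∧
      (Nat.card G = n → Nonempty (G ≃* PSL(2, F))) ∧
      ∀ r, r.Prime → 7 ≤ r → r ∣ Nat.card G → ¬ r ∣ n → ∀ s ∈ [4, 3, 5],
        ∃ u : G, orderOf u = r ∧ s ∣ Nat.card (centralizer ({u} : Set G)) := by
  haveI : Fact (Nat.Prime 2) := ⟨Nat.prime_two⟩
  obtain ⟨T⟩ : Nonempty (Sylow 2 G) := inferInstance
  have hT : IsMulCommutative (T : Subgroup G) := by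
    obtain ⟨k, hk⟩ := T.isPGroup'.exists_card_eq
    have h1 : 2 ^ k ∣ 87780 := hk ▸ (card_subgroup_dvd_card _).trans h
    have h2 : k < 3 := by_contra fun h => absurd ((pow_dvd_pow 2 (not_lt.1 h)).trans h1) (by norm_num)
    interval_cases k
    · haveI := (Nat.card_eq_one_iff_unique.1 hk).1
      exact ⟨⟨fun a b => Subsingleton.elim _ _⟩⟩
    · haveI := isCyclic_of_prime_card (p := 2) hk
      infer_instance
    · exact IsPGroup.isMulCommutative_of_card_eq_prime_sq hk
  obtain ⟨F, _, _, hq, N, hN, ⟨e⟩, -⟩ :=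
    (Cfsg.Agent.S3188.result T hT fun t ht => sol_cent_of_dvd h ht).resolve_left ns
  set O := oddCore G
  let π := QuotientGroup.mk' O
  have hπ : Function.Surjective π := QuotientGroup.mk'_surjective O
  have c1 : Nat.card PSL(2, F) = Nat.card N := (Nat.card_congr e.toEquiv).symm
  have c2 : Nat.card N ∣ Nat.card (G ⧸ O) := card_subgroup_dvd_card N
  have c3 : Nat.card G = Nat.card (G ⧸ O) * Nat.card O := card_eq_card_quotient_mul_card_subgroup O
  have c4 : Nat.card PSL(2, F) ∣ Nat.card G := c1 ▸ c3 ▸ c2.mul_right _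
  obtain ⟨q, q1, q2, q3⟩ := card_psl_cases (by norm_num) (c4.trans h) (by norm_num)
  have q4 : 4 ≤ q := by
    rcases hq with hq | ⟨n, h1, h2⟩
    · omega
    · exact q2 ▸ h2 ▸ Nat.pow_le_pow_right two_pos h1
  have q5 : (Nat.card PSL(2, F) = 60 ∧ (q = 4 ∨ q = 5)) ∨ Nat.card PSL(2, F) = 660 := by
    have h1 := c4.trans h
    have h2 : IsPrimePow q := q2 ▸ FiniteField.isPrimePow_card F
    generalize Nat.card PSL(2, F) = n at *
    have h3 : q * (q ^ 2 - 1) ∣ Nat.gcd 2 (q - 1) * 87780 := q3 ▸ mul_dvd_mul_left _ h1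
    have h4 : ∀ q < 80, 4 ≤ q → q * (q ^ 2 - 1) ∣ Nat.gcd 2 (q - 1) * 87780 → IsPrimePow q →
      q = 4 ∨ q = 5 ∨ q = 11 := by decide +kernel
    rcases h4 q q1 q4 h3 h2 with rfl | rfl | rfl <;> norm_num at q3 <;> omega
  have q6 : 60 ∣ Nat.card PSL(2, F) := by omega
  refine ⟨F, inferInstance, inferInstance, _, rfl, by rwa [Nat.card_eq_fintype_card (α := F), q2], c4, fun h1 => ?_,
    fun r hr r7 r1 r2 s hs => ?_⟩
  · have h2 := Nat.le_of_dvd Nat.card_pos c2
    have h3 : 0 < Nat.card O := Nat.card_pos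
    have h4 : 0 < Nat.card N := Nat.card_pos
    have h5 : Nat.card O = 1 := by nlinarith
    have h6 : N = ⊤ := eq_top_of_card_eq _ (by rw [h5, mul_one] at c3; exact c1.symm.trans (h1.symm.trans c3))
    subst h6
    exact ⟨(MulEquiv.ofBijective π ⟨(MonoidHom.ker_eq_bot_iff _).1 (by
      rw [QuotientGroup.ker_mk', card_eq_one.1 h5]), hπ⟩).trans (topEquiv.symm.trans e)⟩
  haveI := Fact.mk hr
  have r3 : ¬ r ^ 2 ∣ Nat.card G := fun h1 => by
    have h2 : r ^ 2 ∣ 4 * 21945 := h1.trans h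
    have h3 := (Nat.Coprime.pow_left 2 ((Nat.coprime_primes hr Nat.prime_two).2 (by omega) |>.pow_right 2)).dvd_of_dvd_mul_left h2
    have h4 : Squarefree 21945 := by
      rw [Nat.squarefree_iff_nodup_primeFactorsList (by norm_num)]; simp
    exact hr.one_lt.ne' (Nat.isUnit_iff.1 (h4 r (pow_two r ▸ h3)))
  have s1 : s ∣ 60 := by simp at hs; rcases hs with rfl | rfl | rfl <;> norm_num
  by_cases hO : r ∣ Nat.card O
  · obtain ⟨P⟩ : Nonempty (Sylow r O) := inferInstance
    obtain ⟨m, hm⟩ := hO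
    have h1 : Nat.card P = r ^ 1 := card_sylow_eq P (m := m) (by rw [hm, pow_one]) fun ⟨k, hk⟩ =>
      r3 ⟨k * Nat.card (G ⧸ O), by rw [c3, hm, hk]; ring⟩
    obtain ⟨S, hS⟩ := exists_pset (p := r) ((P : Subgroup O).map O.subtype)
      (by rw [card_map_of_injective O.subtype_injective, h1, pow_one]) r3
    have h2 : S.N ⊔ O = ⊤ := by rw [PSet.N, PSet.P, hS]; exact P.normalizer_sup_eq_top
    have h3 : S.N.map π = ⊤ := by
      rw [← map_top_of_surjective π hπ, ← h2, Subgroup.map_sup, (map_eq_bot_iff O).2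
        (QuotientGroup.ker_mk' O).ge, sup_bot_eq]
    haveI := CF.Classical.isSimpleGroup_PSL2 (F := F) (by rwa [Nat.card_eq_fintype_card, q2])
    haveI := e.isSimpleGroup
    have h4 : commutator N = ⊤ := commutator_eq_top (not_comm_of_not_prime (by
      rw [← c1]; rcases q5 with h | h <;> simp only [h] <;> norm_num))
    have h5 : N ≤ S.C.map π := by
      calc N = (commutator N).map N.subtype := by rw [h4, ← MonoidHom.range_eq_map, range_subtype]
        _ ≤ ⁅(⊤ : Subgroup (G ⧸ O)), ⊤⁆ := by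
          rw [commutator_def, map_commutator]; exact commutator_mono le_top le_top
        _ ≤ _ := by rw [← h3, ← map_commutator]; exact map_mono S.comm_N_le
    exact ⟨S.z, S.ord, S.centralizer_z ▸ (s1.trans (c1 ▸ q6)).trans
      ((card_dvd_of_le h5).trans (card_map_dvd _ _))⟩
  · set M := N.comap π
    have h1 : Nat.card M = Nat.card N * Nat.card O := by
      have h2 := M.card_mul_index
      have h3 := N.card_mul_index
      rw [index_comap_of_surjective _ hπ, c3, ← h3] at h2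
      exact Nat.eq_of_mul_eq_mul_right (Nat.pos_of_ne_zero N.index_ne_zero_of_finite)
        (h2.trans (by ring))
    have h2 : ¬ r ∣ Nat.card M := h1 ▸ hr.not_dvd_mul (c1 ▸ r2) hO
    have key : ∀ (l a : ℕ), l.Prime → l ^ a ∣ 60 → ¬ l ^ (a + 1) ∣ 87780 → l ^ a < 7 →
        ∃ u : G, orderOf u = r ∧ l ^ a ∣ Nat.card (centralizer ({u} : Set G)) := by
      intro l a hl l1 l2 l3
      haveI := Fact.mk hl
      obtain ⟨P⟩ : Nonempty (Sylow l M) := inferInstance
      obtain ⟨m, hm⟩ : l ^ a ∣ Nat.card M := h1 ▸ (l1.trans (c1 ▸ q6)).mul_right _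
      have h3 : Nat.card P = l ^ a := card_sylow_eq P hm fun ⟨k, hk⟩ =>
        l2 (Dvd.dvd.trans ⟨k, by rw [hm, hk]; ring⟩ ((card_subgroup_dvd_card M).trans h))
      set Q := (P : Subgroup M).map M.subtype
      have h4 : Nat.card Q = l ^ a := by rw [card_map_of_injective M.subtype_injective, h3]
      have h5 : normalizer (Q : Set G) ⊔ M = ⊤ := P.normalizer_sup_eq_top
      have h6 : r ∣ Nat.card (normalizer (Q : Set G)) := by
        have h7 := M.card_mul_index
        rw [← relIndex_top_right, ← h5, relIndex_sup_right] at h7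
        exact ((hr.dvd_mul.1 (h7 ▸ r1)).resolve_left h2).trans (relIndex_dvd_card _ _)
      obtain ⟨u, hu⟩ := exists_prime_orderOf_dvd_card' r h6
      rw [← orderOf_coe] at hu
      exact ⟨u, hu, h4 ▸ card_dvd_of_le (le_cent_of_norm hu u.2 (by omega))⟩
    simp only [List.mem_cons, List.not_mem_nil, or_false] at hs
    rcases hs with rfl | rfl | rfl
    · exact key 2 2 (by norm_num) (by norm_num) (by norm_num) (by norm_num)
    · exact key 3 1 (by norm_num) (by norm_num) (by norm_num) (by norm_num)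
    · exact key 5 1 (by norm_num) (by norm_num) (by norm_num) (by norm_num)

theorem not_dvd_cent [IsSimpleGroup G] (h : Nat.card G = 175560) (hp7 : 7 ≤ p) {u : G}
    (hu : orderOf u = p) : ¬ 120 ∣ Nat.card (centralizer ({u} : Set G)) := fun h1 => by
  have h2 : p ∣ 175560 := h ▸ hu ▸ orderOf_dvd_natCard u
  have h3 : p = 7 ∨ p = 11 ∨ p = 19 := by
    have := (Nat.mem_primeFactorsList (by norm_num)).2 ⟨hp.out, h2⟩
    simp at this
    omega
  obtain ⟨S⟩ : Nonempty (PSet p G) := nonempty_pset (h ▸ h2) (by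
    rw [h]; rcases h3 with rfl | rfl | rfl <;> norm_num)
  obtain ⟨j, -, h4, h5, h6, -⟩ := S.par (nc_of_card h (by norm_num))
  rw [S.card_cent hu] at h1
  obtain ⟨c, hc⟩ := Nat.Coprime.dvd_of_dvd_mul_left (k := 120)
    (by rcases h3 with rfl | rfl | rfl <;> norm_num) h1
  have h7 : S.fi ∣ 1463 := ⟨p * c * (j * p + 1), by rw [h, hc] at h4; linarith⟩
  have := Nat.le_of_dvd one_pos (show S.fi ∣ 1 by
    have := Nat.dvd_gcd h6 h7
    rcases h3 with rfl | rfl | rfl <;> simpa using this)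
  omega

theorem j1_num7 : ∀ i < 200, ∀ e ∈ [2, 3, 6], e * (i * 7 + 1) ∣ 1320 → i ≠ 0 →
    idxOK 175560 (i * 7 + 1) = true → 2 ∣ 1320 / (e * (i * 7 + 1)) := by decide +kernel

theorem j1_num19 : ∀ j < 500, ∀ e ∈ [2, 3, 6, 9, 18], e * (j * 19 + 1) ∣ 9240 → j ≠ 0 →
    ¬ 2 ∣ 9240 / (e * (j * 19 + 1)) → ¬ 7 ∣ 9240 / (e * (j * 19 + 1)) →
      9240 / (e * (j * 19 + 1)) ∣ 3 ∧ 2 ∣ e := by decide +kernel

theorem not_1320 [IsSimpleGroup G] (h : Nat.card G = 175560) {t : G}
    (hc : Nat.card (centralizer ({t} : Set G)) = 1320)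
    (ha : ∀ s : G, orderOf s = 2 → IsConj t s) : False := by
  classical
  have hG := nc_of_card h (by norm_num)
  have hcc : ∀ s : G, orderOf s = 2 → Nat.card (centralizer ({s} : Set G)) = 1320 := fun s hs =>
    (Invol.card_centralizer_eq_of_isConj (ha s hs)).symm.trans hc
  have odd : ∀ (r : ℕ) [Fact r.Prime] (S : PSet r G), ¬ r ∣ 1320 → ¬ 2 ∣ Nat.card S.K := by
    intro r _ S hr h2
    obtain ⟨s, hs⟩ := exists_prime_orderOf_dvd_card' 2 h2
    rw [← orderOf_coe] at hs
    exact hr (hcc s hs ▸ S.ord.symm.dvd.trans (orderOf_dvd_natCard _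
      (mem_centralizer_singleton_iff.2 (S.mem_C_iff.1 (S.K_le_C s.2)).symm)))
  haveI : Fact (Nat.Prime 19) := ⟨by norm_num⟩
  haveI : Fact (Nat.Prime 7) := ⟨by norm_num⟩
  obtain ⟨S⟩ : Nonempty (PSet 19 G) := nonempty_pset (by rw [h]; norm_num) (by rw [h]; norm_num)
  obtain ⟨R⟩ : Nonempty (PSet 7 G) := nonempty_pset (by rw [h]; norm_num) (by rw [h]; norm_num)
  obtain ⟨j, j0, h1, h2, h3, -⟩ := S.par hG
  obtain ⟨i, i0, h4, h5, h6, h7⟩ := R.par hG
  have o1 := odd _ S (by norm_num)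
  have o2 := odd _ R (by norm_num)
  rw [h] at h1 h4 h7
  have h8 : ¬ 7 ∣ Nat.card S.K := fun h8 => by
    obtain ⟨s, hs⟩ := exists_prime_orderOf_dvd_card' 7 h8
    rw [← orderOf_coe] at hs
    have h9 : 19 ∣ 7 * Nat.card R.K := R.card_cent hs ▸ S.ord.symm.dvd.trans (orderOf_dvd_natCard _
      (mem_centralizer_singleton_iff.2 (S.mem_C_iff.1 (S.K_le_C s.2)).symm))
    obtain ⟨c, hc⟩ : 19 ∣ Nat.card R.K := by omega
    have h10 : c * R.fi * (i * 7 + 1) = 1320 := by rw [hc] at h4; linarith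
    have h11 := j1_num7 i (by
      have := Nat.le_of_dvd (by norm_num) (Dvd.intro_left _ h10); omega) R.fi (by
      have := Nat.le_of_dvd (by norm_num) h6
      generalize R.fi = e at h5 h6 this ⊢
      interval_cases e <;> simp at h6 ⊢) ⟨c, by rw [← h10]; ring⟩ i0 h7
    rw [← h10, mul_assoc, Nat.mul_div_cancel _ (by positivity)] at h11
    omega
  have h9 : Nat.card S.K ∣ 3 ∧ 2 ∣ S.fi := by
    have h10 : Nat.card S.K * S.fi * (j * 19 + 1) = 9240 := by linarith
    have h11 := j1_num19 j (by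
      have := Nat.le_of_dvd (by norm_num) (Dvd.intro_left _ h10); omega) S.fi (by
      have := Nat.le_of_dvd (by norm_num) h3
      generalize S.fi = e at h2 h3 this ⊢
      interval_cases e <;> simp at h3 ⊢) ⟨Nat.card S.K, by rw [← h10]; ring⟩ j0
    rw [← h10, mul_assoc, Nat.mul_div_cancel _ (by positivity)] at h11
    exact h11 o1 h8
  obtain ⟨s, hs⟩ := exists_prime_orderOf_dvd_card' (G := S.H) 2 (S.card_H ▸ h9.2.mul_left _)
  rw [← orderOf_coe] at hs
  have s1 : (s : G) ∈ S.N := S.H_le s.2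
  have s2 : (s : G) * s = 1 := by rw [← pow_two, ← hs, pow_orderOf_eq_one]
  have s3 : (s : G) ∉ S.C := fun h => o1 (hs ▸ orderOf_dvd_natCard _ (S.mem_K_iff.2 ⟨h, by
    rw [hs]; norm_num⟩))
  have s4 : S.act s = -1 := by
    have h1 := S.act_mul s1 s1
    rw [s2, S.act_one] at h1
    exact (mul_self_eq_one_iff.1 h1.symm).resolve_left (mt (S.act_eq_one_iff s1).1 s3)
  have s5 : orderOf (s * S.z) = 2 := by
    have h1 := S.conj_z s1
    rw [s4, S.zp_neg, S.zp_one, ← eq_inv_of_mul_eq_one_right s2] at h1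
    refine orderOf_eq_prime (by rw [pow_two, ← mul_assoc, h1, inv_mul_cancel]) fun h => s3 ?_
    rw [eq_inv_of_mul_eq_one_left h]
    exact inv_mem (S.mem_C_iff.2 (Commute.refl _))
  set D := centralizer {(s : G)} ⊓ S.C
  have d1 : Nat.card D ∣ 3 := by
    have h1 : Nat.card D ∣ 1320 := hcc _ hs ▸ card_dvd_of_le inf_le_left
    have h2 : Nat.card D ∣ 19 * 3 := (S.card_C ▸ card_dvd_of_le (inf_le_right : D ≤ _)).trans
      (mul_dvd_mul_left _ h9.1)
    simpa using Nat.dvd_gcd h1 h2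
  have d2 : D.index ≤ (centralizer {(s : G)}).index * (centralizer {s * S.z}).index := by
    refine le_trans (Nat.le_of_eq ?_) index_inf_le
    congr 1
    ext x
    simp only [D, mem_inf, mem_centralizer_singleton_iff, S.mem_C_iff]
    refine and_congr_right fun h => ?_
    rw [← mul_assoc, h, mul_assoc, mul_assoc, mul_right_inj]
    rfl
  have d3 := D.card_mul_index
  have d4 := (centralizer {(s : G)}).card_mul_index
  have d5 := (centralizer {s * S.z}).card_mul_index
  rw [hcc _ hs, h] at d4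
  rw [hcc _ s5, h] at d5
  rw [show (centralizer {(s : G)}).index = 133 by omega,
    show (centralizer {s * S.z}).index = 133 by omega] at d2
  have := Nat.le_of_dvd (by norm_num) d1
  nlinarith

theorem isoJ1_of_card [IsSimpleGroup G] (h : Nat.card G = 175560) : Spor.IsoJ1 G := by
  have hG := nc_of_card h (by norm_num)
  haveI : Fact (Nat.Prime 2) := ⟨Nat.prime_two⟩
  have np : ∀ {F : Type} [Field F] [Fintype F], Nat.card PSL(2, F) ≠ 175560 := fun {F} _ _ e => by
    obtain ⟨q, q1, q2, q3⟩ := card_psl_cases le_rfl e.dvd (by norm_num)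
    have h2 : IsPrimePow q := q2 ▸ FiniteField.isPrimePow_card F
    have h4 : ∀ q < 80, IsPrimePow q → Nat.gcd 2 (q - 1) * 175560 ≠ q * (q ^ 2 - 1) := by
      decide +kernel
    exact h4 q q1 h2 (e ▸ q3)
  have el : ∀ T : Sylow 2 G, ∀ x ∈ T, x ^ 2 = 1 := fun T =>
    (sylow_eight hG T (card_sylow_eq T (a := 3) (m := 21945) h (by norm_num))).resolve_right
      fun ⟨e⟩ => by
    rcases GW.gw_sylow hG T e with ⟨F, _, _, -, -, ⟨e⟩⟩ | ⟨⟨e⟩⟩
    · exact np ((Nat.card_congr e.toEquiv).symm.trans h)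
    · have := two_mul_nat_card_alternatingGroup (α := Fin 7)
      rw [← Nat.card_congr e.toEquiv, h, Nat.card_perm] at this
      simp [Nat.factorial] at this
  have ab : ∀ T : Sylow 2 G, ∀ x ∈ T, ∀ y ∈ T, x * y = y * x := fun T x hx y hy => by
    have h1 : ∀ x ∈ T, x⁻¹ = x := fun x hx => inv_eq_of_mul_eq_one_right (pow_two x ▸ el T x hx)
    rw [← h1 _ (T.mul_mem hx hy), mul_inv_rev, h1 x hx, h1 y hy]
  obtain ⟨t, ht, ns⟩ : ∃ t : G, orderOf t = 2 ∧ ¬ Group.IsSolvable (centralizer ({t} : Set G)) := by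
    by_contra! hc
    obtain ⟨T⟩ : Nonempty (Sylow 2 G) := inferInstance
    rcases Cfsg.Agent.S3188.result T ⟨⟨fun a b => Subtype.ext (ab T _ a.2 _ b.2)⟩⟩ hc with
      h1 | ⟨F, _, _, -, N, hN, ⟨e⟩, h1⟩
    · exact hG ⟨⟨IsSimpleGroup.comm_iff_isSolvable.2 h1⟩⟩
    have hO : oddCore G = ⊥ := (inferInstance : (oddCore G).Normal).eq_bot_or_eq_top.resolve_right
      fun e => by
        have := Ab2.od_iff.2 (Ab2.od_oddCore (G := G))
        rw [e, card_top, h] at this
        exact absurd this (by decide)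
    have e' : G ≃* G ⧸ oddCore G := MulEquiv.ofBijective (QuotientGroup.mk' _)
      ⟨(MonoidHom.ker_eq_bot_iff _).1 (by rw [QuotientGroup.ker_mk', hO]),
        QuotientGroup.mk'_surjective _⟩
    haveI := e'.symm.isSimpleGroup
    rcases hN.eq_bot_or_eq_top with rfl | rfl
    · exact bot_ne_top (h1.symm.trans (by simp))
    · exact np ((Nat.card_congr ((e'.trans topEquiv.symm).trans e).toEquiv).symm.trans h)
  set C := centralizer ({t} : Set G)
  have tC : t ∈ C := mem_centralizer_singleton_iff.2 rfl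
  obtain ⟨T, hT⟩ := (show IsPGroup 2 (zpowers t) from IsPGroup.of_card (n := 1) (by
    rw [Nat.card_zpowers, ht, pow_one])).exists_le_sylow
  have tT : t ∈ T := hT (mem_zpowers t)
  have TC : (T : Subgroup G) ≤ C := fun x hx => mem_centralizer_singleton_iff.2 (ab T x hx t tT)
  obtain ⟨M, hM, tM⟩ : ∃ M : Subgroup G, M.relIndex T = 2 ∧ t ∉ M := by
    obtain ⟨M, -, -, h1, h2⟩ := ZD.exists_index_two (N := ⊥) (S := T) (z := t)
      ⟨bot_le, by simp⟩ (fun x hx => pow_two x ▸ el T x hx) tT (by rintro rfl; simp at ht)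
    exact ⟨M, ((Nat.dvd_prime Nat.prime_two).1 h2).resolve_left fun e =>
      h1 (relIndex_eq_one.1 e tT), h1⟩
  obtain ⟨K, Kn, K2, tK⟩ := Transfer.thompson_transfer (G := C) (S := (T : Subgroup G).subgroupOf C)
    (M := M.subgroupOf C) (x := ⟨t, tC⟩) (fun h => T.not_dvd_index (h.trans
      (relIndex_dvd_index_of_le TC))) (by rw [relIndex_subgroupOf TC, hM]) tT
      (by rwa [orderOf_mk]) fun g hg => tM (by
        have : (g : G) * t * (g : G)⁻¹ ∈ M := hg
        rwa [mem_centralizer_singleton_iff.1 g.2, mul_inv_cancel_right] at this)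
  set E := K.map C.subtype
  have tE : t ∉ E := fun ⟨x, h1, h2⟩ => tK (by rwa [← show x = ⟨t, tC⟩ from Subtype.ext h2])
  have EC : E ≤ C := map_subtype_le K
  have cE : Nat.card E * 2 = Nat.card C := by
    rw [card_map_of_injective C.subtype_injective, ← K2, K.card_mul_index]
  have sup : ∀ X ≤ E, Nonempty ((X ⊔ zpowers t : Subgroup G) ≃* Multiplicative (ZMod 2) × X) :=
    fun X hX => Loc.nonempty_equiv_prod_of_central ht (fun x hx =>
      mem_centralizer_singleton_iff.1 (EC (hX hx))) (fun h => tE (hX h)) rfl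
  have csup : ∀ X ≤ E, Nat.card (X ⊔ zpowers t : Subgroup G) = 2 * Nat.card X := fun X hX => by
    obtain ⟨e⟩ := sup X hX
    simpa using Nat.card_congr e.toEquiv
  have hC : E ⊔ zpowers t = C := eq_of_le_of_card_ge (sup_le EC (zpowers_le.2 tC)) (by
    rw [csup E le_rfl]; omega)
  obtain ⟨e⟩ := sup E le_rfl
  rw [hC] at e
  have c1 : Nat.card E ∣ 87780 := Nat.dvd_of_mul_dvd_mul_right two_pos
    (cE ▸ (card_subgroup_dvd_card C).trans h.dvd)
  obtain ⟨F, _, _, n, n1, n2, ⟨k, n3⟩, n4, n5⟩ := struct4 c1 fun hs => ns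
    (solvable_of_solvable_injective (f := e.toMonoidHom) e.injective)
  have k1 : k = 1 := by_contra fun k1 => by
    obtain ⟨r, hr, r1⟩ := Nat.exists_prime_and_dvd k1
    haveI := Fact.mk hr
    have r2 : n * r ∣ 87780 := (n3 ▸ mul_dvd_mul_left n r1).trans c1
    have r3 : 7 ≤ r ∧ ¬ r ∣ n := by
      have h1 : r ∣ 87780 := (dvd_mul_left _ _).trans r2
      have := (Nat.mem_primeFactorsList (by norm_num)).2 ⟨hr, h1⟩
      simp at this
      rcases n2 with ⟨rfl, -⟩ | rfl <;> rcases this with rfl | rfl | rfl | rfl | rfl | rfl <;>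
        first | (norm_num at r2; done) | norm_num
    have key : ∀ s ∈ [4, 3, 5], ∃ u : G, orderOf u = r ∧
        2 * s ∣ Nat.card (centralizer ({u} : Set G)) := fun s hs => by
      obtain ⟨u, u1, u2⟩ := n5 r hr r3.1 (n3 ▸ r1.mul_left n) r3.2 s hs
      refine ⟨u, by rwa [orderOf_coe], (mul_dvd_mul_left 2 u2).trans ?_⟩
      rw [← card_map_of_injective E.subtype_injective, ← csup _ (map_subtype_le _)]
      refine card_dvd_of_le (sup_le ?_ (zpowers_le.2 (mem_centralizer_singleton_iff.2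
        (mem_centralizer_singleton_iff.1 (EC u.2)).symm)))
      rintro _ ⟨x, hx, rfl⟩
      exact mem_centralizer_singleton_iff.2
        (congrArg Subtype.val (mem_centralizer_singleton_iff.1 hx))
    obtain ⟨u, u1, u2⟩ := key 4 (by simp)
    obtain ⟨v, v1, v2⟩ := key 3 (by simp)
    obtain ⟨w, w1, w2⟩ := key 5 (by simp)
    obtain ⟨S⟩ : Nonempty (PSet r G) := nonempty_pset (u1 ▸ orderOf_dvd_natCard u) fun h1 => by
      have h2 : r * r ∣ 8 * 21945 := pow_two r ▸ h1.trans h.dvd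
      have h3 := (Nat.Coprime.pow 2 3 ((Nat.coprime_primes hr Nat.prime_two).2
        (by omega))).dvd_of_dvd_mul_left (pow_two r ▸ h2)
      have h4 : Squarefree 21945 := by
        rw [Nat.squarefree_iff_nodup_primeFactorsList (by norm_num)]; simp
      exact hr.one_lt.ne' (Nat.isUnit_iff.1 (h4 r (pow_two r ▸ h3)))
    refine not_dvd_cent h r3.1 u1 ?_
    rw [S.card_cent v1, ← S.card_cent u1] at v2
    rw [S.card_cent w1, ← S.card_cent u1] at w2
    omega
  rw [k1, mul_one] at n3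
  obtain ⟨f⟩ := n4 n3
  rcases n2 with ⟨-, n2⟩ | n2
  · obtain ⟨a⟩ : Nonempty (PSL(2, F) ≃* alternatingGroup (Fin 5)) :=
      n2.elim Classical.PSL2_four_equiv Classical.PSL2_five_equiv
    exact Recog.J1.isoJ1 ht (e.trans ((MulEquiv.refl _).prodCongr (f.trans a))) h
  have h2 : ∀ H : Subgroup G, H.index ≠ 2 := GW.no_index_two_of_simple (by omega)
  have cj : ∀ s : G, orderOf s = 2 → ∃ x : E, orderOf x = 2 ∧ IsConj s x := fun s hs => by
    obtain ⟨y, hy, h3⟩ := GW.exists_conj_mem_of_relIndex h2 (M := E)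
      ((BG.syl_sylow_top T).isSylowIn Nat.prime_two) (by
        rw [← relIndex_subgroupOf TC, subgroupOf, comap_map_eq_self_of_injective C.subtype_injective]
        exact (relIndex_dvd_index_of_normal _ _).trans K2.dvd) hs
    obtain ⟨g, hg⟩ := isConj_iff.1 h3
    exact ⟨⟨_, hy⟩, by rw [orderOf_mk, ← hg, Invol.orderOf_conj, hs], h3⟩
  refine (not_1320 h (t := t) (cE.symm.trans (by omega)) fun s hs => ?_).elim
  obtain ⟨x, x1, x2⟩ := cj s hs
  obtain ⟨y, y1, y2⟩ := cj t ht
  have := (E.subtype.comp f.symm.toMonoidHom).map_isConj (CIT.isConj_psl (x := f y) (y := f x)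
    (by rwa [f.orderOf_eq]) (by rwa [f.orderOf_eq]))
  exact y2.trans (IsConj.trans (by simpa using this) x2.symm)

end CF.Small
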