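import Mathlib
import Cfsg.Agent.Small.Tab
import Cfsg.Agent.BlockB.Slice
import Cfsg.Agent.BlockB.Gen
import Cfsg.Agent.BlockB.Third

/-!
# Sylow `3`-subgroups of order nine with a strongly closed subgroup of order three
-/

set_option autoImplicit false
set_option linter.unusedSectionVars false

namespace CF.Small

open Subgroup CF.BlockB Cfsg CF.PF CF.Char
open scoped ComplexConjugate commutatorElement

variable {p : ℕ} [hp : Fact p.Prime] {G : Type*} [Group G] [Finite G]

theorem card_section_le {x : G} (hx : ∃ k, orderOf x = p ^ k) :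
    Nat.card {g // IsConj x (pPart p g)} ≤
      (Cen x).index * Nat.card {s : Cen x // ¬ p ∣ orderOf (s : G)} := by
  rw [index, ← Nat.card_prod]
  refine Nat.card_le_card_of_surjective (fun c => ⟨c.1.out * (x * c.2.1) * c.1.out⁻¹, by
    rw [pPart_conj, pPart_mul_of_commute hp.out (commute_of_mem_Cen _) hx c.2.2]
    exact isConj_iff.2 ⟨_, rfl⟩⟩) fun ⟨g, hg⟩ => ?_
  obtain ⟨h, e⟩ := isConj_iff.1 hg
  obtain ⟨k, hk⟩ := QuotientGroup.mk_out_eq_mul (Cen x) h
  have e2 : h * k * x * (h * k)⁻¹ = pPart p g := by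
    rw [← e, mul_assoc h, mem_Cen.1 k.2]; group
  refine ⟨(h, ⟨⟨(h * k)⁻¹ * pReg p g * (h * k), mem_Cen.2 ?_⟩, ?_⟩), Subtype.ext ?_⟩
  · have := (commute_pPart_pReg (p := p) g).eq
    rw [← e2] at this
    calc _ = (h * k)⁻¹ * (pReg p g * (h * k * x * (h * k)⁻¹)) * (h * k) := by group
      _ = _ := by rw [← this]; group
  · have := orderOf_conj' (pReg p g) (h * k)⁻¹
    rw [inv_inv] at this
    simp only [this]
    exact not_dvd_orderOf_pReg hp.out (isOfFinOrder_of_finite g)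
  · simp only [hk]
    conv_rhs => rw [← pPart_mul_pReg (p := p) g, ← e2]
    group

theorem mul_card_reg_le {x : G} (hx : ∃ k, orderOf x = p ^ k) {n : ℕ} (hn : n ≤ orderOf x) :
    n * Nat.card {s : Cen x // ¬ p ∣ orderOf (s : G)} ≤ Nat.card (Cen x) := by
  have k : ∀ (i : ℕ) (s : {s : Cen x // ¬ p ∣ orderOf (s : G)}), pPart p (x ^ i * s.1) = x ^ i :=
    fun i s => pPart_mul_of_commute hp.out ((commute_of_mem_Cen _).pow_left i)
      (exists_orderOf_of_mem hp.out (isPGroup_zpowers hx) (npow_mem_zpowers x i)) s.2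
  conv_lhs => rw [← Nat.card_fin n, ← Nat.card_prod]
  refine Nat.card_le_card_of_injective (fun c => ⟨x ^ c.1.1 * c.2.1,
    mul_mem (pow_mem (self_mem_Cen x) _) c.2.1.2⟩) fun ⟨i, s⟩ ⟨j, t⟩ h => ?_
  have h1 : x ^ i.1 * s.1 = x ^ j.1 * t.1 := congrArg Subtype.val h
  have h2 := congrArg (pPart p) h1
  rw [k, k] at h2
  obtain rfl := Fin.ext (pow_injOn_Iio_orderOf (i.2.trans_le hn) (j.2.trans_le hn) h2)
  rw [Subtype.ext (Subtype.ext (mul_left_cancel h1) : s.1 = t.1)]

theorem mul_card_reg_le' (P : Sylow p G) {H : Subgroup G} (hP : (P : Subgroup G) ≤ H)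
    (h : ∀ n ∈ normalizer ((P : Subgroup G) : Set G), n ∈ H → n ∈ centralizer ((P : Subgroup G) : Set G)) :
    Nat.card (P : Subgroup G) * Nat.card {s : H // ¬ p ∣ orderOf (s : G)} ≤ Nat.card H := by
  have h5 : normalizer ((P.subtype hP : Subgroup H) : Set H) ≤
      centralizer ((P.subtype hP : Subgroup H) : Set H) := fun n hn y hy => Subtype.ext (by
    refine h n ?_ n.2 y hy
    rw [Sylow.coe_subtype, ← subgroupOf_normalizer_eq hP] at hn
    exact hn)
  rw [← (MonoidHom.ker_transferSylow_isComplement' _ h5).card_mul, mul_comm,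
    ← Nat.card_congr (subgroupOfEquivOfLe hP).toEquiv]
  refine Nat.mul_le_mul_right _ (Nat.card_le_card_of_injective (fun s => ⟨s.1, ?_⟩)
    fun _ _ e => Subtype.ext (Subtype.mk.inj e))
  obtain ⟨k, hk⟩ := (IsPGroup.iff_orderOf.1 (P.subtype hP).isPGroup') (MonoidHom.transferSylow _ h5 s.1)
  have := orderOf_map_dvd (MonoidHom.transferSylow _ h5) s.1
  rw [hk] at this
  rcases k with _ | k
  · exact orderOf_eq_one_iff.1 hk
  · exact absurd (((dvd_pow_self p k.succ_ne_zero).trans this).trans (by simp)) s.2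

theorem eq_or_inv_of_card_three {Q : Type*} [Group Q] (h : Nat.card Q = 3) {a b : Q} (ha : a ≠ 1)
    (hb : b ≠ 1) : b = a ∨ b = a⁻¹ := by
  have := Fact.mk Nat.prime_three
  have : Finite Q := Nat.finite_of_card_ne_zero (by omega)
  obtain ⟨k, rfl⟩ := (mem_powers_iff_mem_zpowers.2 (mem_zpowers_of_prime_card (g' := b) h ha))
  have h3 : a ^ 3 = 1 := h ▸ pow_card_eq_one'
  simp only at hb ⊢
  rw [← Nat.div_add_mod k 3, pow_add, pow_mul, h3, one_pow, one_mul] at hb ⊢
  have : k % 3 < 3 := Nat.mod_lt _ (by norm_num)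
  interval_cases k % 3
  · simp at hb
  · simp
  · exact .inr (eq_inv_of_mul_eq_one_left (by rw [← pow_succ, h3]))

/-- The setting. -/
structure N9 (P : Sylow 3 G) (e : G) : Prop where
  card : Nat.card (P : Subgroup G) = 9
  mem : e ∈ (P : Subgroup G)
  ord : orderOf e = 3
  inv : ∀ n ∈ normalizer ((P : Subgroup G) : Set G), n * e * n⁻¹ ∈ zpowers e

namespace N9

variable {P : Sylow 3 G} {e u x y n : G} (h : N9 P e)
include h

theorem comm : IsMulCommutative (P : Subgroup G) :=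
  have := Fact.mk Nat.prime_three
  IsPGroup.isMulCommutative_of_card_eq_prime_sq (p := 3) h.card

theorem commute (hx : x ∈ (P : Subgroup G)) (hy : y ∈ (P : Subgroup G)) : Commute x y :=
  have := h.comm
  congrArg Subtype.val (mul_comm' (⟨x, hx⟩ : (P : Subgroup G)) ⟨y, hy⟩)

theorem le : zpowers e ≤ P := zpowers_le.2 h.mem

theorem conj_mem (hn : n ∈ normalizer ((P : Subgroup G) : Set G)) (hx : x ∈ zpowers e) :
    n * x * n⁻¹ ∈ zpowers e := by
  obtain ⟨k, rfl⟩ := hx
  simpa using zpow_mem (h.inv n hn) k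

theorem closed {g : G} (hx : x ∈ zpowers e) (hg : g * x * g⁻¹ ∈ (P : Subgroup G)) :
    g * x * g⁻¹ ∈ zpowers e := by
  have := Fact.mk Nat.prime_three
  have := h.comm
  obtain ⟨n, h1, h2⟩ := P.conj_eq_normalizer_conj_of_mem x g⁻¹ (h.le hx) (by rwa [inv_inv])
  rw [inv_inv] at h2
  simpa [h2] using h.conj_mem (inv_mem h1) hx

theorem relIndex : (zpowers e).relIndex P = 3 := by
  have h1 := card_mul_index ((zpowers e).subgroupOf P)
  rw [Nat.card_congr (subgroupOfEquivOfLe h.le).toEquiv, Nat.card_zpowers, h.ord, h.card] at h1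
  exact Nat.eq_of_mul_eq_mul_left three_pos h1

theorem coset (hu : u ∈ (P : Subgroup G)) (hu' : u ∉ zpowers e) (hy : y ∈ (P : Subgroup G))
    (hy' : y ∉ zpowers e) : u⁻¹ * y ∈ zpowers e ∨ u * y ∈ zpowers e := by
  have := h.comm
  have : ((zpowers e).subgroupOf P).Normal := normal_of_isMulCommutative _
  rcases eq_or_inv_of_card_three (Q := (P : Subgroup G) ⧸ (zpowers e).subgroupOf P) h.relIndex
    (a := (⟨u, hu⟩ : (P : Subgroup G))) (b := (⟨y, hy⟩ : (P : Subgroup G)))
    (mt (QuotientGroup.eq_one_iff _).1 hu') (mt (QuotientGroup.eq_one_iff _).1 hy') with k | k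
  · exact .inl (mem_subgroupOf.1 (QuotientGroup.eq.1 k.symm))
  · rw [← QuotientGroup.mk_inv] at k
    exact .inr (by simpa [mem_subgroupOf] using QuotientGroup.eq.1 k.symm)

theorem mem_cases (hx : x ∈ zpowers e) : x = 1 ∨ x = e ∨ x = e⁻¹ := by
  refine or_iff_not_imp_left.2 fun k => ?_
  have := eq_or_inv_of_card_three (Q := zpowers e) (by rw [Nat.card_zpowers, h.ord])
    (a := ⟨e, mem_zpowers e⟩) (b := ⟨x, hx⟩) (fun c => by
      have := h.ord; rw [show e = 1 from congrArg Subtype.val c] at this; simp at this)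
    fun c => k (congrArg Subtype.val c)
  exact this.imp (congrArg Subtype.val) (congrArg Subtype.val)

theorem exists_inv (hG : commutator G = ⊤) : ∃ u ∈ (P : Subgroup G), u ∉ zpowers e ∧
    ∃ n ∈ normalizer ((P : Subgroup G) : Set G), u * (n * u * n⁻¹) ∈ zpowers e := by
  have := Fact.mk Nat.prime_three
  have := h.comm
  by_contra! k
  have h1 : (P : Subgroup G) ≤ zpowers e := by
    rw [← top_inf_eq (P : Subgroup G), ← hG, commutator_inf_eq_focalSubgroup, focalSubgroup_def,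
      closure_le]
    rintro _ ⟨h2, x, hx, w, rfl⟩
    rw [commutatorElement_def] at h2 ⊢
    obtain ⟨n, h3, h4⟩ := P.conj_eq_normalizer_conj_of_mem x⁻¹ w⁻¹ (inv_mem hx) (by
      rw [inv_inv, show w * x⁻¹ * w⁻¹ = x⁻¹ * (x * w * x⁻¹ * w⁻¹) by group]
      exact mul_mem (inv_mem hx) h2)
    rw [inv_inv] at h4
    rw [show x * w * x⁻¹ * w⁻¹ = x * (w * x⁻¹ * w⁻¹) by group, h4]
    by_cases hx' : x ∈ zpowers e
    · exact mul_mem hx' (by simpa using h.conj_mem (inv_mem h3) (inv_mem hx'))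
    have h5 : n⁻¹ * x * n ∈ (P : Subgroup G) := by
      have := (inv_mem h3 x).1 hx
      rwa [inv_inv] at this
    rcases h.coset hx hx' h5 (fun c => hx' (by simpa [mul_assoc] using h.conj_mem h3 c)) with c | c
    · have := inv_mem c
      rwa [mul_inv_rev, inv_inv, (h.commute (inv_mem h5) hx).eq, show (n⁻¹ * x * n)⁻¹ = n⁻¹ * x⁻¹ * n by
        group] at this
    · exact absurd (by simpa using c) (k x hx hx' n⁻¹ (inv_mem h3))
  have := card_le_of_le h1
  rw [Nat.card_zpowers, h.ord, h.card] at this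
  omega

/-- Elements whose centralizer has no normal `3`-complement. -/
def Bad (P : Sylow 3 G) (x : G) : Prop := ∃ n ∈ normalizer ((P : Subgroup G) : Set G),
  n ∈ Cen x ∧ n ∉ centralizer ((P : Subgroup G) : Set G)

theorem bad_inv (hx : x ∈ (P : Subgroup G)) (hx' : x ∉ zpowers e) (b : Bad P x) :
    ∃ n ∈ normalizer ((P : Subgroup G) : Set G), n * x * n⁻¹ = x ∧
      ∀ f ∈ zpowers e, n * f * n⁻¹ = f⁻¹ := by
  obtain ⟨n, h1, h2, h3⟩ := b
  have h4 : n * x * n⁻¹ = x := by rw [mem_Cen.1 h2]; group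
  refine ⟨n, h1, h4, ?_⟩
  rcases h.mem_cases (h.inv n h1) with k | k | k
  · have := h.ord
    rw [show e = 1 by simpa using k] at this; simp at this
  · refine absurd (fun y hy => ?_) h3
    have k1 : ∀ f ∈ zpowers e, Commute f n := by
      rintro _ ⟨i, rfl⟩
      exact Commute.zpow_left (mul_inv_eq_iff_eq_mul.1 k).symm i
    have k2 : Commute x n := (mem_Cen.1 h2).symm
    by_cases hy' : y ∈ zpowers e
    · exact k1 y hy'
    rcases h.coset hx hx' hy hy' with c | c
    · simpa using (k2.mul_left (k1 _ c)).eq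
    · simpa using (k2.inv_left.mul_left (k1 _ c)).eq
  · rintro _ ⟨i, rfl⟩
    simp only [← conj_zpow, k, inv_zpow]

theorem bad_unique (hx : x ∈ (P : Subgroup G)) (hx' : x ∉ zpowers e) (b : Bad P x) {f : G}
    (hf : f ∈ zpowers e) (b' : Bad P (x * f)) : f = 1 := by
  have := Fact.mk Nat.prime_three
  obtain ⟨n, h1, h2, h3⟩ := h.bad_inv hx hx' b
  obtain ⟨m, k1, k2, k3⟩ := h.bad_inv (mul_mem hx (h.le hf))
    (fun c => hx' (by simpa using mul_mem c (inv_mem hf))) b'
  have f3 : f ^ 3 = 1 := orderOf_dvd_iff_pow_eq_one.1 (by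
    simpa [h.ord] using orderOf_dvd_of_mem_zpowers hf)
  have a1 : n * m * f * (n * m)⁻¹ = f := by
    rw [show n * m * f * (n * m)⁻¹ = n * (m * f * m⁻¹) * n⁻¹ by group, k3 f hf, h3 _ (inv_mem hf), inv_inv]
  have a2 : n * m * (x * f) * (n * m)⁻¹ = x * f * f := by
    rw [show n * m * (x * f) * (n * m)⁻¹ = n * (m * (x * f) * m⁻¹) * n⁻¹ by group, k2,
      show n * (x * f) * n⁻¹ = n * x * n⁻¹ * (n * f * n⁻¹) by group, h2, h3 f hf, mul_assoc,
      eq_inv_of_mul_eq_one_left (show f * f * f = 1 by rw [← f3, pow_three'])]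
  have hm := mul_mem h1 k1
  generalize n * m = t at a1 a2 hm
  have a3 : ∀ i : ℕ, t ^ i * (x * f) * (t ^ i)⁻¹ = x * f * f ^ i := fun i => by
    induction i with
    | zero => simp
    | succ i ih =>
      rw [show t ^ (i + 1) * (x * f) * (t ^ (i + 1))⁻¹ = t * (t ^ i * (x * f) * (t ^ i)⁻¹) * t⁻¹ by group,
        ih, show t * (x * f * f ^ i) * t⁻¹ = t * (x * f) * t⁻¹ * (t * f * t⁻¹) ^ i by
          rw [conj_pow]; group, a1, a2, pow_succ']
      group
  have a4 : t ^ (P : Subgroup G).relIndex (normalizer ((P : Subgroup G) : Set G)) ∈ (P : Subgroup G) :=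
    pow_index_mem (H := (P : Subgroup G).subgroupOf (normalizer _)) ⟨t, hm⟩
  have a5 := a3 ((P : Subgroup G).relIndex (normalizer ((P : Subgroup G) : Set G)))
  rw [(h.commute a4 (mul_mem hx (h.le hf))).eq, mul_inv_cancel_right, left_eq_mul] at a5
  have a6 : ¬ 3 ∣ (P : Subgroup G).relIndex (normalizer ((P : Subgroup G) : Set G)) := fun c =>
    P.not_dvd_index (c.trans (relIndex_dvd_index_of_le le_normalizer))
  exact orderOf_eq_one_iff.1 (Nat.eq_one_of_dvd_coprimes
    ((Nat.Prime.coprime_iff_not_dvd Nat.prime_three).2 a6) (orderOf_dvd_of_pow_eq_one f3)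
    (orderOf_dvd_of_pow_eq_one a5))

theorem exists_good (hG : commutator G = ⊤) : ∃ u ∈ (P : Subgroup G), u ∉ zpowers e ∧
    (∃ n ∈ normalizer ((P : Subgroup G) : Set G), u * (n * u * n⁻¹) ∈ zpowers e) ∧
      ¬ Bad P (u * e) ∧ ¬ Bad P (u * e⁻¹) := by
  obtain ⟨u, h1, h2, n, h3, h4⟩ := h.exists_inv hG
  have e1 : e ≠ 1 := fun c => by simpa [c] using h.ord
  have m := mem_zpowers e
  by_cases b : ∃ f ∈ zpowers e, Bad P (u * f)
  · obtain ⟨f, k1, k2⟩ := b
    have k3 := mul_mem h1 (h.le k1)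
    have k4 : u * f ∉ zpowers e := fun c => h2 (by simpa using mul_mem c (inv_mem k1))
    refine ⟨u * f, k3, k4, ⟨n, h3, ?_⟩, fun c => e1 (h.bad_unique k3 k4 k2 m c),
      fun c => e1 (inv_eq_one.1 (h.bad_unique k3 k4 k2 (inv_mem m) c))⟩
    rw [(h.commute h1 (h.le k1)).eq, show f * u * (n * (f * u) * n⁻¹) =
      f * (u * (n * f * n⁻¹)) * (n * u * n⁻¹) by group,
      (h.commute h1 (h.le (h.conj_mem h3 k1))).eq, mul_assoc, mul_assoc]
    exact mul_mem k1 (mul_mem (h.conj_mem h3 k1) h4)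
  · exact ⟨u, h1, h2, ⟨n, h3, h4⟩, fun c => b ⟨_, m, c⟩, fun c => b ⟨_, inv_mem m, c⟩⟩

/-- The elements whose `3`-part is not conjugate into `⟨e⟩`. -/
def A (e g : G) : Prop := ¬ ∃ c : G, c * pPart 3 g * c⁻¹ ∈ zpowers e

theorem card_A_lt (hG : commutator G = ⊤) :
    0 < Nat.card {g // A e g} ∧ 9 * Nat.card {g // A e g} ≤ 5 * Nat.card G := by
  have := Fact.mk Nat.prime_three
  obtain ⟨u, h1, h2, ⟨n, h3, h4⟩, h5, h6⟩ := h.exists_good hG
  have pe : ∀ x ∈ (P : Subgroup G), ∃ k, orderOf x = 3 ^ k := fun x =>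
    exists_orderOf_of_mem Nat.prime_three P.isPGroup'
  have m := mem_zpowers e
  refine ⟨Nat.card_pos_iff.2 ⟨⟨⟨u, fun ⟨c, k⟩ => h2 ?_⟩⟩, inferInstance⟩, ?_⟩
  · rw [pPart_of_pElement Nat.prime_three (pe u h1)] at k
    simpa [mul_assoc] using h.closed (g := c⁻¹) k (by simpa [mul_assoc] using h1)
  have cov : ∀ g, A e g → IsConj u (pPart 3 g) ∨ IsConj (u * e) (pPart 3 g) ∨
      IsConj (u * e⁻¹) (pPart 3 g) := fun g hg => by
    have key : ∀ y, IsConj y (pPart 3 g) → u⁻¹ * y ∈ zpowers e → IsConj u (pPart 3 g) ∨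
        IsConj (u * e) (pPart 3 g) ∨ IsConj (u * e⁻¹) (pPart 3 g) := fun y k1 k2 => by
      rcases h.mem_cases k2 with k | k | k <;> rw [inv_mul_eq_iff_eq_mul] at k <;> subst k
      exacts [.inl (by simpa using k1), .inr (.inl k1), .inr (.inr k1)]
    obtain ⟨Q, hQ⟩ := (isPGroup_zpowers (pPart_pElement Nat.prime_three g)).exists_le_sylow
    obtain ⟨c, rfl⟩ := MulAction.exists_smul_eq G P Q
    have k1 : c⁻¹ * pPart 3 g * c⁻¹⁻¹ ∈ (P : Subgroup G) := by
      simpa [Sylow.coe_subgroup_smul, mem_pointwise_smul_iff_inv_smul_mem] using hQ (mem_zpowers _)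
    have k2 : IsConj (c⁻¹ * pPart 3 g * c⁻¹⁻¹) (pPart 3 g) := (isConj_iff.2 ⟨_, rfl⟩).symm
    generalize hy : c⁻¹ * pPart 3 g * c⁻¹⁻¹ = y at k1 k2
    rcases h.coset h1 h2 k1 (fun k => hg ⟨_, hy ▸ k⟩) with k | k
    · exact key y k2 k
    · refine key (n * y * n⁻¹) ((isConj_iff.2 ⟨_, rfl⟩).symm.trans k2) ?_
      have := mul_mem (inv_mem h4) (h.conj_mem h3 k)
      rwa [← (h.commute ((h3 u).1 h1) h1).eq, show (n * u * n⁻¹ * u)⁻¹ * (n * (u * y) * n⁻¹) =
        u⁻¹ * (n * y * n⁻¹) by group] at this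
  have le : ∀ x ∈ (P : Subgroup G), (P : Subgroup G) ≤ Cen x := fun x hx y hy =>
    mem_Cen.2 (h.commute hy hx).eq
  have good : ∀ x ∈ (P : Subgroup G), ¬ Bad P x →
      9 * Nat.card {g // IsConj x (pPart 3 g)} ≤ Nat.card G := fun x hx b => by
    have k := mul_card_reg_le' P (le x hx) fun n k1 k2 => by_contra fun k3 => b ⟨n, k1, k2, k3⟩
    rw [h.card] at k
    rw [← (Cen x).index_mul_card]
    nlinarith [card_section_le (pe x hx)]
  have k1 := good _ (mul_mem h1 h.mem) h5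
  have k2 := good _ (mul_mem h1 (inv_mem h.mem)) h6
  have k3 : 3 * Nat.card {g // IsConj u (pPart 3 g)} ≤ Nat.card G := by
    have k := mul_card_reg_le (pe u h1) (n := 3) (by
      obtain ⟨k, hk⟩ := pe u h1
      rcases k with _ | k
      · exact absurd (by rw [orderOf_eq_one_iff.1 hk]; exact one_mem _) h2
      · exact hk ▸ Nat.le_self_pow k.succ_ne_zero 3)
    rw [← (Cen u).index_mul_card]
    nlinarith [card_section_le (pe u h1)]
  have k4 : Nat.card {g // A e g} ≤ Nat.card {g // IsConj u (pPart 3 g)} +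
      (Nat.card {g // IsConj (u * e) (pPart 3 g)} + Nat.card {g // IsConj (u * e⁻¹) (pPart 3 g)}) :=
    (Set.ncard_le_ncard (s := {g | A e g}) cov).trans ((Set.ncard_union_le _ _).trans
      (Nat.add_le_add_left (Set.ncard_union_le _ _) _))
  omega

omit h in
theorem A_conj (g c : G) : A e (c * g * c⁻¹) ↔ A e g := by
  rw [A, A, pPart_conj]
  exact not_congr ⟨fun ⟨d, k⟩ => ⟨d * c, by simpa [mul_assoc] using k⟩,
    fun ⟨d, k⟩ => ⟨d * c⁻¹, by simpa [mul_assoc] using k⟩⟩

open _root_.Classical in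
/-- The generalized character. -/
noncomputable def φ (e : G) : G → ℂ := fun g => if A e g then -2 else 1

omit h in
theorem φ_class : IsClassFunction G (φ e) := fun g c => by
  classical
  exact if_congr (A_conj g c) rfl rfl

theorem φ_gen : IsGeneralizedCharacter G (φ e) := by
  classical
  have := Fact.mk Nat.prime_three
  refine gen_of_prod Nat.prime_three φ_class fun Q S hQ hS hc => ?_
  obtain ⟨R, hR⟩ := hQ.exists_le_sylow
  obtain ⟨c, rfl⟩ := MulAction.exists_smul_eq G P R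
  have k1 : ∀ x : Q, c⁻¹ * x * c ∈ (P : Subgroup G) := fun x => by
    simpa [Sylow.coe_subgroup_smul, mem_pointwise_smul_iff_inv_smul_mem] using hR x.2
  have := h.comm
  have : ((zpowers e).subgroupOf P).Normal := normal_of_isMulCommutative _
  have := Fintype.ofFinite (P : Subgroup G)
  let f : Q × S →* (P : Subgroup G) :=
    { toFun x := ⟨_, k1 x.1⟩, map_one' := by simp, map_mul' := fun _ _ => by simp [mul_assoc] }
  convert gen_comp (gen_sub (gen_of_char (char_indFun_one ((zpowers e).subgroupOf P)))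
    (gen_const_int 2)) f using 2 with x
  have k2 : A e (x.1 * x.2) ↔ f x ∉ (zpowers e).subgroupOf P := by
    rw [A, pPart_mul_of_mem Nat.prime_three hQ hS hc x.1.2 x.2.2]
    refine not_congr ⟨fun ⟨d, k⟩ => ?_, fun k => ⟨c⁻¹, by rw [inv_inv]; exact k⟩⟩
    change c⁻¹ * x.1 * c ∈ zpowers e
    simpa [mul_assoc] using h.closed (g := c⁻¹ * d⁻¹) k (by simpa [mul_assoc] using k1 x.1)
  simp only [φ, k2, Pi.sub_apply, indFun_one_of_normal, show ((zpowers e).subgroupOf P).index = 3 from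
    h.relIndex]
  split_ifs <;> norm_num

theorem exists_pair [IsSimpleGroup G] (hG : ¬ IsMulCommutative G) :
    ∃ χ ∈ irr (⊤ : Subgroup G), ∃ ψ ∈ irr (⊤ : Subgroup G), χ ≠ triv ⊤ ∧ ψ ≠ triv ⊤ ∧
      ¬ 3 ∣ charDegree χ ∧ ¬ 3 ∣ charDegree ψ ∧ charDegree χ = charDegree ψ + 1 ∧
        (∀ g, ∃ n : ℤ, χ g = n) ∧ ∀ g, ∃ n : ℤ, ψ g = n := by
  classical
  have := Fact.mk Nat.prime_three
  have := Fintype.ofFinite G
  obtain ⟨a0, a1⟩ := h.card_A_lt (commutator_eq_top hG)
  have z := mem_ZIrr_top.2 h.φ_gen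
  have c0 : (Nat.card G : ℂ) ≠ 0 := Nat.cast_ne_zero.2 Nat.card_pos.ne'
  have sm : ∀ a b : ℂ, ∑ g, (if A e g then a else b) =
      Nat.card {g // A e g} * (a - b) + Nat.card G * b := fun a b => by
    rw [show (fun g => if A e g then a else b) = fun g => (if A e g then a - b else 0) + b by
      ext; split_ifs <;> simp, Finset.sum_add_distrib, ← Finset.sum_filter]
    simp [Fintype.card_subtype, mul_sub]
  have i1 : (Nat.card G : ℂ) * ip ⊤ (φ e) (triv ⊤) = Nat.card G - 3 * Nat.card {g // A e g} := by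
    rw [ip, els_top, card_top, mul_inv_cancel_left₀ c0, triv_top]
    simp only [φ, Pi.one_apply, map_one, mul_one, sm]; ring
  obtain ⟨m, hm⟩ := ip_int z (SIr.of_irr (triv_mem_irr ⊤)).zirr
  have i2 : (Nat.card G : ℤ) * m = Nat.card G - 3 * Nat.card {g // A e g} := by
    rw [hm] at i1; exact_mod_cast i1
  obtain rfl : m = 0 := by
    have : (0 : ℤ) < Nat.card G := by exact_mod_cast Nat.card_pos
    have k1 : m < 1 := by nlinarith
    have k2 : -1 < m := by nlinarith
    omega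
  have i3 : (Nat.card G : ℂ) = 3 * Nat.card {g // A e g} := by
    exact_mod_cast (by omega : Nat.card G = 3 * Nat.card {g // A e g})
  have i4 : ip ⊤ (φ e) (φ e) = 2 := by
    refine mul_left_cancel₀ c0 ?_
    rw [ip, els_top, card_top, mul_inv_cancel_left₀ c0, show (fun g => φ e g * conj (φ e g)) =
      fun g => if A e g then 4 else 1 by ext; simp only [φ]; split_ifs <;> norm_num [map_ofNat], sm, i3]
    ring
  have o1 : φ e 1 = 1 := if_neg (not_not.2 ⟨1, by rw [pPart_of_pRegular Nat.prime_three (by simp)]; simp⟩)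
  obtain ⟨χ, ψ, k1, k2, k3, k4⟩ : ∃ χ ψ, χ ∈ irr (⊤ : Subgroup G) ∧ ψ ∈ irr (⊤ : Subgroup G) ∧ χ ≠ ψ ∧
      φ e = χ - ψ := by
    obtain ⟨α, β, s1, s2, s3, s4⟩ := exists_of_norm_two z (by rw [rip, i4]; simp)
    have s5 := congrArg Complex.re (congrFun s4 1)
    rw [o1] at s5
    rcases s1 with s1 | s1 <;> rcases s2 with s2 | s2
    · have := irr_one_re_ge s1; have := irr_one_re_ge s2; simp at s5; linarith
    · exact ⟨α, -β, s1, s2, (SIr.of_irr s1).ne_neg_of_rip s3, by rw [s4]; abel⟩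
    · exact ⟨β, -α, s2, s1, fun c => (SIr.of_irr s2).ne_neg_of_rip (by rwa [rip_comm]) c, by rw [s4]; abel⟩
    · have := irr_one_re_ge s1; have := irr_one_re_ge s2; simp at *; linarith
  have ipe : ∀ ξ ∈ irr (⊤ : Subgroup G), ip ⊤ (φ e) ξ = (if χ = ξ then 1 else 0) - if ψ = ξ then 1 else 0 :=
    fun ξ hξ => by rw [k4, ip_sub_left, ip_irr k1 hξ, ip_irr k2 hξ]; congr
  obtain ⟨M, hM⟩ := exists_isPModular Nat.prime_three
  have bp : blockPart (principalBlock M G) (φ e) = φ e := funext fun u => by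
    have := blockPart_eq_zero hM (nrm_eSet_le_one hM isPBlock_principalBlock)
      (ϑ := φ e - φ e u • (oneIrr G : G → ℂ)) (u := u) fun g c => by
        obtain ⟨d, c⟩ := isConj_iff.1 c
        have : A e g ↔ A e u := by
          rw [← A_conj u d, A, A, pPart_conj, c]
        rw [Pi.sub_apply, show φ e g = φ e u from if_congr this rfl rfl]
        simp [oneIrr]
    rw [← blockPartL_apply, map_sub, map_smul, blockPartL_apply, blockPartL_apply,
      blockPart_irr_of_mem (oneIrr_mem_principalBlock hM)] at this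
    simpa [oneIrr, sub_eq_zero] using this
  have nd : ∀ ξ ∈ irr (⊤ : Subgroup G), ip ⊤ (φ e) ξ ≠ 0 → ¬ 3 ∣ charDegree ξ := fun ξ hξ n d => by
    have b : (⟨ξ, mem_irr_top.1 hξ⟩ : IrrCharacter G) ∈ principalBlock M G := by_contra fun b => n (by
      rw [ip_top, ← bp]
      exact (inner_blockPart _ _ ⟨ξ, mem_irr_top.1 hξ⟩).trans (if_neg b))
    have h5 := (Nat.prime_three.dvd_iff_one_le_factorization (deg_pos hξ).ne').1 d
    have h6 := height_add_two_le hM isPBlock_principalBlock b (by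
      rw [blockHeight_eq, minExp_principal hM]; simp only; omega)
    have h7 := P.card_eq_multiplicity
    rw [h.card] at h7
    rw [blockHeight_eq, minExp_principal hM, blockDefect_principal hM,
      ← Nat.pow_right_injective (a := 3) (by norm_num) (a₁ := 2) h7] at h6
    simp only at h6; omega
  have nt : ∀ ξ, ip ⊤ (φ e) ξ ≠ 0 → ξ ≠ triv ⊤ := by rintro _ n rfl; exact n (by rw [hm]; simp)
  have n1 : ip ⊤ (φ e) χ ≠ 0 := by rw [ipe χ k1]; simp [k3.symm]
  have n2 : ip ⊤ (φ e) ψ ≠ 0 := by rw [ipe ψ k2]; simp [k3]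
  have au : ∀ u : ℂ →+* ℂ, aut u χ = χ ∧ aut u ψ = ψ := fun u => by
    have t : aut u (φ e) = φ e := funext fun g => by
      simp only [aut_apply, φ]; split_ifs <;> simp [map_ofNat]
    rw [k4, map_sub] at t
    have t1 : aut u χ = χ := by_contra fun c => by
      have := congrArg (ip ⊤ · χ) t
      simp only [ip_sub_left, ip_irr (aut_mem_irr u k1) k1, ip_irr (aut_mem_irr u k2) k1,
        ip_irr k1 k1, ip_irr k2 k1, c, k3.symm, if_true, if_false] at this
      split_ifs at this <;> norm_num at this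
    exact ⟨t1, by simpa [t1] using t⟩
  refine ⟨χ, k1, ψ, k2, nt χ n1, nt ψ n2, nd χ k1 n1, nd ψ k2 n2, ?_, int_of_aut k1 fun u => (au u).1,
    int_of_aut k2 fun u => (au u).2⟩
  rw [k4, Pi.sub_apply, exists_degree k1, exists_degree k2, sub_eq_iff_eq_add'] at o1
  exact_mod_cast o1

end N9

theorem exists_n9 (P : Sylow 3 G) (hP : Nat.card (P : Subgroup G) = 9)
    (h3 : 3 ≤ Nat.card {C : ConjClasses G // ∃ g ∈ C.carrier, g ≠ 1 ∧ orderOf g ∣ 9}) :
    ∃ e, N9 P e := by
  classical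
  have := Fact.mk Nat.prime_three
  have : IsMulCommutative (P : Subgroup G) := IsPGroup.isMulCommutative_of_card_eq_prime_sq (p := 3) hP
  have cm : ∀ x ∈ (P : Subgroup G), ∀ y ∈ (P : Subgroup G), Commute x y := fun x hx y hy =>
    congrArg Subtype.val (mul_comm' (⟨x, hx⟩ : (P : Subgroup G)) ⟨y, hy⟩)
  obtain ⟨x, hx, x1, h2⟩ : ∃ x ∈ (P : Subgroup G), x ≠ 1 ∧
      (((els (P : Subgroup G)).erase 1).filter fun y => ConjClasses.mk y = ConjClasses.mk x).card ≤ 2 := by
    by_contra! k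
    have k1 := Finset.mul_card_image_le_card (f := ConjClasses.mk) ((els (P : Subgroup G)).erase 1) 3
      fun b hb => by
        obtain ⟨x, hx, rfl⟩ := Finset.mem_image.1 hb
        exact k x (mem_els.1 (Finset.mem_of_mem_erase hx)) (Finset.ne_of_mem_erase hx)
    rw [Finset.card_erase_of_mem (mem_els.2 (one_mem _)), card_els, hP] at k1
    have k2 : Nat.card {C : ConjClasses G // ∃ g ∈ C.carrier, g ≠ 1 ∧ orderOf g ∣ 9} ≤
        (((els (P : Subgroup G)).erase 1).image ConjClasses.mk).card := by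
      rw [← Set.ncard_coe_finset]
      refine Set.ncard_le_ncard (s := {C : ConjClasses G | ∃ g ∈ C.carrier, g ≠ 1 ∧ orderOf g ∣ 9}) ?_
      rintro C ⟨g, g1, g2, g3⟩
      obtain ⟨j, -, hj⟩ := (Nat.dvd_prime_pow Nat.prime_three (m := 2)).1 g3
      obtain ⟨Q, hQ⟩ := (isPGroup_zpowers ⟨j, hj⟩).exists_le_sylow
      obtain ⟨c, rfl⟩ := MulAction.exists_smul_eq G P Q
      refine Finset.mem_coe.2 (Finset.mem_image.2 ⟨c⁻¹ * g * c⁻¹⁻¹, Finset.mem_erase.2 ⟨by simpa [mul_assoc,
        inv_mul_eq_iff_eq_mul] using g2, mem_els.2 ?_⟩, ?_⟩)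
      · simpa [Sylow.coe_subgroup_smul, mem_pointwise_smul_iff_inv_smul_mem] using hQ (mem_zpowers _)
      · rw [← ConjClasses.mem_carrier_iff_mk_eq.1 g1, ConjClasses.mk_eq_mk_iff_isConj]
        exact (isConj_iff.2 ⟨_, rfl⟩).symm
    omega
  set O := ((els (P : Subgroup G)).erase 1).filter fun y => ConjClasses.mk y = ConjClasses.mk x
  have mO : ∀ y, y ∈ O ↔ y ≠ 1 ∧ y ∈ (P : Subgroup G) ∧ IsConj y x := fun y => by
    simp [O, ConjClasses.mk_eq_mk_iff_isConj, and_assoc]
  have cO : ∀ n ∈ normalizer ((P : Subgroup G) : Set G), ∀ y ∈ O, n * y * n⁻¹ ∈ O := fun n hn y hy =>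
    let ⟨a, b, c⟩ := (mO y).1 hy
    (mO _).2 ⟨by simpa using a, (hn y).1 b, (isConj_iff.2 ⟨_, rfl⟩).symm.trans c⟩
  have xO : x ∈ O := (mO x).2 ⟨x1, hx, .refl x⟩
  obtain ⟨d, d1, d2, d3⟩ : ∃ d ∈ (P : Subgroup G), d ≠ 1 ∧
      ∀ n ∈ normalizer ((P : Subgroup G) : Set G), n * d * n⁻¹ ∈ zpowers d := by
    by_cases k : ∀ y ∈ O, y = x
    · exact ⟨x, hx, x1, fun n hn => by rw [k _ (cO n hn x xO)]; exact mem_zpowers x⟩
    push Not at k
    obtain ⟨y, yO, yx⟩ := k
    have e : ∀ w ∈ O, w = x ∨ w = y := fun w hw => by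
      by_contra! c
      exact absurd (Finset.two_lt_card_iff.2 ⟨w, x, y, hw, xO, yO, c.1, c.2, yx.symm⟩) (by omega)
    have hy := ((mO y).1 yO).2.1
    refine ⟨x * y⁻¹, mul_mem hx (inv_mem hy), mul_inv_eq_one.not.2 yx.symm, fun n hn => ?_⟩
    rw [show n * (x * y⁻¹) * n⁻¹ = n * x * n⁻¹ * (n * y * n⁻¹)⁻¹ by group]
    rcases e _ (cO n hn x xO) with a | a <;> rcases e _ (cO n hn y yO) with b | b <;> rw [a, b]
    · simp
    · exact mem_zpowers _
    · simpa using inv_mem (mem_zpowers (x * y⁻¹))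
    · simp
  have k := orderOf_dvd_natCard (P : Subgroup G) d1
  rw [hP] at k
  obtain ⟨j, j2, hj⟩ := (Nat.dvd_prime_pow Nat.prime_three (m := 2)).1 k
  interval_cases j
  · exact absurd (orderOf_eq_one_iff.1 hj) d2
  · exact ⟨d, hP, d1, hj, d3⟩
  · refine ⟨d ^ 3, hP, pow_mem d1 3, by rw [orderOf_pow' _ three_ne_zero, hj]; rfl, fun n hn => ?_⟩
    obtain ⟨i, hi⟩ := d3 n hn
    rw [← conj_pow, ← hi]
    exact ⟨i, by simp only [← zpow_natCast, ← zpow_mul, mul_comm]⟩

/-- A faithful rational character bounds the order. -/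
theorem card_dvd_factorial [IsSimpleGroup G] (hG : ¬ IsMulCommutative G) {χ : G → ℂ}
    (h : χ ∈ irr (⊤ : Subgroup G)) (h1 : χ ≠ triv ⊤) (h2 : ∀ g, ∃ n : ℤ, χ g = n) :
    Nat.card G ∣ (2 * charDegree χ - 1).factorial := by
  classical
  have := Fintype.ofFinite G
  have hi := mem_irr_top.1 h
  have gen : ∀ s : Finset ℕ, IsGeneralizedCharacter G fun g => ∏ i ∈ s, (χ g + charDegree χ - (i + 1)) :=
    fun s => by
      induction s using Finset.induction_on with
      | empty => simpa using gen_const_one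
      | insert i s k ih =>
        simp only [Finset.prod_insert k]
        convert gen_mul (gen_add (gen_of_irr hi) (gen_const_int (charDegree χ - (i + 1)))) ih using 2
        simp [add_sub_assoc]
  obtain ⟨m, hm⟩ := inner_gen_eq_int (gen (Finset.range (2 * charDegree χ - 1))) gen_const_one
  have d0 := deg_pos h
  rw [inner_def, Finset.sum_eq_single_of_mem 1 (Finset.mem_univ _) fun g _ g1 => by
    obtain ⟨n, hn⟩ := h2 g
    have k1 := char_norm_le (irr_isCharacter hi) g
    have k2 : ‖χ g‖ ≠ ‖χ 1‖ := fun e => h1 (eq_triv_of_mem_center hG h g1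
      ((mem_charCenter_iff (irr_isCharacter hi)).2 e))
    rw [hn, exists_degree h, Complex.norm_intCast, Complex.norm_natCast] at k1 k2
    have k3 : |n| < charDegree χ := by exact_mod_cast lt_of_le_of_ne k1 k2
    rw [abs_lt] at k3
    rw [Finset.prod_eq_zero (i := (n + charDegree χ - 1).toNat) (Finset.mem_range.2 (by omega)), zero_mul]
    rw [hn, ← Int.cast_natCast (n + charDegree χ - 1).toNat, Int.toNat_of_nonneg (by omega)]
    push_cast; ring, exists_degree h, map_one, mul_one,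
    inv_mul_eq_iff_eq_mul₀ (Nat.cast_ne_zero.2 Nat.card_pos.ne')] at hm
  have : ∏ i ∈ Finset.range (2 * charDegree χ - 1), ((charDegree χ : ℂ) + charDegree χ - (i + 1)) =
      ((2 * charDegree χ - 1).factorial : ℕ) := by
    rw [← Finset.prod_range_add_one_eq_factorial, ← Finset.prod_range_reflect, Nat.cast_prod]
    refine Finset.prod_congr rfl fun i hi => ?_
    rw [Finset.mem_range] at hi
    rw [Nat.cast_sub (by omega), Nat.cast_sub (by omega), Nat.cast_sub (by omega)]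
    push_cast; ring
  rw [this] at hm
  exact Int.natCast_dvd_natCast.1 ⟨m, by exact_mod_cast hm⟩

theorem eq_one_of_pow_two {q j k : ℕ} (hq : Odd q) (h3 : 3 < q) (hj : j ≠ 0)
    (h : q ^ j + 1 = 2 ^ k ∨ q ^ j = 2 ^ k + 1) : j = 1 := by
  have pw : ∀ a : ℕ, a ∣ 2 ^ k → Odd a → a = 1 := fun a d o =>
    Nat.eq_one_of_dvd_coprimes ((Nat.coprime_two_right.2 o).pow_right k) dvd_rfl d
  rcases Nat.even_or_odd' j with ⟨i, rfl | rfl⟩
  · exfalso
    obtain ⟨r, hr⟩ : Odd (q ^ i) := hq.pow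
    have r2 : 2 ≤ r := by
      have := Nat.le_self_pow (show i ≠ 0 by omega) q
      omega
    rw [pow_mul', hr] at h
    rcases h with h | h
    · have : 4 ∣ 2 ^ k := pow_dvd_pow 2 (show 2 ≤ k by
        by_contra c; interval_cases k <;> nlinarith)
      rw [← h, show (2 * r + 1) ^ 2 + 1 = 4 * (r * r + r) + 2 by ring] at this
      omega
    · have e : 2 ^ k = 4 * (r * (r + 1)) := by nlinarith
      rcases Nat.even_or_odd r with o | o
      · have := pw (r + 1) (e ▸ (dvd_mul_left _ _).mul_left _) o.add_one; omega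
      · have := pw r (e ▸ (dvd_mul_right _ _).mul_left _) o; omega
  · have key : ∀ x : ℤ, Odd x → ((∑ l ∈ Finset.range (2 * i + 1), x ^ l) * (x - 1)).natAbs = 2 ^ k →
        (x ^ (2 * i + 1) - 1).natAbs = (x - 1).natAbs := fun x o e => by
      have od : ∀ i, Odd (∑ l ∈ Finset.range (2 * i + 1), x ^ l) := fun i => by
        induction i with
        | zero => simp
        | succ i ih =>
          rw [show 2 * (i + 1) + 1 = 2 * i + 1 + 1 + 1 by ring, Finset.sum_range_succ,
            Finset.sum_range_succ, add_assoc]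
          exact ih.add_even (o.pow.add_odd o.pow)
      rw [Int.natAbs_mul] at e
      have := pw _ (Dvd.intro _ e) (Int.natAbs_odd.2 (od i))
      rw [← geom_sum_mul, Int.natAbs_mul, this, one_mul]
    refine Nat.pow_right_injective (show 2 ≤ q by omega) ?_
    have o : Odd (2 * i + 1) := ⟨i, rfl⟩
    rcases h with h | h
    · have := key (-q) (by simpa using hq) (by
        rw [geom_sum_mul, o.neg_pow, ← h, ← Nat.cast_pow]; omega)
      rw [o.neg_pow, ← Nat.cast_pow] at this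
      simp only [pow_one]; omega
    · have := key q (by simpa using hq) (by rw [geom_sum_mul, ← Nat.cast_pow, h]; simp)
      rw [← Nat.cast_pow] at this
      have := Nat.le_self_pow hj q
      simp only [pow_one]; omega

end CF.Small
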