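import Cfsg.Agent.Small.M24d

/-!
# Simple groups of order 244823040: stages of the search
-/

set_option autoImplicit false
set_option maxRecDepth 100000
set_option Elab.async false

namespace CF.Small.En.M24

theorem t7b : allS s7b k7 = true := by
  decide +kernel

theorem t8 : cmpB N A 1 (k1 m1) [P11, P23] [false, false] (W5.map dr) = true := by
  decide +kernel

theorem tz : (((cands N A [P11, P23] [false, true] (fun _ => true) fun _ => true).all fun r => Z23.contains r.1) &&
    (cands N A [P11, P23] [true, true] (fun _ => true) fun _ => true).all fun r => Z253.contains r.1) = true := by
  decide +kernel

theorem t9a : st2 s1a = true := by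
  decide +kernel

end CF.Small.En.M24
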