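import Cfsg.Agent.Small.M24d

/-!
# Simple groups of order 244823040: stages of the search
-/

set_option autoImplicit false
set_option maxRecDepth 100000
set_option Elab.async false

namespace CF.Small.En.M24

theorem t9b : st2 s1b = true := by
  decide +kernel

theorem t10a : st3 Da = true := by
  decide +kernel

theorem t10b : st3 Db = true := by
  decide +kernel

theorem t10c : st3 Dc = true := by
  decide +kernel

end CF.Small.En.M24
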