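import Cfsg.Agent.Small.M22p
import Cfsg.Agent.Small.En7

/-!
# Quadruply transitive groups of degree 12
-/

set_option autoImplicit false
set_option linter.unusedSectionVars false

namespace CF.Small

open Cfsg CF.Leech CF.Comp.Mat Cfsg.Spor Finset MulAction CF.Perm CF.Transfer Subgroup CF.PF CF.Char
open scoped Pointwise

section
variable {G Ω : Type*} [Group G] [Fintype Ω] [DecidableEq Ω] [MulAction G Ω]

theorem orderOf_dvd_of_fx [Finite G] {t : ℕ} (h : IsMultiplyPretransitive G Ω t) {m : ℕ}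
    (hc : Nat.card G = (Fintype.card Ω).descFactorial t * m) {g : G} (hg : t ≤ (fx Ω g).card) :
    orderOf g ∣ m := by
  obtain ⟨s, h2, h3⟩ := exists_subset_card_eq hg
  let x : Fin t ↪ Ω := (equivFinOfCardEq h3).symm.toEmbedding.trans (.subtype _)
  have := card_eq_of_sharp h x
  rw [Nat.card_eq_fintype_card (α := Ω), hc, Nat.mul_right_inj
    (left_ne_zero_of_mul (hc ▸ Nat.card_pos.ne'))] at this
  exact this ▸ Subgroup.orderOf_dvd_natCard _ (mem_stab_emb.2 fun i =>
    mem_fx.1 (h2 ((equivFinOfCardEq h3).symm i).2))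

theorem iso_M12' [Finite G] [FaithfulSMul G Ω] (hn : Fintype.card Ω = 12)
    (h : IsMultiplyPretransitive G Ω 4) (hc : Nat.card G = 95040)
    (h4 : ∀ w : G, orderOf w = 2 → 4 ∣ (fx Ω w).card) : Nonempty (G ≃* M12) := by
  classical
  have h1 : ∀ g : G, 4 ≤ (fx Ω g).card → orderOf g ∣ 8 := fun g => orderOf_dvd_of_fx h (by rw [hc, hn]; rfl)
  have h0 : ∀ g : G, (fx Ω g).card = 12 → g = 1 := fun g k =>
    FaithfulSMul.eq_of_smul_eq_smul (α := Ω) fun a => by
      rw [one_smul, ← mem_fx, eq_univ_of_card _ (k.trans hn.symm)]; exact mem_univ a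
  have h2 : ∀ w : G, orderOf w = 2 → (fx Ω w).card < 5 := fun w hw => by
    by_contra! k
    have k1 : (fx Ω w).card = 8 := by
      have := card_le_univ (fx Ω w)
      have := h4 w hw
      have := mt (h0 w) (by rintro rfl; simp at hw)
      omega
    have k2 : ∀ a : Ω, w • w • a = a := fun a => by rw [smul_smul, ← sq, ← hw, pow_orderOf_eq_one, one_smul]
    obtain ⟨a, ha⟩ := card_pos.1 (show 0 < #(fx Ω w)ᶜ by rw [card_compl]; omega)
    obtain ⟨c, hc⟩ := card_pos.1 (show 0 < #((fx Ω w)ᶜ \ {a, w • a}) by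
      have := le_card_sdiff {a, w • a} (fx Ω w)ᶜ
      have := card_le_two (a := a) (b := w • a)
      rw [card_compl] at *; omega)
    obtain ⟨e, he⟩ := card_pos.1 (show 0 < #(fx Ω w) by omega)
    simp only [mem_sdiff, mem_compl, mem_fx, mem_insert, mem_singleton, not_or] at ha hc he
    have k3 : ({a, w • a, c, w • c} : Finset Ω) = (fx Ω w)ᶜ := eq_of_subset_of_card_le
      (by simp only [subset_iff, mem_insert, mem_singleton, mem_compl, mem_fx]; grind)
      (by rw [card_compl, (card_eq_four (s := {a, w • a, c, w • c})).2 ⟨a, w • a, c, w • c, by grind⟩]; omega)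
    have k4 : ∀ b : Ω, w • b = b ∨ b = a ∨ b = w • a ∨ b = c ∨ b = w • c := fun b => by
      simpa [mem_fx, or_iff_not_imp_left (a := w • b = b)] using (Finset.ext_iff.1 k3 b).2
    obtain ⟨g, hg⟩ := (multTrans_iff 4).1 h ![a, w • a, c, e] ![a, w • a, c, w • c]
      (inj4 (by grind) (by grind) (by grind) (by grind) (by grind) (by grind))
      (inj4 (by grind) (by grind) (by grind) (by grind) (by grind) (by grind))
    have g0 : g • a = a := hg 0
    have g1 : g • w • a = w • a := hg 1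
    have g2 : g • c = c := hg 2
    have g3 : g • e = w • c := hg 3
    have k5 : fx Ω (w * (g⁻¹ * w * g)) = {c, e, w • c}ᶜ := by
      ext b
      have := k4 (g • b)
      have := k4 b
      have := MulAction.injective (β := Ω) g
      simp only [mem_fx, mul_smul, mem_compl, mem_insert, mem_singleton]
      rw [smul_eq_iff_eq_inv_smul, inv_smul_eq_iff,
        show w⁻¹ = w from inv_eq_of_mul_eq_one_right (by rw [← sq, ← hw, pow_orderOf_eq_one])]
      grind
    have k6 : #(fx Ω (w * (g⁻¹ * w * g))) = 9 := by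
      rw [k5, card_compl, hn, (card_eq_three (s := {c, e, w • c})).2 ⟨c, e, w • c, by grind⟩]
    have := (IsPGroup.of_card_dvd_pow (p := 2) (n := 3) ((Nat.card_zpowers _).dvd.trans (h1 _
      (k6.ge.trans' (by decide))))).card_modEq_card_fixedPoints Ω
    rw [Nat.card_eq_fintype_card, hn, Nat.card_congr (β := fixedBy Ω (w * (g⁻¹ * w * g)))
      (Equiv.subtypeEquivRight fun a => ⟨fun k => k ⟨_, mem_zpowers _⟩,
        fun k t => (zpowers_le (H := stabilizer G a)).2 k t.2⟩), ← card_fx, k6] at this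
    exact absurd this (by decide)
  have := Fintype.ofFinite G
  refine iso_M12 hn (multi_of_sum ?_) hc
  rw [sum_eq_single_of_mem 1 (mem_univ _) fun g _ hg => Nat.descFactorial_of_lt (by
    by_contra! k
    rw [← card_fx] at k
    obtain ⟨w, hw⟩ := exists_prime_orderOf_dvd_card' (G := zpowers g) 2 (by
      obtain ⟨j, -, e⟩ := (Nat.dvd_prime_pow Nat.prime_two (m := 3)).1 (h1 g (by omega))
      rw [Nat.card_zpowers, e]
      exact dvd_pow_self _ (by rintro rfl; exact hg (orderOf_eq_one_iff.1 e)))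
    exact (h2 w (by simpa using hw)).not_ge (k.trans (card_le_card fun a ha =>
      mem_fx.2 ((zpowers_le (H := stabilizer G a)).2 (mem_fx.1 ha) w.2)))), hc]
  simp [hn, Nat.descFactorial]

end

variable {G : Type*} [Group G] [Finite G]

theorem card_invol {t k : G} (ht : orderOf t = 2) (hk : orderOf k = 2)
    (h : Nat.card (centralizer ({t} : Set G)) ≠ Nat.card (centralizer ({k} : Set G))) :
    1 + (centralizer ({t} : Set G)).index + (centralizer ({k} : Set G)).index ≤
      Nat.card {s : G // s * s = 1} := by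
  have h1 : ∀ {t s : G}, orderOf t = 2 → IsConj t s → s * s = 1 ∧ s ≠ 1 := fun ht k => by
    have := k.choose_spec.orderOf_eq
    exact ⟨by rw [← sq, ← ht, this, pow_orderOf_eq_one], by rintro rfl; simp [ht] at this⟩
  rw [← card_class_eq_index, ← card_class_eq_index, ← Nat.card_unique (α := Unit), ← Nat.card_sum,
    ← Nat.card_sum]
  refine Nat.card_le_card_of_injective (Sum.elim (Sum.elim (fun _ => ⟨1, mul_one 1⟩)
    fun s => ⟨s.1, (h1 ht s.2).1⟩) fun s => ⟨s.1, (h1 hk s.2).1⟩) ?_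
  rintro ((a | a) | a) ((b | b) | b) e <;> simp only [Sum.elim_inl, Sum.elim_inr, Subtype.mk.injEq] at e
  exacts [rfl, absurd e.symm (h1 ht b.2).2, absurd e.symm (h1 hk b.2).2, absurd e (h1 ht a.2).2,
    by rw [Subtype.ext e], absurd (card_centralizer_eq_of_isConj (a.2.trans (e ▸ b.2.symm))) h,
    absurd e (h1 hk a.2).2, absurd (card_centralizer_eq_of_isConj (b.2.trans (e ▸ a.2.symm))) h,
    by rw [Subtype.ext e]]

theorem PSet.val_zp {p : ℕ} [Fact p.Prime] (S : PSet p G) (h : S.fi + 1 = p) {φ : G → ℂ}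
    (hφ : φ ∈ CFn (⊤ : Subgroup G)) {i : ZMod p} (hi : i ≠ 0) : φ (S.zp i) = φ S.z := by
  have h1 : S.actHom.ker = S.C.subgroupOf S.N := by
    ext n; rw [MonoidHom.mem_ker, Units.ext_iff, mem_subgroupOf, ← S.act_eq_one_iff n.2]; rfl
  obtain ⟨n, hn⟩ := MonoidHom.range_eq_top.1 (eq_top_of_card_eq S.actHom.range (by
    rw [← index_ker, h1, Nat.card_eq_fintype_card, ZMod.card_units]; exact Nat.eq_sub_of_add_eq h))
    (Units.mk0 i hi)
  rw [← show S.act n = i from congrArg Units.val hn, ← S.conj_z n.2, CFn.conj hφ (mem_top _)]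

theorem eq_zero_of_sq {δ : G → ℂ} (h : ∀ g, δ (g * g) = -δ g) (hi : ∀ g, δ g⁻¹ = δ g) {g : G} {a b : ℕ}
    (ha : Odd a) (hb : Even b) (hg : g ^ (2 ^ a + 2 ^ b) = 1) : δ g = 0 := by
  have h1 : ∀ n, δ (g ^ 2 ^ n) = (-1) ^ n * δ g := fun n => by
    induction n with
    | zero => simp
    | succ n ih => rw [pow_succ, pow_mul, sq, h, ih]; ring
  have h2 := h1 a
  rw [eq_inv_of_mul_eq_one_left ((pow_add g _ _).symm.trans hg), hi, h1, ha.neg_one_pow, hb.neg_one_pow] at h2
  linear_combination h2 / 2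

theorem Tab.val_of {l : List (G → ℂ)} {D : List ℕ} (T : Tab l D) {φ : G → ℂ} (h : IsCh ⊤ φ) {v : List ℕ}
    (e : l.map (mu ⊤ φ) = v) (g : G) : φ g = (List.zipWith (fun (m : ℕ) (χ : G → ℂ) => (m : ℂ) * χ g) v l).sum := by
  rw [T.val h, ← e, List.zipWith_map_left, List.zipWith_self]

end CF.Small
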