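import Cfsg.Agent.Small.M23
import Cfsg.Agent.Small.M12p

/-!
# Quadruply transitive groups of degree 24
-/

set_option autoImplicit false
set_option linter.unusedSectionVars false

namespace CF.Small

open Cfsg CF.Leech CF.Comp.Mat Cfsg.Spor Finset MulAction CF.Perm CF.Transfer Subgroup CF.BlockB CF.PF Sv
  CF.Char En
open scoped Pointwise

variable {G Ω : Type*} [Group G] [Fintype Ω] [DecidableEq Ω] [MulAction G Ω]

theorem fix_seven [Finite G] [FaithfulSMul G Ω] (hn : Fintype.card Ω = 23)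
    (h : IsMultiplyPretransitive G Ω 4) (hc : Nat.card G = 10200960) (h10 : ∀ g : G, orderOf g ≠ 5 * 2)
    (x : Fin 4 ↪ Ω) : ∃ T, IsSylowIn 2 T (stabilizer G x) ∧ stabilizer G x ≤ normalizer (T : Set G) ∧
      Nat.card (fixSub Ω T) = 7 := by
  classical
  haveI : Fact (Nat.Prime 5) := ⟨by norm_num⟩
  have cH : Nat.card (stabilizer G x) = 48 := by
    have := card_eq_of_sharp h x
    rw [hc, Nat.card_eq_fintype_card (α := Ω), hn, show Nat.descFactorial 23 4 = 212520 from rfl] at this
    omega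
  obtain ⟨T, hT⟩ := exists_isSylowIn 2 (stabilizer G x)
  have cT : Nat.card T = 16 := by
    rw [← Nat.card_congr (subgroupOfEquivOfLe hT.le).toEquiv, ← hT.coe_toSylow, Sylow.card_eq_multiplicity,
      cH, show 48 = 2 ^ 4 * 3 from rfl, Nat.factorization_mul_apply_of_coprime (by norm_num),
      Nat.Prime.factorization_pow Nat.prime_two, Nat.factorization_eq_zero_of_not_dvd (by norm_num)]
    simp
  let x' : Fin 4 ↪ fixSub Ω T :=
    x.codRestrict _ fun i t ht => mem_stab_emb.1 (hT.le ht) i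
  have h1 : ∀ y : Fin 4 ↪ fixSub Ω T, ∃ n : normalizer (T : Set G), n • x' = y := fun y => by
    obtain ⟨g, hg⟩ := h.exists_smul_eq x (y.trans (.subtype _))
    obtain ⟨m, -, k1, k2⟩ := witt (M := ⊤) (g := g) (x := x) (by simpa using hT)
      (fun t ht => hg ▸ mem_stab_emb.2 fun i => (y i).2 ht)
    exact ⟨⟨_, k1⟩, Function.Embedding.ext fun i => Subtype.ext (DFunLike.congr_fun (k2.trans hg) i)⟩
  have h2 : IsMultiplyPretransitive (normalizer (T : Set G)) (fixSub Ω T) 4 := ⟨fun y z => by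
    obtain ⟨a, rfl⟩ := h1 y
    obtain ⟨b, rfl⟩ := h1 z
    exact ⟨b * a⁻¹, by rw [mul_smul, inv_smul_smul]⟩⟩
  have h3 : ∀ n : normalizer (T : Set G), n • x' = x' → n.1 ∈ stabilizer G x := fun n hn =>
    mem_stab_emb.2 fun i => congrArg Subtype.val (DFunLike.congr_fun hn i)
  have h4 : T.subgroupOf _ ≤ (toPermHom (normalizer (T : Set G)) (fixSub Ω T)).ker := fun t ht =>
    Equiv.ext fun a => Subtype.ext (a.2 ht)
  have h5 : 16 * Nat.card (toPermHom (normalizer (T : Set G)) (fixSub Ω T)).range ∣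
      Nat.card (normalizer (T : Set G)) := by
    rw [← (toPermHom (normalizer (T : Set G)) (fixSub Ω T)).ker.card_mul_index, index_ker, ← cT,
      ← Nat.card_congr (subgroupOfEquivOfLe le_normalizer).toEquiv]
    exact mul_dvd_mul_right (card_dvd_of_le h4) _
  have h6 : Fintype.card (fixSub Ω T) % 2 = 1 := by
    have := hT.isPGroup.card_modEq_card_fixedPoints Ω
    rw [Nat.card_eq_fintype_card, hn, Nat.card_congr (β := fixSub Ω T)
      (Equiv.subtypeEquivRight fun a => ⟨fun k t ht => k ⟨t, ht⟩, fun k t => k t.2⟩),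
      Nat.card_eq_fintype_card] at this
    exact this.symm
  rcases hall_four _ (multTrans_range.2 h2) x' (odd_card_iff.2 fun ⟨⟨_, n, rfl⟩, hn⟩ => by
    have k1 := h3 n hn
    have k2 : n ^ 3 ∈ T.subgroupOf _ := hT.le_of_le_normalizer (Q := zpowers (n.1 ^ 3))
      (IsPGroup.of_card_dvd_pow (n := 4) (by
        rw [Nat.card_zpowers, orderOf_dvd_iff_pow_eq_one, ← pow_mul, ← orderOf_dvd_iff_pow_eq_one]
        exact (show 3 * 2 ^ 4 = _ from cH.symm) ▸ Subgroup.orderOf_dvd_natCard _ k1)) (zpowers_le.2 (pow_mem k1 3))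
      (zpowers_le.2 (pow_mem n.2 3)) (mem_zpowers _)
    rw [← Subgroup.orderOf_coe, ← Subgroup.orderOf_coe]
    exact (show Odd 3 by decide).of_dvd_nat (orderOf_dvd_of_pow_eq_one (by
      rw [← map_pow]; exact h4 k2))) with ⟨k, e⟩ | ⟨k, e⟩ | ⟨-, e⟩
  · replace k : Fintype.card (fixSub Ω T) = 5 := by omega
    rw [e, Subgroup.card_top, Nat.card_perm, Nat.card_eq_fintype_card, k] at h5
    obtain ⟨u, hu⟩ := exists_prime_orderOf_dvd_card' 5 (Dvd.dvd.trans (by norm_num [Nat.factorial]) h5)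
    have hu' : orderOf u.1 = 5 := by rw [Subgroup.orderOf_coe, hu]
    have k1 : ∀ a ∈ fx Ω u.1, ∀ t ∈ T, t • a = a → t = 1 := fun a ha t ht e => by
      have k2 := dvd_card_sub_one (p := 5) Nat.prime_two (by norm_num) h10 (P := zpowers u.1)
        (Q := T ⊓ stabilizer G a) (isPGroup_zpowers (k := 1) hu') hT.isPGroup.to_inf_left
        (zpowers_le.2 (inf_normalizer_le_normalizer_inf ⟨u.2, le_normalizer (mem_fx.1 ha)⟩))
      have k3 := card_dvd_of_le (inf_le_left (a := T) (b := stabilizer G a))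
      rw [Nat.card_zpowers, hu'] at k2
      rw [cT] at k3
      have k4 : Nat.card (T ⊓ stabilizer G a :) ≠ 16 := fun k4 => by
        have k5 := card_fx_modEq (Ω := fixSub Ω T) (g := u) (p := 5) (hu ▸ pow_orderOf_eq_one u)
        have k6 := card_pos.2 ⟨(⟨a, (inf_eq_left (a := T)).1
          (eq_of_le_of_card_ge inf_le_left (cT.trans k4.symm).le)⟩ : fixSub Ω T),
          mem_fx.2 (Subtype.ext (mem_fx.1 ha) : u • _ = _)⟩
        have k7 := card_le_univ (fx (fixSub Ω T) u)
        have k8 := eq_univ_of_card (fx (fixSub Ω T) u) (by rw [Nat.ModEq] at k5; omega)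
        have k9 := Subgroup.orderOf_dvd_natCard _ (h3 u (mem_stab_emb.2 fun i => mem_fx.1 (k8 ▸ mem_univ _)))
        rw [hu', cH] at k9
        norm_num at k9
      have k5 : Nat.card (T ⊓ stabilizer G a :) = 1 := by
        have := Nat.le_of_dvd (by norm_num) k3
        generalize Nat.card (T ⊓ stabilizer G a :) = m at *
        interval_cases m <;> omega
      exact (eq_bot_of_card_eq _ k5).le ⟨ht, e⟩
    have k2 := card_fx_modEq (Ω := Ω) (p := 5) (hu' ▸ pow_orderOf_eq_one u.1)
    obtain ⟨a, ha, b, hb, hab⟩ := one_lt_card.1 (show 1 < #(fx Ω u.1) by rw [Nat.ModEq] at k2; omega)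
    have k3 : ∀ a ∈ fx Ω u.1, ∀ b ∈ fx Ω u.1, ∀ s t : T, s.1 • a = t.1 • b → s = t := fun a ha b hb s t e => by
      have k4 : (t⁻¹ * s).1 • a = b := by rw [Subgroup.coe_mul, mul_smul, e, Subgroup.coe_inv, inv_smul_smul]
      rw [eq_comm, ← inv_mul_eq_one]
      generalize t⁻¹ * s = r at k4
      by_contra k5
      have k6 := k1 a ha (r.1⁻¹ * (u.1 * r.1 * u.1⁻¹)) (mul_mem (inv_mem r.2) ((u.2 _).1 r.2)) (by
        rw [mul_smul, mul_smul, mul_smul, inv_smul_eq_iff.2 (mem_fx.1 ha).symm, k4, mem_fx.1 hb, ← k4,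
          inv_smul_smul])
      obtain ⟨g, hg⟩ := exists_orderOf_mul (p := 5) Nat.prime_two (by norm_num) (x := u.1) (y := r.1)
        (by rw [inv_mul_eq_one, eq_mul_inv_iff_mul_eq] at k6; exact k6.symm) hu'.symm.dvd
        (dvd_of_isPGroup hT.isPGroup r.2 (by simpa using k5))
      exact h10 g hg
    have := Nat.card_le_card_of_injective (Sum.elim (fun s : T => s.1 • a) fun s : T => s.1 • b) (by
      rintro (s | s) (t | t) e
      exacts [congrArg _ (k3 a ha a ha s t e), absurd (smul_left_cancel _ (k3 a ha b hb s t e ▸ e)) hab,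
        absurd (smul_left_cancel _ (k3 b hb a ha s t e ▸ e)) hab.symm, congrArg _ (k3 b hb b hb s t e)])
    norm_num [cT, hn] at this
  · replace k : Fintype.card (fixSub Ω T) = 7 := by omega
    have : Nontrivial (fixSub Ω T) := Fintype.one_lt_card_iff_nontrivial.1 (by omega)
    rw [e, nat_card_alternatingGroup, Nat.card_eq_fintype_card, k, card_eq_of_sharp h2 x',
      Nat.card_eq_fintype_card, k] at h5
    have k1 : stabilizer G x ≤ normalizer (T : Set G) := by
      rw [← eq_of_le_of_card_ge (H := (stabilizer _ x').map (normalizer (T : Set G)).subtype)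
        (K := stabilizer G x) (map_le_iff_le_comap.2 h3) (by
          rw [cH, card_map_of_injective (subtype_injective _)]
          exact Nat.le_of_dvd Nat.card_pos (Nat.dvd_of_mul_dvd_mul_left (k := 840) (by norm_num) h5))]
      exact map_subtype_le _
    exact ⟨T, hT, k1, Nat.card_eq_fintype_card.trans k⟩
  · rw [e] at h5
    exact absurd (hc ▸ h5.trans (card_subgroup_dvd_card _)) (by norm_num)

theorem four_of_act [Finite G] [IsPretransitive G Ω] (hn : Fintype.card Ω = 23) (hc : Nat.card G = 10200960)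
    {X : Type*} [Fintype X] [DecidableEq X] [MulAction G X] (hX : Fintype.card X = 23)
    (h : IsMultiplyPretransitive G X 4) : IsMultiplyPretransitive G Ω 4 := by
  classical
  obtain ⟨b⟩ : Nonempty Ω := Fintype.card_pos_iff.1 (by omega)
  have h1 : Nat.card (stabilizer G b) = 443520 := by
    have := (stabilizer G b).card_mul_index
    rw [index_stabilizer_of_transitive, Nat.card_eq_fintype_card (α := Ω), hn, hc] at this
    omega
  have h2 : ∀ p, p.Prime → p ∣ 443520 → ¬ p ∣ 48 → ∃ f < 4, 23 ≡ f [MOD p] ∧ ∀ x : X, ∃ k ≤ f,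
      (orbit (stabilizer G b) x).ncard ≡ k [MOD p] := fun p hp k1 k2 => by
    have := Fact.mk hp
    obtain ⟨u, hu⟩ := exists_prime_orderOf_dvd_card' (G := stabilizer G b) p (h1 ▸ k1)
    refine ⟨(fx X u.1).card, not_le.1 fun k => k2 ?_, hX ▸ card_fx_modEq ?_, fun x => ?_⟩
    · rw [← hu, ← Subgroup.orderOf_coe]; exact orderOf_dvd_of_fx h (by rw [hc, hX]; rfl) k
    · rw [← hu, ← Subgroup.orderOf_coe, pow_orderOf_eq_one]
    refine ⟨(fx (orbit (stabilizer G b) x) u).card, card_le_card_of_injOn (·.1) (fun a k => ?_)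
      Subtype.val_injective.injOn, ?_⟩
    · exact mem_fx.2 (congrArg Subtype.val (mem_fx.1 k))
    · rw [← Nat.card_coe_set_eq, Nat.card_eq_fintype_card]; exact card_fx_modEq (hu ▸ pow_orderOf_eq_one u)
  obtain ⟨f, f1, f2, f3⟩ := h2 7 (by norm_num) (by norm_num) (by norm_num)
  obtain ⟨f', f4, f5, f6⟩ := h2 11 (by norm_num) (by norm_num) (by norm_num)
  have h3 : ∀ s : Set X, s.ncard + sᶜ.ncard = 23 := fun s => by
    rw [Set.ncard_add_ncard_compl, Nat.card_eq_fintype_card, hX]
  have h4 : ∀ x : X, (orbit (stabilizer G b) x).ncard = 1 ∨ (orbit (stabilizer G b) x).ncard = 22 := fun x => by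
    obtain ⟨k, k1, k2⟩ := f3 x
    obtain ⟨l, k3, k4⟩ := f6 x
    have k5 := (stabilizer (stabilizer G b) x).index_dvd_card
    rw [index_stabilizer, h1] at k5
    have := h3 (orbit (stabilizer G b) x)
    generalize (orbit (stabilizer G b) x).ncard = m at *
    have : m ≠ 0 := by rintro rfl; norm_num at k5
    have : m ≠ 23 := by rintro rfl; norm_num at k5
    simp only [Nat.ModEq] at *
    omega
  obtain ⟨x, hx⟩ : ∃ x : X, (orbit (stabilizer G b) x).ncard = 1 := by
    by_contra! k
    obtain ⟨x⟩ : Nonempty X := Fintype.card_pos_iff.1 (by omega)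
    have k1 := h3 (orbit (stabilizer G b) x)
    obtain ⟨y, hy⟩ := Set.nonempty_of_ncard_ne_zero (s := (orbit (stabilizer G b) x)ᶜ)
      (by have := h4 x; omega)
    have := Set.ncard_le_ncard (s := orbit (stabilizer G b) y) (t := (orbit (stabilizer G b) x)ᶜ) fun z e e' =>
      hy (by rw [← orbit_eq_iff.2 e', orbit_eq_iff.2 e]; exact mem_orbit_self y)
    have := h4 x
    have := h4 y
    have := k x
    have := k y
    omega
  have h5 : ∀ g : G, g • b = b → g • x = x := fun g k =>
    (Set.ncard_le_one_iff (Set.toFinite _)).1 hx.le (mem_orbit x (⟨g, k⟩ : stabilizer G b)) (mem_orbit_self x)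
  choose c hc using exists_smul_eq G b
  have h6 : ∀ g : G, c (g • b) • x = g • x := fun g => by
    rw [← inv_smul_eq_iff, smul_smul]; exact h5 _ (by rw [mul_smul, hc, inv_smul_smul])
  let φ : Ω →[G] X := ⟨fun a => c a • x, fun g a => by
    conv_lhs => rw [← hc a, smul_smul, h6, mul_smul]
    rfl⟩
  have : IsPretransitive G X := is_one_pretransitive_iff.1 (isMultiplyPretransitive_of_le' (n := 4) (by norm_num)
    (by simp [hX]; norm_num))
  exact (IsPretransitive.of_embedding_congr (f := φ) Function.surjective_id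
    ((Fintype.bijective_iff_surjective_and_card _).2 ⟨fun y =>
      let ⟨g, k⟩ := exists_smul_eq G x y; ⟨g • b, (h6 g).trans k⟩, hn.trans hX.symm⟩)).2 h

theorem four_23 [Finite G] [IsSimpleGroup G] [IsPretransitive G Ω] (hn : Fintype.card Ω = 23)
    (h : Nat.card G = 10200960) : IsMultiplyPretransitive G Ω 4 ∧ ∀ g : G, orderOf g ≠ 5 * 2 := by
  haveI : Fact (Nat.Prime 11) := ⟨by norm_num⟩
  have hG := commutator_eq_top (nc_of_card h (by norm_num))
  obtain ⟨cs, W, ⟨p1, p2, p3⟩, k1, k2⟩ := tab23 h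
  obtain ⟨-, -, -, X, _, _, _, _, k3, -, -, k4⟩ := k2.act (fun _ => rfl) k1 (by decide) rfl rfl
    fun χ i e => by
      have f : fs χ = 1 := by rw [← coe_fz i, show fz χ = 1 from congrArg (·.at 0) e, Int.cast_one]
      obtain ⟨m1, m2⟩ := mu_triv_of_fs_one i f
      obtain ⟨a1, a2⟩ := col_sq p1 (isCh_of_irr i) (a := 0) (b := 0) (c := 0) (fun g k => by
        rw [val_zero (p := 11) i (by norm_num [h]) (by rw [show charDegree χ = 22 from congrArg (·.1) e]; decide) k,
          Int.cast_zero]) rfl rfl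
      obtain ⟨b1, b2⟩ := col_sq p3 (isCh_of_irr i) (a := -1) (b := 0) (c := 1)
        (col_val p3 i (congrArg (·.at 4) e) (by decide)) rfl rfl
      simp only [Sat, List.forall_mem_cons, List.not_mem_nil, false_imp_iff, implies_true, and_true]
      exact ⟨f, ⟨(sum_mu_triv hG fun _ => rfl).trans (by simp [m1]), a1, b1⟩,
        (sum_mu_triv hG fun _ => rfl).trans (by simp [m2]), a2, b2⟩
  refine ⟨four_of_act hn h k3 ((pretransitive_iff_subsingleton_quotient G _).2
    (Nat.card_eq_one_iff_unique.1 (by omega)).1), fun g hg => ?_⟩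
  have := Subgroup.orderOf_dvd_natCard _ (mem_centralizer_singleton_iff.2 (Commute.self_pow g 2))
  rw [col_cent p2 (by rw [orderOf_pow, hg]; rfl), hg] at this
  norm_num at this

theorem iso_M24 [Finite G] [FaithfulSMul G Ω] (hn : Fintype.card Ω = 24) (h : IsMultiplyPretransitive G Ω 2)
    (hc : Nat.card G = 244823040) {u : G} (hu : orderOf u = 23)
    (hN : Nat.card (normalizer (zpowers u : Set G)) = 253) : Nonempty (G ≃* M24) := by
  classical
  haveI : Fact (Nat.Prime 23) := ⟨by norm_num⟩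
  have h1 := card_fx_modEq (Ω := Ω) (p := 23) (hu ▸ pow_orderOf_eq_one u)
  obtain ⟨a, ha⟩ := card_pos.1 (show 0 < #(fx Ω u) by rw [Nat.ModEq] at h1; omega)
  have : IsPretransitive G Ω := is_one_pretransitive_iff.1 (isMultiplyPretransitive_of_le' (n := 2) (by norm_num)
    (by simp [hn]; norm_num))
  have cH : Nat.card (stabilizer G a) = 10200960 := by
    have := (stabilizer G a).card_mul_index
    rw [index_stabilizer_of_transitive, Nat.card_eq_fintype_card (α := Ω), hn, hc] at this
    omega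
  have h2 := zpowers_le.2 (show u ∈ stabilizer G a from mem_fx.1 ha)
  obtain ⟨S, hS⟩ := exists_pset (p := 23) ((zpowers u).subgroupOf (stabilizer G a))
    (by rw [Nat.card_congr (subgroupOfEquivOfLe h2).toEquiv, Nat.card_zpowers, hu]) (by rw [cH]; norm_num)
  have := simple_23 cH S (by
    obtain ⟨n, k1⟩ := S.exists_index_N
    have k2 := S.N.card_mul_index
    have k3 : Nat.card S.N ∣ 253 := by
      rw [← hN, PSet.N, PSet.P, hS, ← subgroupOf_normalizer_eq h2]
      exact card_comap_dvd_of_injective _ _ (subtype_injective _)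
    have := Nat.le_of_dvd (by norm_num) k3
    rw [cH] at k2
    rcases (by decide +kernel : ∀ m ≤ 253, m ∣ 253 → m = 1 ∨ m = 11 ∨ m = 23 ∨ m = 253) _ this k3 with
      e | e | e | e <;> rw [e] at k2 <;> omega)
  have := Fintype.ofFinite (SubMulAction.ofStabilizer G a)
  have cO : Fintype.card (SubMulAction.ofStabilizer G a) = 23 := by
    rw [← Nat.card_eq_fintype_card, SubMulAction.nat_card_ofStabilizer_eq, Nat.card_eq_fintype_card, hn]
  have := is_one_pretransitive_iff.1 ((SubMulAction.ofStabilizer.isMultiplyPretransitive (a := a)).1 h)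
  have : FaithfulSMul (stabilizer G a) (SubMulAction.ofStabilizer G a) := ⟨fun {g g'} k =>
    Subtype.ext (FaithfulSMul.eq_of_smul_eq_smul (α := Ω) fun b => by
      by_cases e : b = a
      exacts [e ▸ g.2.trans g'.2.symm, congrArg Subtype.val (k ⟨b, e⟩)])⟩
  obtain ⟨h3, h4⟩ := four_23 cO cH
  obtain ⟨x⟩ := Function.Embedding.nonempty_of_card_le (α := Fin 4) (β := SubMulAction.ofStabilizer G a)
    (by simp [cO])
  obtain ⟨T, hT, k1, k2⟩ := fix_seven cO h3 cH h4 x
  have h5 : ∀ g : G, (∀ i, g • SubMulAction.ofStabilizer.snoc x i = SubMulAction.ofStabilizer.snoc x i) ↔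
      ∃ k : g ∈ stabilizer G a, ⟨g, k⟩ ∈ stabilizer (stabilizer G a) x := fun g => by
    simp only [Fin.forall_fin_succ', SubMulAction.ofStabilizer.snoc_castSucc,
      SubMulAction.ofStabilizer.snoc_last, mem_stab_emb, Subtype.ext_iff]
    exact ⟨fun k => ⟨k.2, k.1⟩, fun ⟨k, k'⟩ => ⟨k', k⟩⟩
  have h6 := steiner_of_block ((SubMulAction.ofStabilizer.isMultiplyPretransitive (a := a)).2 h3)
    (SubMulAction.ofStabilizer.snoc x) (F := univ.filter fun b => T.map (Subgroup.subtype _) ≤ stabilizer G b)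
    (fun i => mem_filter.2 ⟨mem_univ _, by
      rintro _ ⟨t, ht, rfl⟩; exact (h5 _).2 ⟨t.2, hT.le ht⟩ i⟩) fun g hg => by
      have k3 : ∀ b : Ω, b ∈ g • univ.filter (fun b => T.map (Subgroup.subtype _) ≤ stabilizer G b) ↔
          cj g (T.map (Subgroup.subtype _)) ≤ stabilizer G b :=
        fun a => by rw [← inv_smul_mem_iff, mem_filter, cj_le_iff, cj_stabilizer]; simp
      have k4 := fun t (ht : t ∈ cj g (T.map (Subgroup.subtype _))) => (h5 t).1 fun i => (k3 _).1 (hg i) ht
      have k5 : (cj g (T.map (Subgroup.subtype _))).subgroupOf _ ≤ stabilizer (stabilizer G a) x :=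
        fun t ht => (k4 t ht).2
      have k6 := eq_of_le_of_card_ge (H := cj g (T.map (Subgroup.subtype _))) (K := T.map (Subgroup.subtype _))
        (fun t ht => ⟨⟨t, (k4 t ht).1⟩, hT.le_of_le_normalizer (isPGroup_subgroupOf
          ((isPGroup_map_subtype hT.isPGroup).map _) _) k5 (k5.trans k1) ht, rfl⟩) (card_cj _ _).ge
      ext a
      simp [k3, k6]
  rw [show #_ = 8 by
    rw [← card_erase_add_one (a := a) (mem_filter.2 ⟨mem_univ _, map_subtype_le T⟩), Nat.add_right_cancel_iff,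
      ← k2, ← Fintype.card_coe, ← Nat.card_eq_fintype_card]
    refine Nat.card_congr ⟨fun b => ⟨⟨b.1, ne_of_mem_erase b.2⟩, fun t ht => Subtype.ext
      ((mem_filter.1 (mem_of_mem_erase b.2)).2 ⟨t, ht, rfl⟩)⟩, fun b => ⟨b.1.1, mem_erase.2 ⟨b.1.2,
        mem_filter.2 ⟨mem_univ _, ?_⟩⟩⟩, fun _ => rfl, fun _ => rfl⟩
    rintro _ ⟨t, ht, rfl⟩
    exact congrArg Subtype.val (b.2 ht)] at h6
  obtain ⟨⟨e⟩, -⟩ := aut24 hn h6
  obtain ⟨e'⟩ := equiv_orbit (hc.trans (card_M24.symm.trans (Nat.card_congr e.toEquiv)))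
  exact ⟨e'.trans e.symm⟩

end CF.Small
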