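import Cfsg.Agent.Small.M24q
import Cfsg.Agent.Small.M24c
import Cfsg.Agent.Small.M24e
import Cfsg.Agent.Small.M24p

/-!
# Simple groups of order 244823040
-/

set_option autoImplicit false
set_option linter.unusedSectionVars false
set_option maxRecDepth 100000

namespace CF.Small

namespace En.M24

open Subgroup CF.BlockB Cfsg CF.PF Sv CF.Char MulAction

section

variable {G : Type*} [Group G] [Finite G] {φ : G → ℂ} {F : (G → ℂ) → Row} {W : List Row}

open _root_.Classical in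
theorem dec_part {l : List (G → ℂ)} (h1 : l.Nodup) (h2 : l.toFinset ⊆ irr ⊤) (hW : l.map F = W)
    (hF : ∀ χ, (F χ).1 = charDegree χ) {u : ℕ} (hu : 0 < u) (h3 : ∀ χ ∈ irr ⊤ \ l.toFinset, u ∣ charDegree χ)
    (h : IsCh ⊤ φ) {ts : LT} (ht : Sat F φ ts) (hz : ∀ t ∈ ts, ∀ χ ∈ irr ⊤ \ l.toFinset, t.1 (F χ) = 0)
    {P : List ℕ → Bool} (hP : allDec (u :: W.map (·.1)) (charDegree φ) (fun m => !tst W ts m.tail || P m) = true) :
    ∃ k, ∑ χ ∈ irr ⊤ \ l.toFinset, mu ⊤ φ χ * charDegree χ = k * u ∧ P (k :: l.map (mu ⊤ φ)) = true := by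
  obtain ⟨k, hk⟩ := Finset.dvd_sum fun χ e => (h3 χ e).mul_left (mu ⊤ φ χ)
  have := allDec_of (·.1) (·.2) ((k, u) :: l.map fun χ => (mu ⊤ φ χ, charDegree χ)) _ (by
    simpa [hu] using fun χ e => deg_pos (h2 (List.mem_toFinset.2 e))) (by
    convert hP
    · simp [← hW, hF]
    · rw [deg_eq_sum_mu h, ← Finset.sum_sdiff h2, hk, List.sum_toFinset _ h1]
      simp [mul_comm, Function.comp_def])
  simp only [List.map_cons, List.map_map, Function.comp_def, List.tail_cons] at this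
  refine ⟨k, hk.trans (mul_comm _ _), (Bool.or_eq_true_iff.1 this).resolve_left ?_⟩
  rw [Bool.not_eq_true', Bool.not_eq_false, tst, List.all_eq_true]
  intro t e
  rw [beq_iff_eq, ← ht t e, ← Finset.sum_sdiff h2, Finset.sum_eq_zero fun χ e' => by rw [hz t e χ e', mul_zero],
    zero_add, List.sum_toFinset _ h1, ← hW, List.zipWith_map, List.zipWith_self]

end

theorem mkT_js (u b : ℕ) (Z js js' : List ℕ) (p : ℕ) : mkT ⟨u, b, Z, js⟩ p = mkT ⟨u, b, Z, js'⟩ p := rfl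

theorem fa1 {α : Type*} {p : α → Prop} {a : α} (h : p a) : ∀ x ∈ [a], p x := by simpa

theorem fa2 {α : Type*} {p : α → Prop} {a b : α} (h : p a) (k : p b) : ∀ x ∈ [a, b], p x :=
  List.forall_mem_cons.2 ⟨h, fa1 k⟩

variable {G : Type*} [Group G] [Finite G] [IsSimpleGroup G] {χ : G → ℂ} (hN : Nat.card G = N)
  (R : PSet 5 G) (S : PSet 11 G) (T : PSet 23 G)
include hN

theorem five : R.pa ∈ L5 ∧ ((irr ⊤).filter (q5 <| rowF [bc R, bc S, bc T] ·)).val.map
    (rowF [bc R, bc S, bc T]) = ↑W5 := by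
  obtain ⟨W, k1, k2⟩ := (rs_init (commutator_eq_top (hG hN))).addB (hG hN) hN hA (bc T)
    (List.mem_singleton.2 (c23 hN T)) t6
  obtain ⟨W, k1, k2⟩ := k1.addB (hG hN) hN hA (bc S) (List.mem_singleton.2 (c11 hN S)) k2
  obtain ⟨W, k1, k2⟩ := k1.addB (hG hN) hN hA (bc R) (List.mem_filter.2 ⟨mem hN R, by
    exact beq_iff_eq.2 (Nat.mod_eq_zero_of_dvd (even_5 hN R))⟩) k2
  obtain ⟨W, k1, k2⟩ := k1.cmpB (hG hN) hN hA k2
  have h : ¬ Acc G k7 := fun k => not_acc_false (k.fltL (hG hN) hN hA fun w hw => by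
    rw [bne_iff_ne.2 (not_dvd hN S (by rw [c11 hN S]) (by decide) hw),
      bne_iff_ne.2 (not_dvd hN T (by rw [c23 hN T]) (by decide) hw)]
    rfl)
  simp only [Bool.or_eq_true] at k2
  rcases k2 with ((k | k) | k) | k
  · obtain ⟨r, k3, k4⟩ := List.any_eq_true.1 k
    obtain ⟨s, k5, k6, -⟩ := k1
    obtain ⟨χ, k7, rfl⟩ := (mem_of_map k6).1 k3
    exact absurd (beq_iff_eq.1 k4) (ne_11 hN (k5 k7))
  · exact absurd (k1.memS k t7a) h
  · exact absurd (k1.memS k t7b) h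
  simp only [k5, Bool.and_eq_true, List.any_eq_true, beq_iff_eq, List.isPerm_iff] at k
  obtain ⟨⟨-, P, k3, k4⟩, k5⟩ := k
  exact ⟨by rw [show R.pa = P from (List.cons.inj k4).1]; exact k3, (k1.ins q5 fun r k => by simp [q5, k.2 0 rfl]).trans (Multiset.coe_eq_coe.2 k5)⟩

theorem pr_eq (q : Row → Bool) (hq : ∀ r, q r = true → q2 r = true) :
    (((irr ⊤).filter (q <| rowF [bc S, bc T] ·)).filter (R.be · ≠ 0)).val.map (exF (bc R) (rowF [bc S, bc T])) =
      ↑((W5.filter (q <| dr ·)).map (ext 0)) := by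
  obtain ⟨h1, h2⟩ := five hN R S T
  rw [← Multiset.map_coe, ← map_filter h2, Multiset.map_map]
  refine Multiset.map_congr (congrArg _ (Finset.ext fun χ => ?_)) fun χ k => ?_
  · have := hq (rowF [bc S, bc T] χ)
    simp only [Finset.mem_filter, q5, q2, Bool.and_eq_true, bne_iff_ne] at this ⊢
    exact ⟨fun k => ⟨⟨k.1.1, k.2, this k.1.2⟩, k.1.2⟩, fun k => ⟨⟨k.1.1, k.2⟩, k.1.2.1⟩⟩
  · obtain ⟨k1, k2⟩ := Finset.mem_filter.1 (Finset.mem_filter.1 k).1
    replace k2 : R.be χ ≠ 0 := bne_iff_ne.1 (Bool.and_eq_true_iff.1 k2).1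
    rw [exF, R.mv_of_be ((by decide : ∀ P ∈ L5, P.e + 1 = 5) _ h1) k1 k2, R.tz_eq_be k1 (.inl k2)]
    rfl

theorem hps : pars [bc S, bc T] = [P11, P23] := by rw [← c11 hN S, ← c23 hN T]; rfl

theorem col11 : Col (rowF [bc S, bc T]) 0 P11 :=
  ⟨bc S, c11 hN S, fun _ k => (S.tz_eq_be k (.inr (congrArg (·.c) (c11 hN S)))).symm⟩

theorem col23 : Col (rowF [bc S, bc T]) 1 P23 :=
  ⟨bc T, c23 hN T, fun _ k => (T.tz_eq_be k (.inr (congrArg (·.c) (c23 hN T)))).symm⟩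

theorem out {fl : List Bool} {Z js : List ℕ} {q : Row → Bool} (h : ((cands N A [P11, P23] fl (fun _ => true)
    fun _ => true).all fun r => Z.contains r.1) = true) (h1 : q (1, [10, 22]) = true)
    (h2 : ∀ r, q r = false → (∀ j, fl.getD j false = true → r.at j = 0) ∧ ∀ j ∈ js, r.at j = 0) :
    Out (rowF [bc S, bc T]) ((irr ⊤).filter (q <| rowF [bc S, bc T] ·)) Z js := fun χ k k' => by
  have k1 : q (rowF [bc S, bc T] χ) = false := by simpa [k] using k'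
  refine ⟨List.contains_iff_mem.1 (List.all_eq_true.1 h _ (hps hN S T ▸ mem_cands (hG hN) hN hA k
    ⟨fun e => ?_, (h2 _ k1).1⟩ rfl rfl)), (h2 _ k1).2⟩
  rw [eq_triv_of_deg (commutator_eq_top (hG hN)) k e] at k1
  simp [rowF, deg_triv, PSet.be_triv, h1] at k1

include R S T in
theorem seven (U : PSet 7 G) : U.pa ∈ L7 := by
  have h1 := (by decide : ∀ P ∈ L5, ¬ 7 ∣ P.c) _ (five hN R S T).1
  have h2 := congrArg (·.c) (c11 hN S)
  have h3 := congrArg (·.c) (c23 hN T)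
  simp only [L7, List.mem_filter, mem hN U, Bool.and_eq_true, bne_iff_ne, ne_eq, ← Nat.dvd_iff_mod_eq_zero, true_and]
  exact ⟨⟨fun k => h1 (U.compat_aux R (by decide) k).1, fun k =>
    absurd ((U.compat_aux S (by decide) k).1.trans (dvd_of_eq h2)) (by decide)⟩, fun k =>
    absurd ((U.compat_aux T (by decide) k).1.trans (dvd_of_eq h3)) (by decide)⟩

theorem h3 : (Nat.card G).factorization 3 = 3 := by
  rw [hN, show N = 3 ^ 3 * 9067520 from rfl, Nat.factorization_mul_apply_of_coprime (by norm_num),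
    Nat.Prime.factorization_pow Nat.prime_three, Nat.factorization_eq_zero_of_not_dvd (by norm_num)]
  simp

theorem stage2 (U : PSet 7 G) : ∃ d ∈ Da ++ Db ++ Dc, RS [bc S, bc T] [false, true] d.1 ∧ R.pa ∈ d.2.1 ∧
    U.pa ∈ d.2.2 := by
  obtain ⟨h1, h2⟩ := five hN R S T
  have c1 := col11 hN S T
  have c2 := col23 hN S T
  obtain ⟨W, k1, k2⟩ := RS.cmpB (hG hN) hN hA (cs := [bc S, bc T]) (fl := [false, false])
    ⟨_, Finset.filter_subset _ _, by rw [← Multiset.map_coe, ← h2, Multiset.map_map]; rfl, fun χ k k' =>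
      ⟨fun e => k' (by
        rw [eq_triv_of_deg (commutator_eq_top (hG hN)) k e]
        simp [triv_mem_irr, rowF, q5, PSet.be_triv, Row.at, nth]), by rintro (_ | _ | _) <;> simp⟩⟩
    (hps hN S T ▸ t8)
  have hs := cs_rowF [bc S, bc T] (·.at 1 != 0)
  have hW := fun W (k : RS [bc S, bc T] [false, true] W) => k.ins (·.at 1 != 0) fun r k => by simp [k.2 1 rfl]
  have ho := out hN S T (js := [1]) (q := (·.at 1 != 0)) (Bool.and_eq_true_iff.1 tz).1 rfl fun r k => by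
    rw [bne_eq_false_iff_eq] at k
    exact ⟨by rintro (_ | _ | _) <;> simp [k], by simpa⟩
  obtain ⟨L, k3, k4⟩ := List.any_eq_true.1 ((Bool.or_eq_true_iff.1 k2).resolve_left (hs.no3 (hW W k1) (h3 hN) ho
    (by simp) (by simpa using ⟨⟨_, by decide, c1⟩, _, by decide, c2⟩) (p := 1) (by simp) (by simp)))
  replace k1 : RS _ _ _ := St.perm k1 (List.isPerm_iff.1 k4).symm
  have k5 : M24.k2 (Da ++ Db ++ Dc) (mkT ⟨23, 700, Z23, [1]⟩ 5) (mkT ⟨23, 700, Z23, [1]⟩ 7) [] [] (dec L) = true := by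
    have a := t9a
    have b := t9b
    simp only [st2, frcL_eq, List.all_eq_true] at a b
    exact (List.mem_append.1 k3).elim (a L) (b L)
  clear k2 k3 k4
  generalize dec L = W at k1 k5
  have u5 : un5 (mkT ⟨23, 700, Z23, [1]⟩ 5) W R.pa ≠ true := fun k => by
    obtain ⟨W, k6, k7⟩ := hs.cover (bc R) (hW _ k1) (C := ⟨23, 700, Z23, [1]⟩) (by decide) ho (by simpa using ⟨_, by decide, c2⟩)
      (pr := (W5.filter (·.at 2 != 0)).map (ext 0))
      (.inr ⟨rfl, pr_eq hN R S T (·.at 1 != 0) fun r k => by simp [q2, k]⟩) (by rw [hN]; exact k)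
    rw [← hN, tri_of (hs.exF _) k6 ⟨bc R, rfl, fun _ _ => rfl⟩ (by simpa using ⟨bc R, rfl, fun _ _ => rfl⟩)
      (by exact fa1 ⟨c2, fun χ k k' => (ho χ k k').2 1 (by simp)⟩)] at k7
    exact Bool.false_ne_true k7
  have u7 : un7 (mkT ⟨23, 700, Z23, [1]⟩ 7) W U.pa ≠ true := fun k => by
    obtain ⟨W, k6, k7⟩ := hs.cover (bc U) (hW _ k1) (C := ⟨23, 700, Z23, [1]⟩) (by decide) ho (by simpa using ⟨_, by decide, c2⟩)
      (.inl ⟨rfl, rfl⟩) (by rw [hN]; exact k)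
    rw [← hN, tri_of (hs.exF _) k6 ⟨bc U, rfl, fun _ _ => rfl⟩
      (by simpa using ⟨⟨bc U, rfl, fun _ _ => rfl⟩, c1, c2⟩)
      (by exact fa1 ⟨c2, fun χ k k' => (ho χ k k').2 1 (by simp)⟩)] at k7
    exact Bool.false_ne_true k7
  simp only [M24.k2, Bool.or_eq_true, List.all_eq_true, List.any_eq_true, Bool.and_eq_true, List.isPerm_iff,
    List.contains_iff_mem] at k5
  obtain ⟨d, k6, ⟨k7, k8⟩, k9⟩ := (((k5.resolve_left fun k => u5 (k _ h1)) _ (seven hN R S T U)).resolve_left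
    u7 _ h1).resolve_left u5
  exact ⟨d, k6, St.perm k1 k7.symm, k8, k9⟩

include R in
theorem stage3 : ((irr ⊤).filter (q2 <| rowF [bc S, bc T] ·)).val.map (rowF [bc S, bc T]) = ↑WF := by
  obtain ⟨U⟩ := pset hN 7
  obtain ⟨d, k1, k2, k3, k4⟩ := stage2 hN R S T U
  have c1 := col11 hN S T
  have c2 := col23 hN S T
  obtain ⟨W, k5, k6⟩ := k2.cmpB (hG hN) hN hA (j := 0) (k := fun _ _ W => M24.k3 (mkT ⟨253, 62, Z253, [0, 1]⟩ 5)
    (mkT ⟨253, 62, Z253, [0, 1]⟩ 7) d.2.1 d.2.2 (W.filter q2)) (by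
      have a := t10a
      have b := t10b
      have c := t10c
      simp only [st3, frcL_eq, List.all_eq_true] at a b c
      rw [hps hN S T]
      exact (List.mem_append.1 k1).elim (fun k => (List.mem_append.1 k).elim (a d) (b d)) (c d))
  have hs := cs_rowF [bc S, bc T] q2
  have hW := k5.ins q2 fun r k => by simp [q2, k.2 0 rfl, k.2 1 rfl]
  have ho := out hN S T (js := [0, 1]) (q := q2) (Bool.and_eq_true_iff.1 tz).2 rfl fun r k => by
    simp only [q2, Bool.or_eq_false_iff, bne_eq_false_iff_eq] at k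
    exact ⟨by rintro (_ | _ | _) <;> simp [k], by simpa⟩
  have o1 := fun χ k k' => (ho χ k k').2 0 (by simp)
  have o2 := fun χ k k' => (ho χ k k').2 1 (by simp)
  generalize W.filter q2 = W at hW k6
  have u5 : ∀ k, jn5 (mkT ⟨253, 62, Z253, [0, 1]⟩ 5) k W R.pa = true → ∃ W' : List Row,
      Multiset.map (exF (bc R) (rowF [bc S, bc T])) _ = W' ∧ k W' = true := fun k h => by
    obtain ⟨W, k6, k7⟩ := hs.cover (bc R) hW (C := ⟨253, 62, Z253, [0, 1]⟩) (by decide) ho (by simpa using ⟨⟨_, by decide, c1⟩, _, by decide, c2⟩)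
      (.inr ⟨rfl, pr_eq hN R S T _ fun r k => k⟩) (by rw [hN]; exact h)
    rw [← hN, tri_of (hs.exF _) k6 ⟨bc R, rfl, fun _ _ => rfl⟩
      (by simpa using ⟨⟨bc R, rfl, fun _ _ => rfl⟩, c1, c2⟩) (by exact fa2 ⟨c1, o1⟩ ⟨c2, o2⟩)] at k7
    exact ⟨W, k6, k7⟩
  have u7 : jn7 (mkT ⟨253, 62, Z253, [0, 1]⟩ 7) W U.pa ≠ true := fun k => by
    obtain ⟨W, k6, k7⟩ := hs.cover (bc U) hW (C := ⟨253, 62, Z253, [0, 1]⟩) (by decide) ho (by simpa using ⟨⟨_, by decide, c1⟩, _, by decide, c2⟩)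
      (.inl ⟨rfl, rfl⟩) (by rw [hN]; exact k)
    rw [← hN, tri_of (hs.exF _) k6 ⟨bc U, rfl, fun _ _ => rfl⟩
      (by simpa using ⟨⟨bc U, rfl, fun _ _ => rfl⟩, c1, c2⟩) (by exact fa2 ⟨c1, o1⟩ ⟨c2, o2⟩)] at k7
    exact Bool.false_ne_true k7
  simp only [M24.k3, Bool.or_eq_true, List.all_eq_true, List.isPerm_iff] at k6
  refine hW.trans (Multiset.coe_eq_coe.2 (k6.resolve_left (not_or.2 ⟨not_or.2 ⟨hs.no3 hW (h3 hN) ho (List.Subset.refl _)
    (by simpa using ⟨⟨_, by decide, c1⟩, _, by decide, c2⟩) (p := 1) (by simp) (by simp), fun k =>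
      Bool.false_ne_true (u5 _ (k _ k3)).choose_spec.2⟩, fun k => ?_⟩)).symm)
  obtain ⟨W, k6, k7⟩ := u5 _ ((k _ k4).resolve_left u7 _ k3)
  have hs' := hs.tz (bc R)
  obtain ⟨W, k8, k9⟩ := hs'.cover (bc U) (W := W.map dr) (C := ⟨253, 62, Z253, [1, 2]⟩)
    (by rw [← Multiset.map_coe, ← k6, Multiset.map_map]; rfl) (by decide)
    (fun χ k k' => ⟨(ho χ k k').1, by simpa using ⟨o1 χ k k', o2 χ k k'⟩⟩)
    (by simpa using ⟨⟨_, by decide, c1⟩, _, by decide, c2⟩) (.inl ⟨rfl, rfl⟩) (by rw [hN, mkT_js _ _ _ _ [0, 1]]; exact k7)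
  rw [← hN, tri_of (hs'.exF _) k8 ⟨bc U, rfl, fun _ _ => rfl⟩
    (by simpa using ⟨⟨bc U, rfl, fun _ _ => rfl⟩, ⟨bc R, rfl, fun _ _ => rfl⟩, c1, c2⟩)
    (by exact fa2 ⟨c1, o1⟩ ⟨c2, o2⟩)] at k9
  rw [Bool.not_true, Bool.false_or] at k9
  refine (hs'.exF _).no3 k8 (h3 hN) (C := ⟨253, 62, Z253, [1, 2, 3, 4]⟩) (zs := [3, 4]) (fun χ k k' => ⟨(ho χ k k').1, by simpa using ⟨o1 χ k k', o2 χ k k'⟩⟩)
    (by simp) (by simpa using ⟨⟨U.pa, (by decide : ¬ 3 ∣ 7), bc U, rfl, fun _ _ => rfl⟩,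
      ⟨R.pa, (by decide : ¬ 3 ∣ 5), bc R, rfl, fun _ _ => rfl⟩, ⟨_, by decide, c1⟩, _, by decide, c2⟩) (p := 7)
    (fun _ _ e => ?_) (fun _ _ e => ?_) k9
  · exact beq_iff_eq.1 e
  · exact (beq_iff_eq.1 e).trans_ne one_ne_zero

include R S T in
open _root_.Classical in
theorem iso : Nonempty (G ≃* Cfsg.M24) := by
  have hc := commutator_eq_top (hG hN)
  have hW := stage3 hN R S T
  have ho := out hN S T (js := [0, 1]) (q := q2) (Bool.and_eq_true_iff.1 tz).2 rfl fun r k => by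
    simp only [q2, Bool.or_eq_false_iff, bne_eq_false_iff_eq] at k
    exact ⟨by rintro (_ | _ | _) <;> simp [k], by simpa⟩
  have p0 : (pars [bc S, bc T])[0]? = some P11 := by rw [hps hN S T]; rfl
  have p1 : (pars [bc S, bc T])[1]? = some P23 := by rw [hps hN S T]; rfl
  have hs := fun χ (k : χ ∈ irr ⊤) (e : q2 (rowF [bc S, bc T] χ) = true) =>
    (Finset.mem_filter (p := (q2 <| rowF [bc S, bc T] ·))).2 ⟨k, e⟩
  have h0 := Finset.filter_subset (q2 <| rowF [bc S, bc T] ·) (irr ⊤)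
  generalize (irr ⊤).filter (q2 <| rowF [bc S, bc T] ·) = s at hW ho hs h0
  obtain ⟨l, k1, k2⟩ : Relation.Comp (· = List.map (rowF [bc S, bc T]) ·) List.Perm WF s.toList := by
    rw [List.eq_map_comp_perm]
    exact Multiset.coe_eq_coe.1 (by rw [← hW, ← Multiset.map_coe, Finset.coe_toList])
  obtain rfl : l.toFinset = s := Finset.ext fun χ => by simp [k2.mem_iff]
  replace k2 := k2.nodup_iff.2 (Finset.nodup_toList _)
  obtain ⟨χ, k3, k4, k5⟩ := exists_idx k1.symm (r := (23, [10, 0])) (by decide)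
  have i := h0 (List.mem_toFinset.2 k3)
  have ic := isCh_of_irr i
  have d : charDegree χ = 23 := congrArg (·.1) k4
  have f : fs χ = 1 := fs_of_odd i (St.eq_of_count (I := l.toFinset) (Z := fun _ => False)
    ⟨_, subset_rfl, hW, fun _ a b => absurd a b⟩ (List.mem_toFinset.2 k3)
    (hs _ (star_mem_irr i) (by rw [rowF_star i, k4]; rfl)) id id (rowF_star i) (by rw [k4]; rfl)) (by rw [d]; decide)
  obtain ⟨m1, m2⟩ := mu_triv_of_fs_one i f
  obtain ⟨a1, a2⟩ := col_sq p0 ic (a := 1) (b := 1) (c := 0) (col_val p0 i (congrArg (·.at 0) k4) (by decide)) rfl rfl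
  obtain ⟨b1, b2⟩ := col_sq p1 ic (a := 0) (b := 0) (c := 0) (fun g k => by
    rw [val_zero (p := 23) i (by norm_num [hN]) (by rw [d]) k, Int.cast_zero]) rfl rfl
  have o := fun χ (k : χ ∈ irr ⊤ \ l.toFinset) => ho χ (Finset.mem_sdiff.1 k).1 (Finset.mem_sdiff.1 k).2
  have o1 := fun χ k => (by decide : ∀ d ∈ Z253, 253 ∣ d) _ (o χ k).1
  have D := fun (φ : G → ℂ) (h : IsCh ⊤ φ) (a b c : ℤ) (x y z P) => dec_part (P := P) k2 h0 k1.symm (fun _ => rfl)
    (by decide) o1 h (ts := [(fun r => if r.1 = 1 then 1 else 0, a), (fun r => r.at 0, b), (fun r => r.at 1, c)])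
    (List.forall_mem_cons.2 ⟨x, fa2 y z⟩) (List.forall_mem_cons.2 ⟨fun χ k => if_neg fun e =>
      absurd ((o1 χ k).trans (dvd_of_eq e)) (by decide), fa2 (fun χ k => (o χ k).2 0 (by simp))
      fun χ k => (o χ k).2 1 (by simp)⟩)
  obtain ⟨k, e1, e2⟩ := D _ (isCh_altC ic) 0 _ _ ((sum_mu_triv hc fun _ => rfl).trans (by simp [m2])) a2 b2
    (fun m => m.headD 0 == 1 && m.tail.getD (WF.idxOf (23, [10, 0])) 0 == 0)
    (by rw [deg_altC ic d (n := 253) rfl]; decide +kernel)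
  obtain ⟨k', e3, e4⟩ := D _ (isCh_symC ic) 1 _ _ ((sum_mu_triv hc fun _ => rfl).trans (by simp [m1])) a1 b1
    (fun m => m.headD 0 == 0 && m.tail.getD (WF.idxOf (23, [10, 0])) 0 == 1)
    (by rw [deg_symC ic d (n := 276) rfl]; decide +kernel)
  simp only [List.headD_cons, List.tail_cons, k5, Bool.and_eq_true, beq_iff_eq] at e2 e4
  obtain ⟨rfl, e2⟩ := e2
  obtain ⟨rfl, e4⟩ := e4
  obtain ⟨ψ, e5, e6⟩ := Finset.exists_ne_zero_of_sum_ne_zero (e1.trans_ne (by decide))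
  have j := (Finset.mem_sdiff.1 e5).1
  have e7 : altC χ = ψ := eq_irr_of_mu (isCh_altC ic) j (left_ne_zero_of_mul e6) (by
    rw [deg_altC ic d (n := 253) rfl]
    refine le_antisymm (Nat.le_of_dvd (deg_pos j) (o1 ψ e5)) ((Nat.le_mul_of_pos_left _
      (Nat.pos_of_ne_zero (left_ne_zero_of_mul e6))).trans ?_)
    exact (Finset.single_le_sum (f := fun ψ => mu ⊤ (altC χ) ψ * charDegree ψ) (fun _ _ => Nat.zero_le _)
      e5).trans e1.le)
  obtain ⟨X, _, _, _, _, c1, c2, -⟩ := exists_act i f (by omega) (e7 ▸ mu_self j) e2 e4 (e7 ▸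
    (mul_eq_zero.1 (Finset.sum_eq_zero_iff.1 e3 ψ e5)).resolve_right (deg_pos j).ne')
  refine iso_M24 (c1.trans (by rw [d])) (isMultiplyPretransitive_of_le (n := 3) (by norm_num) (by simp [c1, d]))
    hN T.ord ?_
  have := c23 hN T
  rw [T.card_norm T.ord, show Nat.card T.K = 1 from congrArg (·.c) this, show T.fi = 11 from congrArg (·.e) this]

end En.M24

open En En.M24

variable {G : Type*} [Group G] [Finite G]

theorem M24_of_card [IsSimpleGroup G] (h : Nat.card G = 244823040) : Nonempty (G ≃* Cfsg.M24) :=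
  (pset h 5).elim fun R => (pset h 11).elim fun S => (pset h 23).elim fun T => iso h R S T

theorem exists_pset_24 [IsSimpleGroup G] (h : Nat.card G = 244823040) :
    ∃ S : PSet 23 G, S.K = ⊥ ∧ S.N.index = 967680 := by
  obtain ⟨T⟩ := pset h 23
  have h1 : Nat.card T.K = 1 := congrArg (·.c) (c23 h T)
  have h2 := T.N.card_mul_index
  rw [T.card_N', h1, show T.fi = 11 from congrArg (·.e) (c23 h T), h] at h2
  exact ⟨T, Subgroup.card_eq_one.1 h1, by omega⟩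

theorem simple_24 (h : Nat.card G = 244823040) (S : PSet 23 G) (hS : S.N.index = 967680) : IsSimpleGroup G :=
  S.simple_of_index (e := 11) (by rw [h, hS]) (by norm_num) (by norm_num) (by simp [hS])
    (h ▸ noPP_of [2, 2, 2, 2, 2, 2, 2, 2, 2, 2, 3, 3, 3, 5, 7, 11, 23] (by simp) (by norm_num) (by norm_num)
      (by decide +kernel))

end CF.Small
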