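import Cfsg.Agent.Small.M24f

/-!
# Simple groups of order dividing the order of a Mathieu group: the search
-/

set_option autoImplicit false
set_option maxRecDepth 100000

namespace CF.Small.En.Dv

open M24

/-- The odd degrees in principal `23`-blocks. -/
def od (N : ℕ) (A : List ℕ) (P : Par) : Bool := A.all fun d => d % 2 != 1 || d == 1 ||
  (bopts N P d).all (· == 0) ||
    (Nat.blt d 506 && d % 11 == 0 && P.e % 11 == 0 && P.c % 11 != 0 && (wm 11 P.c 2 2 || wm 11 P.c 3 3))

/-- Adds a block column if possible. -/
def oa (N : ℕ) (A : List ℕ) (p : ℕ) (g : Par → Bool) (k : K) : K :=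
  bif Sv.once N p then addB N A ((params N A p).filter g) k else k

/-- The filter from rational characters of small degree. -/
def ou (N q : ℕ) (k : K) : K := bif Sv.once N q then fltU 0 q k else k

/-- The test for orders divisible by `23`. -/
def t23 (N : ℕ) : Bool := frcL (A.filter (N % · == 0)) fun A => (params N A 23).all fun P =>
  bif P.e == 2 then
    addB N A [P] (cmpB N A 0 (oa N A 11 (fun _ => true) (oa N A 5 (fun _ => true) no))) [] [] [(1, [])]
  else od N A P || addB N A [P] (oa N A 11 (fun Q => P != ⟨23, 22, 1⟩ || Q.c % 2 == 0) (cmpB N A 0 (ou N 7 (ou N 5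
    (fltK N A 0 (oa N A 5 (fun _ => true) (oa N A 7 (fun _ => true) (cmpB N A 1 (fltK N A 0 no))))))))) [] [] [(1, [])]

/-- The test for orders divisible by `11`. -/
def t11 (N : ℕ) : Bool := frcL (A.filter (N % · == 0)) fun A =>
  addB N A (params N A 11) (cmpB N A 0 (fltK N A 0 (oa N A 7 (fun _ => true) (oa N A 5 (fun _ => true)
    (cmpB N A 0 (fltK N A 0 no)))))) [] [] [(1, [])]

theorem a23 : (A.all fun m => m % 23 != 0 || [6072, 10200960, 20401920, 244823040].contains m || t23 m) = true := by
  decide +kernel

theorem b23 : t23 20401920 = true := by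
  decide +kernel

theorem a11 : (A.all fun m => m % 11 != 0 || 443520 % m != 0 || [660, 7920, 443520].contains m || t11 m) = true := by
  decide +kernel

end CF.Small.En.Dv
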