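import Cfsg.Agent.Small.M24q
import Cfsg.Agent.Small.Dva

/-!
# Simple groups of order dividing the order of a Mathieu group
-/

set_option autoImplicit false
set_option linter.unusedSectionVars false
set_option maxRecDepth 100000

namespace CF.Small

open Subgroup CF.BlockB Cfsg CF.PF Sv CF.Char MulAction En En.M24 En.Dv

variable {G : Type*} [Group G] [Finite G] {χ : G → ℂ}

theorem PSet.v_of_comm {p : ℕ} [hp : Fact p.Prime] (S : PSet p G) (h : χ ∈ irr (⊤ : Subgroup G))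
    (h1 : S.be χ ≠ 0 ∨ p ∣ charDegree χ) {w : G} (hw : ¬ p ∣ orderOf w)
    (h2 : p ∣ Nat.card (centralizer ({w} : Set G))) {M : Ideal AlgInt} (hM : IsPModular p M) :
    v M (χ w - charDegree χ) < 1 := by
  obtain ⟨⟨u, h3⟩, hu⟩ := exists_prime_orderOf_dvd_card' p h2
  rw [orderOf_mk] at hu
  have hc : Commute u w := mem_centralizer_singleton_iff.1 h3
  have h4 := v_char_sub_pReg_lt_one hM (isCh_top.1 (isCh_of_irr h)) (u * w)
  have h5 := v_char_sub_pReg_lt_one hM (isCh_top.1 (isCh_of_irr h)) u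
  rw [pReg_mul_of_commute hp.out hc ⟨1, by rw [hu, pow_one]⟩ hw, S.val_mul h h1 hu hw hc] at h4
  rw [pReg_of_pElement hp.out ⟨1, by rw [hu, pow_one]⟩, ← coe_deg (isCh_of_irr h)] at h5
  exact v_sub_lt_one_trans (v_sub_lt_one_symm h4) h5

theorem sum_prod_three {ι : Type*} {ζ : ℂ} (hζ : ζ ^ 2 + ζ + 1 = 0) (ω : ι → ℂ) (h : ∀ i, ω i ^ 3 = 1)
    (s : Finset ι) : ∃ a b c : ℕ, s.card = a + b + c ∧ ∑ i ∈ s, ω i = a + b * ζ + c * ζ ^ 2 ∧
      ∑ i ∈ s, ω i ^ 2 = a + b * ζ ^ 2 + c * ζ ∧ ∏ i ∈ s, ω i = ζ ^ (b + 2 * c) := by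
  classical
  induction s using Finset.induction_on with
  | empty => exact ⟨0, 0, 0, by simp⟩
  | insert i s hi ih =>
    obtain ⟨a, b, c, h0, h1, h2, h3⟩ := ih
    rw [Finset.card_insert_of_notMem hi, Finset.sum_insert hi, Finset.sum_insert hi, Finset.prod_insert hi, h0, h1,
      h2, h3]
    have : (ω i - 1) * (ω i - ζ) * (ω i - ζ ^ 2) = 0 := by
      linear_combination h i + (-ω i ^ 2 + ω i * ζ - ζ + 1 + ω i * (1 - ζ) * (1 - ζ - 1) - ω i * ζ ^ 2 + ω i * ζ) * hζ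
    simp only [mul_eq_zero, sub_eq_zero] at this
    rcases this with (e | e) | e <;> rw [e]
    exacts [⟨a + 1, b, c, by ring, by push_cast; ring, by push_cast; ring, by ring⟩,
      ⟨a, b + 1, c, by ring, by push_cast; ring, by push_cast; ring, by ring⟩,
      ⟨a, b, c + 1, by ring, by push_cast; ring, by push_cast; linear_combination (ζ ^ 2 - ζ) * hζ, by ring⟩]

theorem three_val (hG : commutator G = ⊤) (h : IsCh ⊤ χ) {w : G} (hw : orderOf w = 3) : ∃ a b c : ℕ,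
    charDegree χ = a + b + c ∧ 3 ∣ b + 2 * c ∧ (b + c = 0 → χ w = (charDegree χ : ℤ)) ∧
    ∀ p M, IsPModular p M → v M (χ w - charDegree χ) < 1 → v M (χ (w ^ 2) - charDegree χ) < 1 →
      p ∣ 3 * b ∧ p ∣ 3 * c := by
  obtain ⟨n, ω, h1, h2, h3⟩ := char_exists_roots (isCh_top.1 h) w
  rw [hw] at h2
  have hζ := Complex.isPrimitiveRoot_exp 3 (by norm_num)
  generalize Complex.exp _ = ζ at hζ
  have k := hζ.geom_sum_eq_zero (by norm_num)
  simp only [Finset.sum_range_succ, Finset.range_zero, Finset.sum_empty] at k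
  obtain ⟨a, b, c, h0, h4, h5, h6⟩ := sum_prod_three (ζ := ζ) (by linear_combination k) ω h2 Finset.univ
  have h7 := congrArg Units.val (hom_eq_one_of_perfect hG (Clifford.detHom (isCh_top.1 h)) w)
  rw [Clifford.coe_detHom, detChar_eq_prod (isCh_top.1 h) ω (fun i e => by simpa [e] using h2 i)
    (z := w) fun k => by simpa using h3 k, h6] at h7
  have k1 := h3 1
  have k2 := h3 2
  simp only [pow_one, zpow_ofNat, h4, h5] at k1 k2
  rw [Finset.card_univ, Fintype.card_fin] at h0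
  have k3 := v_le_one_of_isIntegral (z := ζ) (hz := hζ.isIntegral (by norm_num))
  rw [(deg_eq_iff h).2 h1, k1, k2, h0]
  refine ⟨a, b, c, rfl, (hζ.pow_eq_one_iff_dvd _).1 h7, fun e => by simp [show b = 0 by omega, show c = 0 by omega],
    fun p M hM e1 e2 => ?_⟩
  have k4 := v_mul_le_one (k3 M) (k3 M)
  rw [← v_natCast_lt_one_iff hM, ← v_natCast_lt_one_iff hM]
  constructor
  · convert (v M).map_add_lt (v_mul_lt_one_left e1 k4) (v_mul_lt_one_left e2 (k3 M)) using 2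
    push_cast
    linear_combination (b * (3 - 2 * ζ) + c * (ζ - ζ ^ 2)) * k
  · convert (v M).map_add_lt (v_mul_lt_one_left e1 (k3 M)) (v_mul_lt_one_left e2 k4) using 2
    push_cast
    linear_combination (c * (3 - 2 * ζ) + b * (ζ - ζ ^ 2)) * k

variable [IsSimpleGroup G] (hG : ¬ IsMulCommutative G) {N : ℕ} (hN : Nat.card G = N) {A : List ℕ} (hA : DOK N A)
include hG hN hA

theorem not_od (h0 : ¬ 11 ^ 2 ∣ N) (S : PSet 23 G) : Dv.od N A S.pa ≠ true := fun h => by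
  simp only [Dv.od, Bool.or_eq_true, Bool.and_eq_true, beq_iff_eq, List.all_eq_true, bne_iff_ne, Nat.blt_eq,
    ne_eq, ← Nat.dvd_iff_mod_eq_zero] at h
  obtain ⟨χ, i, k1, k2, k3⟩ := S.exists_odd (commutator_eq_top hG)
  obtain ⟨⟨⟨⟨k4, k5⟩, k6⟩, k7⟩, k8⟩ := (h _ (hA _ (hN ▸ dvd_of_mem_dm (mem_dm.2 ⟨χ, i, rfl⟩)))).resolve_left
    (not_or.2 ⟨not_or.2 ⟨not_not.2 k1, k2⟩, fun k => k3 (k _ (hN ▸ S.mem_bopts hG (by decide) i))⟩)
  obtain ⟨g, g1, g2⟩ := S.exists_ord (by norm_num) k6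
  obtain ⟨T⟩ := nonempty_pset (p := 11) (G := G) (g2 ▸ orderOf_dvd_natCard g) (hN ▸ h0)
  have c : ∀ w ∈ S.K ⊓ centralizer {g}, 23 ∣ Nat.card (centralizer ({w} : Set G)) ∧
      11 ∣ Nat.card (centralizer ({w} : Set G)) := fun w k =>
    ⟨S.ord ▸ orderOf_dvd_natCard _ (mem_centralizer_singleton_iff.2 (S.mem_C_iff.1 (S.K_le_C k.1)).symm),
      g2 ▸ orderOf_dvd_natCard _ (mem_centralizer_singleton_iff.2 (mem_centralizer_singleton_iff.1 k.2).symm)⟩
  rcases k8 with k8 | k8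
  · obtain ⟨⟨w, w1⟩, hw⟩ := exists_prime_orderOf_dvd_card' 2
      (S.dvd_of_wm (by norm_num) Nat.prime_two g1 g2 k7 k8)
    replace hw : orderOf w = 2 := (Subgroup.orderOf_coe _).trans hw
    obtain ⟨v1, v2⟩ := invol_val (commutator_eq_top hG) (isCh_of_irr i) (hw ▸ pow_orderOf_eq_one w)
    have v3 := natAbs_lt_deg hG i k2 (by rintro rfl; simp at hw) v1
    have := IsCoprime.mul_dvd (by norm_num) (IsCoprime.mul_dvd (by norm_num)
      (S.modEq_of_comm i (.inl k3) (by simp [hw]) (c w w1).1 v1)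
      (T.modEq_of_comm i (.inr k5) (by simp [hw]) (c w w1).2 v1)) v2
    clear * - this v3 k4
    omega
  obtain ⟨⟨w, w1⟩, hw⟩ := exists_prime_orderOf_dvd_card' 3 (S.dvd_of_wm (by norm_num) Nat.prime_three g1 g2 k7 k8)
  replace hw : orderOf w = 3 := (Subgroup.orderOf_coe _).trans hw
  have hw' : orderOf (w ^ 2) = 3 := by rw [orderOf_pow, hw]; rfl
  obtain ⟨a, b, d, e1, e2, e3, e4⟩ := three_val (commutator_eq_top hG) (isCh_of_irr i) hw
  obtain ⟨M, hM⟩ := exists_isPModular (p := 23) (by norm_num)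
  obtain ⟨M', hM'⟩ := exists_isPModular (p := 11) (by norm_num)
  have e5 := e4 _ _ hM (S.v_of_comm i (.inl k3) (by simp [hw]) (c w w1).1 hM)
    (S.v_of_comm i (.inl k3) (by simp [hw']) (c _ (pow_mem w1 2)).1 hM)
  have e6 := e4 _ _ hM' (T.v_of_comm i (.inr k5) (by simp [hw]) (c w w1).2 hM')
    (T.v_of_comm i (.inr k5) (by simp [hw']) (c _ (pow_mem w1 2)).2 hM')
  have e7 : b + d ≠ 0 := fun e => by simpa using natAbs_lt_deg hG i k2 (by rintro rfl; simp at hw) (e3 e)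
  have e8 : ∀ b, 23 ∣ 3 * b → 11 ∣ 3 * b → 253 ∣ b := fun b x y => (by norm_num : Nat.Coprime 253 3).dvd_of_dvd_mul_left
    ((by norm_num : Nat.Coprime 23 11).mul_dvd_of_dvd_of_dvd x y)
  obtain ⟨x, rfl⟩ := e8 b e5.1 e6.1
  obtain ⟨y, rfl⟩ := e8 d e5.2 e6.2
  clear * - e1 e2 e7 k4
  omega

theorem En.Acc.oa {p : ℕ} [hp : Fact p.Prime] {g : Par → Bool} {k : K} (h : Acc G (oa N A p g k))
    (hg : ∀ S : PSet p G, g S.pa = true := by exact fun _ => rfl) (h2 : p ≠ 2 := by decide) : Acc G k := by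
  cases e : once N p <;> simp only [Dv.oa, e, cond_true, cond_false] at h
  · exact h
  simp only [once, Bool.and_eq_true, beq_iff_eq, bne_iff_ne, ne_eq, ← Nat.dvd_iff_mod_eq_zero, ← sq, ← hN] at e
  obtain ⟨S⟩ := nonempty_pset e.1 e.2
  exact h.addB hG hN hA (bc S h2) (List.mem_filter.2 ⟨hN ▸ S.mem_params hG (hN ▸ hA), hg S⟩)

theorem En.Acc.ou {p : ℕ} [hp : Fact p.Prime] {k : K} (h : Acc G (ou N p k)) : Acc G k := by
  cases e : once N p <;> simp only [Dv.ou, e, cond_true, cond_false] at h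
  · exact h
  simp only [once, Bool.and_eq_true, beq_iff_eq, bne_iff_ne, ne_eq, ← Nat.dvd_iff_mod_eq_zero, ← sq, ← hN] at e
  exact (nonempty_pset e.1 e.2).elim (h.fltU hG)

omit hN hA

theorem dok_filter (h : Nat.card G ∣ 244823040) : DOK (Nat.card G) (M24.A.filter (Nat.card G % · == 0)) :=
  fun d k => List.mem_filter.2 ⟨M24.hA d (k.trans h), beq_iff_eq.2 (Nat.mod_eq_zero_of_dvd k)⟩

theorem card_of_11 (h1 : 11 ∣ Nat.card G) (h2 : Nat.card G ∣ 443520) : Nat.card G ∈ [660, 7920, 443520] := by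
  have h3 := h2.trans (by norm_num : 443520 ∣ 244823040)
  have h := List.all_eq_true.1 a11 _ (M24.hA _ h3)
  have hA := dok_filter hG h3
  simp only [Bool.or_eq_true, bne_iff_ne, ne_eq, ← Nat.dvd_iff_mod_eq_zero, h1, h2, not_true, false_or,
    List.contains_iff_mem, t11, frcL_eq] at h
  exact h.resolve_right fun k => not_acc_false ((((((((acc_init (commutator_eq_top hG) k).addB' hG rfl hA
    ⟨by norm_num, by norm_num, h1, fun e => absurd (e.trans h2) (by norm_num)⟩).cmpB hG rfl hA).fltK hG rfl hA).oa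
      hG rfl hA).oa hG rfl hA).cmpB hG rfl hA).fltK hG rfl hA)

theorem card_of_23 (h1 : 23 ∣ Nat.card G) (h2 : Nat.card G ∣ 244823040) :
    Nat.card G ∈ [6072, 10200960, 244823040] := by
  have hA := dok_filter hG h2
  by_contra h0
  have h : t23 (Nat.card G) = true := by
    have h := List.all_eq_true.1 a23 _ (M24.hA _ h2)
    simp only [Bool.or_eq_true, bne_iff_ne, ne_eq, ← Nat.dvd_iff_mod_eq_zero, h1, not_true, false_or,
      List.contains_iff_mem, List.mem_cons] at h h0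
    rcases h with (h | h | h | h) | h
    exacts [absurd (.inl h) h0, absurd (.inr (.inl h)) h0, h ▸ b23, absurd (.inr (.inr h)) h0, h]
  obtain ⟨S⟩ := nonempty_pset h1 fun e => absurd (e.trans h2) (by norm_num)
  rw [t23, frcL_eq, List.all_eq_true] at h
  replace h := h _ (S.mem_params hG hA)
  have i := fun k h => (acc_init (commutator_eq_top hG) h).addB (k := k) hG rfl hA (bc S) (List.mem_singleton.2 rfl)
  cases e : S.pa.e == 2 <;> simp only [e, cond_true, cond_false, Bool.or_eq_true] at h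
  swap
  · exact not_acc_false ((((i _ h).cmpB hG rfl hA).oa hG rfl hA).oa hG rfl hA)
  refine not_acc_false ((((((((((i _ (h.resolve_left (not_od hG rfl hA
    (fun e => absurd (e.trans h2) (by norm_num)) S))).oa hG rfl hA fun T => ?_).cmpB hG rfl hA).ou hG rfl hA).ou
      hG rfl hA).fltK hG rfl hA).oa hG rfl hA).oa hG rfl hA).cmpB hG rfl hA).fltK hG rfl hA)
  rw [Bool.or_eq_true, bne_iff_ne, or_iff_not_imp_left, not_not, beq_iff_eq]
  intro k
  have k1 : Nat.card S.K = 1 := congrArg (·.c) k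
  have k2 := S.card_H
  rw [k1, show S.fi = 22 from congrArg (·.e) k] at k2
  obtain ⟨z, -, k3⟩ := S.exists_gen
  obtain ⟨⟨t, t1⟩, t2⟩ := exists_prime_orderOf_dvd_card' (G := S.H) 2 (by rw [k2]; norm_num)
  obtain ⟨⟨u, u1⟩, u2⟩ := exists_prime_orderOf_dvd_card' (G := S.H) 11 (by rw [k2]; norm_num)
  rw [orderOf_mk] at t2 u2
  obtain ⟨a, y, t3, rfl⟩ := k3 t t1
  obtain ⟨b, x, u3, rfl⟩ := k3 u u1
  rw [card_eq_one.1 k1, mem_bot] at t3 u3
  rw [t3, mul_one] at t2
  rw [u3, mul_one] at u2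
  have := t2 ▸ orderOf_dvd_natCard _ (mem_centralizer_singleton_iff.2 (Commute.pow_pow_self z a b))
  rw [T.card_cent' u2] at this
  exact Nat.mod_eq_zero_of_dvd ((Nat.Coprime.dvd_mul_left (by norm_num)).1 this)

end CF.Small
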