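import Cfsg.Agent.Small.En7

/-!
# Simple groups of order 95040: the search
-/

set_option autoImplicit false
set_option maxRecDepth 100000
set_option Elab.async false

namespace CF.Small

namespace En.M12

/-- The divisors. -/
def A : List ℕ := [95040, 47520, 31680, 23760, 19008, 15840, 11880, 10560, 9504, 8640, 7920, 6336, 5940, 5280, 4752, 4320, 3960, 3520, 3168, 2970, 2880, 2640, 2376, 2160, 2112, 1980, 1760, 1728, 1584, 1485, 1440, 1320, 1188, 1080, 1056, 990, 960, 880, 864, 792, 720, 704, 660, 594, 576, 540, 528, 495, 480, 440, 432, 396, 360, 352, 330, 320, 297, 288, 270, 264, 240, 220, 216, 198, 192, 180, 176, 165, 160, 144, 135, 132, 120, 110, 108, 99, 96, 90, 88, 80, 72, 66, 64, 60, 55, 54, 48, 45, 44, 40, 36, 33, 32, 30, 27, 24, 22, 20, 18, 16, 15, 12, 11, 10, 9, 8, 6, 5, 4, 3, 2, 1]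

/-- The table. -/
def W0 : List Row := [(176, [1, 4, 0]), (144, [-1, -4, 10]), (120, [0, 0, -10]), (99, [-1, -4, 0]),
  (66, [1, 4, 0]), (55, [0, 0, 0]), (55, [0, 0, 0]), (55, [0, 0, 0]), (54, [-1, 0, -10]), (45, [0, 0, 10]),
  (16, [1, 0, -5]), (16, [1, 0, -5]), (11, [1, 0, 0]), (11, [1, 0, 0]), (1, [1, 4, 10])]

/-- The final check. -/
def kf : K := fun ps fl W => decide (ps = [⟨5, 4, 2⟩, ⟨11, 5, 1⟩]) &&
  (tCs 95040 A).all (fun C => C == 192 || inv 95040 C (fun _ => false) ps fl W) &&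
  (kCs 95040 A ⟨5, 4, 2⟩).all (fun C => C == 240 || inv 95040 C (fun _ => false) ps fl W) &&
  rest 95040 A (fun W => elt 95040 10 (fun _ => false) (fun r v => (v - r.1) % 5 == 0) [] (fun W2 =>
    addF (fun W1 => decide ((W1.map fun r : Row => r.at 0 * (r.1 : ℤ)).sum < 892) ||
      (srt W2 == W0 && W1.all fun r => r.1 != 11 || r.at 0 == 1)) ps fl W) W) ps fl W

theorem tx : addB 95040 A ((params 95040 A 11).filter (· != ⟨11, 5, 1⟩)) (cmpB 95040 A 0
    (fltK 95040 A 0 fun _ _ _ => false)) [] [] [(1, [])] = true := by decide +kernel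

theorem t0 : addB 95040 A [⟨11, 5, 1⟩] (addB 95040 A (params 95040 A 5) (cmpB 95040 A 0 (fltK 95040 A 0
    (cmpB 95040 A 1 (fltK 95040 A 0 (fltT 95040 A (fltF kf))))))) [] [] [(1, [])] = true := by
  decide +kernel

end En.M12

end CF.Small
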