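import Cfsg.Agent.Small.M12p
import Cfsg.Agent.Small.M12a

/-!
# Simple groups of order 95040
-/

set_option autoImplicit false
set_option linter.unusedSectionVars false
set_option maxRecDepth 100000

namespace CF.Small

open Subgroup CF.BlockB Cfsg CF.PF Sv CF.Char MulAction En

variable {G : Type*} [Group G] [Finite G]

theorem deg_of_norm_two {φ x y : G → ℂ} (h : IsCh ⊤ φ) (hx : x ∈ irr (⊤ : Subgroup G))
    (hy : y ∈ irr (⊤ : Subgroup G)) (e : x ≠ y) (h1 : mu ⊤ φ x = 1) (h2 : mu ⊤ φ y = 1) (h3 : mu ⊤ φ φ = 2) :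
    charDegree φ = charDegree x + charDegree y := by
  classical
  have k : {x, y} ⊆ irr (⊤ : Subgroup G) := by simp [Finset.insert_subset_iff, *]
  rw [mu_eq_sum_mu le_rfl h h, Finset.sum_congr rfl fun χ i => by rw [mu_comm (isCh_of_irr i) h],
    ← Finset.sum_sdiff k, Finset.sum_pair e, h1, h2, Nat.add_eq_right, Finset.sum_eq_zero_iff] at h3
  rw [deg_eq_sum_mu h, ← Finset.sum_sdiff k, Finset.sum_pair e, h1, h2, Finset.sum_eq_zero fun χ i => by
    rw [mul_self_eq_zero.1 (h3 χ i), zero_mul]]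
  simp

open En.M12

theorem acc12 [IsSimpleGroup G] (h : Nat.card G = 95040) : DOK 95040 A ∧ En.Acc G kf := by
  have hG := nc_of_card h (by norm_num)
  have hA : DOK 95040 A := dok_of [64, 27, 5, 11] (by decide +kernel)
  exact ⟨hA, (((((((Acc.split hG h hA (p := 11) (by norm_num) ⟨11, 5, 1⟩
    (acc_init (commutator_eq_top hG) (Bool.and_eq_true_iff.2 ⟨tx, t0⟩)) fun k => not_acc_false
      ((k.cmpB hG h hA).fltK hG h hA)).addB' hG h hA (by norm_num)).cmpB hG h hA).fltK hG h hA).cmpB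
        hG h hA).fltK hG h hA).fltT hG h hA (by norm_num)).fltF⟩

theorem tab12 [IsSimpleGroup G] (h : Nat.card G = 95040) [Fact (Nat.Prime 5)] :
    ∃ (cs : List (BC G)) (S : PSet 5 G), (pars cs)[1]? = some ⟨11, 5, 1⟩ ∧ S.fi = 4 ∧ Nat.card S.K = 2 ∧
      (∀ χ ∈ irr (⊤ : Subgroup G), χ S.z = iv S.z χ) ∧
      (∀ χ ∈ irr (⊤ : Subgroup G), charDegree χ = 11 → fs χ = 1) ∧
      St (irr ⊤) (fun χ => En.ext (iv S.z χ) (rowF cs χ)) (fun _ => False) W0 := by
  have hG := nc_of_card h (by norm_num)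
  have hG' := commutator_eq_top hG
  obtain ⟨hA, cs, fl, W, h1, h2⟩ := acc12 h
  simp only [kf, Bool.and_eq_true, decide_eq_true_eq, List.all_eq_true, Bool.or_eq_true, beq_iff_eq] at h2
  obtain ⟨⟨⟨hp, ht⟩, hk⟩, h2⟩ := h2
  obtain ⟨⟨p, _, _, S⟩, e, -⟩ := col' (show (pars cs)[0]? = some ⟨5, 4, 2⟩ by simp [hp])
  obtain rfl : p = 5 := congrArg Par.p e
  have e1 : S.fi = 4 := congrArg Par.e e
  have e2 : Nat.card S.K = 2 := congrArg Par.c e
  obtain ⟨t, t1, t2⟩ := exists_t hG (h ▸ hA) (by norm_num [h])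
  obtain ⟨k, k1, k2⟩ := S.exists_k hG (h ▸ hA) (by norm_num) (by norm_num [e2])
  have t3 := (ht _ (h ▸ t2)).resolve_right (St.not_inv hG h h1 (fun _ k => k) t1)
  have k3 := (hk _ (h ▸ e ▸ k2)).resolve_right (St.not_inv hG h h1 (fun _ k => k) k1)
  have h3 := card_invol t1 k1 (by omega)
  rw [← div_card, ← div_card, t3, k3, h] at h3
  have v1 : ∀ χ ∈ irr (⊤ : Subgroup G), χ S.z = iv S.z χ := fun χ i => by
    obtain ⟨n, hn⟩ := gen_eq_int_of_pow (mem_ZIrr_top.1 (zirr_of_irr i)) (g := S.z) fun m hm => by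
      rw [← S.zp_natCast, S.val_zp (by omega) (isCh_of_irr i).cfn]
      rw [Ne, ZMod.natCast_eq_zero_iff]
      exact (Nat.Prime.coprime_iff_not_dvd (by norm_num)).1 (S.ord ▸ hm.symm)
    rw [iv_eq hn, hn]
  obtain ⟨W, h4, h5⟩ := h1.rest hG h hA h2
  obtain ⟨W2, h6, h7⟩ := h4.elt hG h (fun _ => rfl) S.z_ne_one v1 (y := fun _ => false)
    (fun _ _ _ _ _ => by simp) (f := fun r v => (v - r.1) % 5 == 0)
    (fun χ i => beq_iff_eq.2 (Int.emod_eq_zero_of_dvd
      (gen_modEq_one (mem_ZIrr_top.1 (zirr_of_irr i)) (p := 5) (by norm_num) (k := 1) S.z_pow (v1 χ i)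
        (coe_deg (isCh_of_irr i)).symm).symm.dvd)) (js := []) (by simp)
    (by rw [S.card_cent' S.ord, e2]; exact h5)
  obtain ⟨W1, h8, h9⟩ := h4.addF (fun _ => False.elim) h7
  have h0 := sum_fz_iv (G := G) (g := 1) fun χ i => by
    rw [iv_eq (a := charDegree χ) (coe_deg (isCh_of_irr i)).symm]; exact (coe_deg (isCh_of_irr i)).symm
  rw [Finset.sum_congr rfl fun χ i => by
    rw [iv_eq (a := charDegree χ) (coe_deg (isCh_of_irr i)).symm]] at h0
  simp only [Bool.or_eq_true, Bool.and_eq_true, decide_eq_true_eq, beq_iff_eq] at h9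
  obtain ⟨h9, h10⟩ := h9.resolve_left (by
    rw [← sum_map_eq h8.map_eq]; exact (h0.ge.trans' (by omega)).not_gt)
  exact ⟨cs, S, by simp [hp], e1, e2, v1, fun χ i d => by
    rw [← coe_fz i, show fz χ = 1 by simpa [En.ext, rowF, d, Row.at, nth] using h8.all h10 i, Int.cast_one],
    h9 ▸ h6.srt⟩

theorem M12_of_card [IsSimpleGroup G] (h : Nat.card G = 95040) : Nonempty (G ≃* Spor.M12) := by
  have h5 : ∀ i : ZMod 5, i ≠ 0 → i + i ≠ 0 := by decide
  haveI : Fact (Nat.Prime 5) := ⟨by norm_num⟩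
  haveI : Fact (Nat.Prime 11) := ⟨by norm_num⟩
  have hG := commutator_eq_top (nc_of_card h (by norm_num))
  obtain ⟨cs, S, p1, e1, e2, v1, f1, h1⟩ := tab12 h
  obtain ⟨l, T, hW⟩ := h1.tab fun _ => rfl
  have hl := hW
  simp only [W0, List.map_eq_cons_iff, List.map_eq_nil_iff] at hl
  obtain ⟨_, _, rfl, -, _, _, rfl, -, _, _, rfl, -, _, _, rfl, -, _, _, rfl, -, _, _, rfl, -, _, _, rfl, -,
    _, _, rfl, -, a, _, rfl, da, _, _, rfl, -, _, _, rfl, -, _, _, rfl, -, x, _, rfl, dx, y, _, rfl, dy,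
    o, _, rfl, d1, rfl⟩ := hl
  have ia := (T.mem a).2 (by simp)
  have ix := (T.mem x).2 (by simp)
  have iy := (T.mem y).2 (by simp)
  have i1 := triv_mem_irr (⊤ : Subgroup G)
  obtain rfl := eq_triv_of_deg hG ((T.mem o).2 (by simp)) (congrArg (·.1) d1)
  replace da : charDegree a = 54 := congrArg (·.1) da
  have z1 : ∀ χ ∈ irr ⊤, En.ext (iv S.z χ) (rowF cs χ) = (11, [1, 0, 0]) → charDegree χ = 11 ∧
      (∀ i ≠ 0, χ (S.zp i) = (1 : ℤ)) ∧ ∀ g, 11 ∣ orderOf g → χ g = (0 : ℤ) := fun χ i e =>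
    ⟨congrArg (·.1) e, fun j k => by
      rw [S.val_zp (by omega) (isCh_of_irr i).cfn k, v1 χ i, show iv S.z χ = 1 from congrArg (·.at 0) e],
      fun g k => by rw [val_zero i (by norm_num [h]) (congrArg (·.1) e).symm.dvd k, Int.cast_zero]⟩
  have key : ∀ χ ∈ irr ⊤, En.ext (iv S.z χ) (rowF cs χ) = (11, [1, 0, 0]) → altC χ ∈ irr ⊤ ∧
      charDegree (altC χ) = 55 ∧ (symC χ = a + x + triv ⊤ ∨ symC χ = a + y + triv ⊤) := fun χ i e => by
    obtain ⟨d, k1, k2⟩ := z1 χ i e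
    have hc := isCh_of_irr i
    have hS := isCh_symC hc
    have hA := isCh_altC hc
    obtain ⟨m1, m2⟩ := mu_triv_of_fs_one i (f1 χ i d)
    obtain ⟨b1, b2⟩ := col_sq p1 hc (b := 0) (c := 0) k2 rfl rfl
    have k3 := k1 1 one_ne_zero
    have k4 := k1 (1 + 1) (h5 1 one_ne_zero)
    rw [S.zp_add] at k4
    rw [S.zp_one] at k3 k4
    have dA := deg_altC hc d (n := 55) rfl
    refine ⟨irr_of_mu hA (ipl_eq T hA hA ▸ beq_iff_eq.1 (dec_of T hW hA dA
      (ts := [(fun r => if r.1 = 1 then 1 else 0, 0), (fun r => r.at 0, 0), (fun r => r.at 2, 0)])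
      (P := fun m => ipl m m == 1) ?_ (by decide +kernel))), dA, ?_⟩
    · simp only [Sat, List.forall_mem_cons, List.not_mem_nil, false_imp_iff, implies_true, and_true]
      exact ⟨(sum_mu_triv hG fun _ => rfl).trans (by simp [m2]), sum_mu_val hA v1 (alt_val k3 k4 rfl), b2⟩
    have := dec_of T hW hS (deg_symC hc d (n := 66) rfl)
      (ts := [(fun r => if r.1 = 1 then 1 else 0, 1), (fun r => r.at 0, 1), (fun r => r.at 2, 0)])
      (P := fun m => m == [0, 0, 0, 0, 0, 0, 0, 0, 1, 0, 0, 0, 1, 0, 1] ||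
        m == [0, 0, 0, 0, 0, 0, 0, 0, 1, 0, 0, 0, 0, 1, 1]) (by
      simp only [Sat, List.forall_mem_cons, List.not_mem_nil, false_imp_iff, implies_true, and_true]
      exact ⟨(sum_mu_triv hG fun _ => rfl).trans (by simp [m1]), sum_mu_val hS v1 (sym_val k3 k4 rfl), b1⟩)
      (by decide +kernel)
    exact (Bool.or_eq_true_iff.1 this).imp (fun e => funext fun g => by
      simpa [add_assoc] using T.val_of hS (beq_iff_eq.1 e) g) fun e => funext fun g => by
      simpa [add_assoc] using T.val_of hS (beq_iff_eq.1 e) g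
  have mS : ∀ χ ∈ irr ⊤, ∀ φ, IsCh ⊤ φ → mu ⊤ (a + χ + triv ⊤) φ = mu ⊤ a φ + mu ⊤ χ φ + mu ⊤ (triv ⊤) φ :=
    fun χ i φ k => by rw [mu_add ((isCh_of_irr ia).add (isCh_of_irr i)) (isCh_triv _) k,
      mu_add (isCh_of_irr ia) (isCh_of_irr i) k]
  have d1 := deg_triv (⊤ : Subgroup G)
  obtain ⟨χ, i, d, hA, dA, e⟩ : ∃ χ ∈ irr (⊤ : Subgroup G), charDegree χ = 11 ∧ altC χ ∈ irr ⊤ ∧
      charDegree (altC χ) = 55 ∧ symC χ = a + χ + triv ⊤ := by
    obtain ⟨dx, x1, x2⟩ := z1 x ix dx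
    obtain ⟨dy, y1, y2⟩ := z1 y iy dy
    obtain ⟨ax, ax', ex | ex⟩ := key x ix ‹_›
    · exact ⟨x, ix, dx, ax, ax', ex⟩
    obtain ⟨ay, ay', ey | ey⟩ := key y iy ‹_›
    swap
    · exact ⟨y, iy, dy, ay, ay', ey⟩
    have hne : x ≠ y := fun e => by simpa [e] using T.nodup
    have rx := real_of_fs ix (by simp [f1 x ix dx])
    have ry := real_of_fs iy (by simp [f1 y iy dy])
    have cx := isCh_of_irr ix
    have cy := isCh_of_irr iy
    have := Fintype.ofFinite G
    have k0 : ∀ {φ ψ φ' ψ'}, IsCh ⊤ φ → IsCh ⊤ ψ → IsCh ⊤ φ' → IsCh ⊤ ψ' → star ψ = ψ → star ψ' = ψ' →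
        φ * ψ = φ' * ψ' → mu ⊤ φ ψ = mu (⊤ : Subgroup G) φ' ψ' := fun a b c d e f k =>
      Nat.cast_injective (R := ℂ) (mul_left_cancel₀ (a := (Nat.card G : ℂ)) (by simp) (by
        rw [← sum_mul_eq a b e, ← sum_mul_eq c d f]; exact Finset.sum_congr rfl fun g _ => congrFun k g))
    have k1 : mu ⊤ (x * y) x = 1 := by
      rw [k0 (cx.mul cy) cx (cx.mul cx) cy rx ry (by ring), mu_sq cx cy, ex, mS y iy y cy]
      simp (disch := first | assumption | omega) only [mu_self, mu_deg]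
    have k2 : mu ⊤ (x * y) y = 1 := by
      rw [k0 (cx.mul cy) cy (cy.mul cy) cx ry rx (by ring), mu_sq cy cx, ey, mS x ix x cx]
      simp (disch := first | assumption | omega) only [mu_self, mu_deg]
    have k3 : altC x = altC y := eq_irr_of_mu (isCh_of_irr ax) ay (fun k => by
      have k4 := k0 (cx.mul cx) (cy.mul cy) (cx.mul cy) (cx.mul cy) (by rw [star_mul, ry])
        (by rw [star_mul, rx, ry, mul_comm]) (by ring)
      rw [mu_sq cx (cy.mul cy), mu_comm (isCh_symC cx) (cy.mul cy), mu_comm (isCh_altC cx) (cy.mul cy),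
        mu_sq cy (isCh_symC cx), mu_sq cy (isCh_altC cx), mu_comm (isCh_altC cy) (isCh_altC cx), k,
        mu_comm (isCh_altC cy) (isCh_symC cx), ey, mS x ix _ (isCh_symC cx), mS x ix _ (isCh_altC cx),
        mu_comm (isCh_of_irr ia) (isCh_symC cx), mu_comm cx (isCh_symC cx),
        mu_comm (isCh_triv _) (isCh_symC cx), ex, mS y iy _ (isCh_altC cy), mS y iy _ cx,
        mS y iy _ (isCh_of_irr ia), mS y iy _ (isCh_triv _), mu_ne iy ix hne.symm] at k4
      simp (disch := first | assumption | omega) only [mu_self, mu_deg] at k4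
      have := (deg_eq_iff (cx.mul cy)).1 (deg_of_norm_two (cx.mul cy) ix iy hne k1 k2 k4.symm)
      rw [Pi.mul_apply, ← coe_deg cx, ← coe_deg cy, dx, dy] at this
      norm_num at this) (ax'.trans ay'.symm)
    refine absurd (funext fun g => sub_eq_zero.1 ?_) hne
    have k4 : ∀ g, (x - y) (g * g) = -(x - y) g := fun g => by
      have k4 := congrFun ex g
      have k5 := congrFun ey g
      have k6 := congrFun k3 g
      simp only [symC, altC, Pi.add_apply, Pi.sub_apply] at k4 k5 k6 ⊢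
      linear_combination k4 - k5 - k6
    by_cases g5 : 5 ∣ orderOf g
    · obtain ⟨c, i, hi, k, hk, e⟩ := S.exists_conj_of_dvd g5
      have k5 := k4 (c * g * c⁻¹)
      rw [e, S.zp_mul_mul _ _ _ hk, ← sq k, orderOf_dvd_iff_pow_eq_one.1 (e2 ▸ S.K.orderOf_dvd_natCard hk), mul_one,
        ← e] at k5
      simpa [x1 _ (h5 i hi), y1 _ (h5 i hi), CFn.conj cx.cfn, CFn.conj cy.cfn, sub_eq_zero, eq_comm] using k5
    by_cases g11 : 11 ∣ orderOf g
    · rw [x2 g g11, y2 g g11, sub_self]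
    refine eq_zero_of_sq (δ := x - y) k4 (fun g => ?_) (a := 15) (b := 6) (by decide) (by decide) ?_
    · rw [Pi.sub_apply, ZIrr.inv cx.zirr, ZIrr.inv cy.zirr]
      exact congr($(congrFun rx g) - $(congrFun ry g))
    · rw [← orderOf_dvd_iff_pow_eq_one]
      refine ((Nat.Coprime.mul_right (Nat.coprime_comm.1 ((Nat.Prime.coprime_iff_not_dvd (by norm_num)).2 g5))
        (Nat.coprime_comm.1 ((Nat.Prime.coprime_iff_not_dvd (by norm_num)).2 g11))).dvd_of_dvd_mul_left ?_)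
      exact (orderOf_dvd_natCard g).trans (by rw [h]; norm_num)
  have hc := isCh_of_irr i
  obtain ⟨X, _, _, _, _, k3, -, k4, k5⟩ := exists_act i (f1 χ i d) (by omega) (mu_self hA)
    (mu_deg hA i (by omega)) (by
      rw [e, mS χ i χ hc]; simp (disch := first | assumption | omega) only [mu_self, mu_deg]) (by
      rw [e, mS χ i _ (isCh_of_irr hA)]; simp (disch := first | assumption | omega) only [mu_self, mu_deg])
  have hS := isCh_symC hc
  nth_rw 1 [e] at k5
  rw [mS χ i _ hS, mu_comm (isCh_of_irr ia) hS, mu_comm hc hS, mu_comm (isCh_triv _) hS, e, mS χ i _ hc,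
    mS χ i _ (isCh_of_irr ia), mS χ i _ (isCh_triv _)] at k5
  simp (disch := first | assumption | omega) only [mu_self, mu_deg] at k5
  refine iso_M12' (d ▸ k3) ((pretransitive_iff_subsingleton_quotient G _).2
    (Nat.card_eq_one_iff_unique.1 (by omega)).1) h fun w hw => ?_
  obtain ⟨k6, k7⟩ := invol_val hG hc (hw ▸ pow_orderOf_eq_one w)
  have : ((fx X w).card : ℤ) = 1 + iv w χ := by exact_mod_cast (k4 w).trans (congrArg _ k6)
  omega

theorem exists_pset_12 [IsSimpleGroup G] (h : Nat.card G = 95040) [Fact (Nat.Prime 11)] :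
    ∃ S : PSet 11 G, S.K = ⊥ ∧ S.N.index = 1728 := by
  haveI : Fact (Nat.Prime 5) := ⟨by norm_num⟩
  obtain ⟨cs, -, p1, -⟩ := tab12 h
  obtain ⟨S, h1, h2⟩ := col_pset p1 rfl
  exact ⟨S, h1, by simp only at h2; omega⟩

theorem simple_12 (h : Nat.card G = 95040) [Fact (Nat.Prime 11)] (S : PSet 11 G)
    (hS : S.N.index = 1728) : IsSimpleGroup G :=
  S.simple_of_index (e := 5) (by rw [h, hS]) (by norm_num) (by norm_num) (by simp [hS])
    (h ▸ noPP_of [2, 2, 2, 2, 2, 2, 3, 3, 3, 5, 11] (by simp) (by norm_num) (by norm_num)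
      (by decide +kernel))

end CF.Small
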