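import Cfsg.Agent.Small.Lg6
import Cfsg.Agent.Small.Lo3

/-!
Linear groups of degree less than `27`: the generic cases.
-/

set_option autoImplicit false

namespace CF.Small

open Subgroup Cfsg CF.Char CF.Clifford CF.BlockB CF.PF Function
open scoped MatrixGroups

universe u

variable {p : ℕ} [hp : Fact p.Prime] {G : Type u} [Group G] [Finite G] {χ ζ : G → ℂ}

theorem PSet.low_cases {S : PSet p G} (hζ : ζ ∈ irr (⊤ : Subgroup G)) (hf : charKer ζ = ⊥)
    (hd : charDegree ζ + 1 < p) (hn : ¬ S.P.Normal) (h27 : charDegree ζ < 27) :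
    (Nonempty (G ⧸ center G ≃* PSL(2, ZMod p)) ∧
      (2 * charDegree ζ = p + 1 ∨ 2 * charDegree ζ = p - 1)) ∨ (p = 17 ∧ charDegree ζ = 15) ∨
      (p = 7 ∧ charDegree ζ = 4 ∧ S.fi = 3) ∨ (p = 5 ∧ charDegree ζ = 3 ∧ S.fi = 2) := by
  have hc := isCh_top.1 (isCh_of_irr hζ)
  have hz := subset_normalClosure (s := {S.z}) rfl
  obtain ⟨S', -⟩ := S.exists_sub hz
  have h5 : (fun x : normalClosure ({S.z} : Set G) => ζ x) ∈ irr ⊤ :=
    mem_irr_top.2 (by simpa using (mem_irr.1 (low_struct hζ hf hd hn).1).2)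
  have h6 : charKer (fun x : normalClosure ({S.z} : Set G) => ζ x) = ⊥ := by
    rw [charKer_restrict hc, hf, bot_subgroupOf]
  have z1 : Lg.Pel p S.z := ⟨1, by simpa using S.z_pow⟩
  have hn' := Lg.not_normal S' (mt (Lg.good_res hc hf).1 fun k => hn (normal_of_comm fun g =>
    k _ (normalClosure_normal.conj_mem _ hz g) _ hz (z1.conj g) z1))
  obtain ⟨h1, h2, h3, h4⟩ := feit_low hζ hf hd hn
  have np : ∀ n, p = n → n.Prime := fun n e => e ▸ hp.out
  rcases h2 with h2 | ⟨m, h2, h7⟩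
  · by_cases k : charDegree ζ = S.fi ∨ 7 < p
    · exact .inl ⟨h3 h2 k _ (ZMod.card p), by omega⟩
    · omega
  have h8 := Nat.mul_le_mul_right S.fi h2
  by_cases k : S.fi = 2
  · obtain ⟨a, -, -, -, h9, -⟩ := Lo.feit (S := S) ⟨hζ, by omega, hf, hn⟩ (by omega)
    have : a < 5 := (Nat.pow_lt_pow_iff_right one_lt_two).1 (by omega)
    have := mt (np 9) (by decide)
    interval_cases a <;> omega
  have h9 := (h4 m h2 h7).1 (by omega)
  have h10 := Nat.mul_le_mul_right S.fi h9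
  obtain k | k : S.fi = 3 ∨ S.fi = 4 := by
    by_contra! k
    have := Nat.mul_le_mul (show 7 ≤ S.fi + 2 by omega) (show 5 ≤ S.fi by omega)
    omega
  · have := mt (np 22) (by decide)
    have := mt (np 25) (by decide)
    have := mt (np 28) (by decide)
    rw [k] at h7
    exact (not_nineteen S.gen_sub h5 h6 hn' (by omega) (show charDegree ζ = 16 by omega)).elim
  rw [k] at h7
  obtain ⟨k1, -, -, k2⟩ := feit_low h5 h6 hd hn'
  change charDegree ζ + _ = p ∨ charDegree ζ = _ ∧ _ at k1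
  have := (k2 6 (by omega) (by omega)).2 (Nat.not_even_iff_odd.1 fun e => by
    obtain ⟨y, hy⟩ := exists_prime_orderOf_dvd_card' 2 e.two_dvd
    have := orderOf_dvd_of_pow_eq_one ((S.gen_sub (S' := S')).center_pow h5 h6 y.2 (by
      rw [orderOf_coe, hy]; exact Nat.not_dvd_of_pos_of_lt two_pos (by omega)))
    rw [orderOf_coe, hy] at this
    change 2 ∣ charDegree ζ at this
    omega)
  omega

namespace Lg

theorem Tq.equiv {T : Type*} [Group T] [Finite T] {f : G →* T} {ζ : T → ℂ} {l : G →* ℂˣ}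
    (h : Tq p χ f ζ l) (hχ : IsIrrCharacter G χ) (hf : charKer χ = ⊥) :
    Nonempty (G ⧸ center G ≃* T ⧸ center T) :=
  ⟨(QuotientGroup.quotientMulEquivOfEq (by
    rw [← MonoidHom.comap_ker, QuotientGroup.ker_mk', h.comap_center,
      charCenter_eq_center_of_faithful hχ hf])).trans (QuotientGroup.quotientKerEquivOfSurjective
        ((QuotientGroup.mk' _).comp f) ((QuotientGroup.mk'_surjective _).comp h.surj))⟩

theorem not_good (hf : charKer χ = ⊥) {P : Sylow p G} (h : ¬ (P : Subgroup G).Normal) :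
    ¬ Good p χ := fun k => h ⟨fun x hx g => ((pel_of_mem P.isPGroup' hx).conj g).mem_sylow P
  fun y hy => (good_iff hf).1 k _ _ ((pel_of_mem P.isPGroup' hx).conj g) (pel_of_mem P.isPGroup' hy)⟩

theorem exists_red (hχ : IsIrrCharacter G χ) (hd : charDegree χ + 1 < p) (h : ¬ Good p χ) :
    ∃ (T : Type u) (_ : Group T) (_ : Finite T) (f : G →* T) (ζ : T → ℂ) (l : G →* ℂˣ)
      (S : PSet p T), Tq p χ f ζ l ∧ ¬ S.P.Normal := by
  obtain ⟨T, _, _, f, ζ, l, k⟩ := exists_tq hχ hd h (red (irr_isCharacter hχ) hd)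
  obtain ⟨-, u, -, u1, u2⟩ := k.exists_pel hd
  obtain ⟨S, -⟩ := exists_pset_eq ((u1.map f).ord_eq u2 k.nsq) k.nsq
  exact ⟨T, _, inferInstance, f, ζ, l, S, k, not_normal S k.bad⟩

end Lg

end CF.Small
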