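import Cfsg.Agent.Small.En2

/-!
# Covering the rows of a partial character table by blocks: the combinatorial part
-/

set_option autoImplicit false

namespace CF.Small.En

/-- Evaluates a list first. -/
def frcL {α : Type} : List ℕ → (List ℕ → α) → α
  | [], k => k []
  | a :: l, k => frc a fun a => frcL l fun l => k (a :: l)

theorem frcL_eq {α : Type} : ∀ (l : List ℕ) (k : List ℕ → α), frcL l k = k l
  | [], _ => rfl
  | a :: l, k => by rw [frcL, frc_eq, frcL_eq]

/-- The sign with which a degree is congruent to `m`. -/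
def sg (p m d : ℕ) : ℤ := bif d % p == m % p then 1 else bif (d + m) % p == 0 then -1 else 0

theorem sg_mod (p m d : ℕ) : sg p (m % p) d = sg p m d := by simp [sg]

theorem sg_cases (p m d : ℕ) : sg p m d = 0 ∨ sg p m d = 1 ∨ sg p m d = -1 := by
  unfold sg; grind

theorem sg_eq {p m d : ℕ} (hp : p.Prime) (h2 : p ≠ 2) (hd : ¬ p ∣ d) {e : ℤ} (he : e = 1 ∨ e = -1)
    (h : (d : ℤ) ≡ e * m [ZMOD p]) : sg p m d = e := by
  rcases he with rfl | rfl
  · simp [sg, show d % p = m % p from Int.natCast_modEq_iff.1 (by simpa using h)]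
  · have h1 : p ∣ d + m := Int.natCast_dvd_natCast.1 (by simpa using h.symm.dvd)
    have h3 : d % p ≠ m % p := fun e => hd <| ((Nat.coprime_primes hp Nat.prime_two).2 h2).dvd_of_dvd_mul_left
      (by rw [two_mul]; exact (Nat.modEq_zero_iff_dvd.1 ((Nat.ModEq.add_left d e).trans
        (Nat.modEq_zero_iff_dvd.2 h1))))
    simp [sg, beq_eq_false_iff_ne.2 h3, Nat.mod_eq_zero_of_dvd h1]

/-- Runs through the small submultisets. -/
def sel (ok : Row → Bool) (k : List Row → List Row → Bool) :
    List Row → ℕ → Row → List Row → List Row → Bool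
  | [], _, _, ch, re => k ch re
  | r :: W, n, pr, ch, re => sel ok k W n r ch (r :: re) &&
      (n == 0 || r == pr || !ok r || sel ok k W (n - 1) pr (r :: ch) re)

theorem sel_of {ok : Row → Bool} {k : List Row → List Row → Bool} : ∀ (W : List Row) (n : ℕ) (pr : Row)
    (ch re : List Row) (M R : Multiset Row), M + R = W → (∀ r ∈ M, ok r = true) → M.card ≤ n → pr ∉ M →
    sel ok k W n pr ch re = true →
    ∃ ch' re' : List Row, M + ch = ch' ∧ R + re = re' ∧ k ch' re' = true
  | [], _, _, ch, re, M, R, h1, _, _, _, h => by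
    obtain ⟨rfl, rfl⟩ : M = 0 ∧ R = 0 := by simpa using h1
    exact ⟨ch, re, by simp, by simp, h⟩
  | r :: W, n, pr, ch, re, M, R, h1, h2, h3, h4, h => by
    simp only [sel, Bool.and_eq_true, Bool.or_eq_true, beq_iff_eq, Bool.not_eq_true'] at h
    rw [← Multiset.cons_coe] at h1
    by_cases e : r ∈ M
    · obtain ⟨M, rfl⟩ := Multiset.exists_cons_of_mem e
      rw [Multiset.cons_add, Multiset.cons_inj_right] at h1
      rw [Multiset.forall_mem_cons] at h2
      simp only [Multiset.card_cons, Multiset.mem_cons, not_or] at h3 h4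
      obtain ⟨c, d, k1, k2⟩ := sel_of W _ _ _ _ M R h1 h2.2 (by omega) h4.2
        (h.2.resolve_left (by simp [h2.1, Ne.symm h4.1]; omega))
      exact ⟨c, d, by rw [← k1, ← Multiset.cons_coe, Multiset.cons_add, Multiset.add_cons], k2⟩
    · obtain ⟨R, rfl⟩ := Multiset.exists_cons_of_mem
        ((Multiset.mem_add.1 (h1 ▸ Multiset.mem_cons_self _ _)).resolve_left e)
      rw [Multiset.add_cons, Multiset.cons_inj_right] at h1
      obtain ⟨c, d, k1, k2, k3⟩ := sel_of W _ _ _ _ M R h1 h2 h3 e h.1
      exact ⟨c, d, k1, by rw [← k2, ← Multiset.cons_coe, Multiset.cons_add, Multiset.add_cons], k3⟩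

/-- The union of shifted bit sets. -/
def shf (b : ℕ) : List ℕ → ℕ
  | [] => 0
  | v :: l => (b <<< v) ||| shf b l

/-- The sums of `k` members. -/
def reach (vs : List ℕ) : ℕ → ℕ
  | 0 => 1
  | k + 1 => frc (reach vs k) fun b => shf b vs

theorem shf_of {b v s : ℕ} (h : b.testBit s = true) : ∀ {l : List ℕ}, v ∈ l → (shf b l).testBit (v + s) = true
  | _ :: _, k => by
    rcases List.mem_cons.1 k with rfl | k
    · simp [shf, Nat.testBit_shiftLeft, h]
    · simp [shf, shf_of h k]

theorem reach_of {vs : List ℕ} (L : Multiset ℕ) (h : ∀ v ∈ L, v ∈ vs) :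
    (reach vs L.card).testBit L.sum = true := by
  induction L using Multiset.induction_on with
  | empty => simp [reach]
  | cons a L ih =>
    rw [Multiset.forall_mem_cons] at h
    rw [Multiset.card_cons, Multiset.sum_cons, reach, frc_eq]
    exact shf_of (ih h.2) h.1

/-- The degrees outside and the columns vanishing there. -/
structure Cfg where
  u : ℕ
  b : ℕ
  Z : List ℕ
  js : List ℕ

/-- The degrees are multiples of the unit. -/
def Cfg.ok (C : Cfg) : Bool := C.u != 0 && C.Z.all fun d => d % C.u == 0 && Nat.ble (d / C.u) C.b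

/-- The shifted signed degrees. -/
def zv (C : Cfg) (p m : ℕ) : List ℕ :=
  (C.Z.filter fun d => sg p m d != 0).map fun d => (sg p m d * (d / C.u : ℕ) + C.b).toNat

/-- The table of reachable sums. -/
def mkT (C : Cfg) (p : ℕ) : List ℕ :=
  (List.range (p * (p + 1))).map fun i => frcL (zv C p (i / (p + 1))) fun l => reach l (i % (p + 1))

/-- Looks up a sum. -/
def hit (C : Cfg) (T : List ℕ) (p m k : ℕ) (S : ℤ) : Bool :=
  S % C.u == 0 && frc (S / C.u + (k * C.b + 1 : ℕ)).toNat fun x =>
    x != 0 && (T.getD (m % p * (p + 1) + k) 0).testBit (x - 1)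

theorem hit_of {C : Cfg} (hC : C.ok = true) {p m : ℕ} (hp : p ≠ 0) (L : Multiset ℕ) (h1 : L.card ≤ p)
    (h2 : ∀ d ∈ L, d ∈ C.Z ∧ sg p m d ≠ 0) :
    hit C (mkT C p) p m L.card (L.map fun d => sg p m d * d).sum = true := by
  simp only [Cfg.ok, Bool.and_eq_true, bne_iff_ne, List.all_eq_true, beq_iff_eq, Nat.ble_eq] at hC
  have h3 : (L.map fun d => sg p m d * d).sum + C.u * (L.card * C.b : ℕ) =
      C.u * ((L.map fun d => (sg p m d * (d / C.u : ℕ) + C.b).toNat).sum : ℕ) := by
    clear h1
    induction L using Multiset.induction_on with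
    | empty => simp
    | cons a L ih =>
      rw [Multiset.forall_mem_cons] at h2
      obtain ⟨k1, k2⟩ := hC.2 a h2.1.1
      have k3 : (a : ℤ) = C.u * (a / C.u : ℕ) := by
        exact_mod_cast (Nat.mul_div_cancel' (Nat.dvd_of_mod_eq_zero k1)).symm
      have k4 : 0 ≤ sg p m a * (a / C.u : ℕ) + C.b := by have := sg_cases p m a; grind
      simp only [Multiset.map_cons, Multiset.sum_cons, Multiset.card_cons, Nat.cast_add,
        Int.toNat_of_nonneg k4, Nat.cast_mul, Nat.cast_one] at ih ⊢
      linear_combination ih h2.2 + sg p m a * k3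
  have h4 := Nat.mod_lt m (Nat.pos_of_ne_zero hp)
  have h5 : m % p * (p + 1) + L.card < p * (p + 1) := by nlinarith
  rw [eq_sub_of_add_eq h3, ← mul_sub, hit, Int.mul_emod_right, Int.mul_ediv_cancel_left _ (by simpa using hC.1),
    frc_eq, Nat.cast_add, ← add_assoc, sub_add_cancel, ← Nat.cast_add, Int.toNat_natCast,
    mkT, List.getD_eq_getElem _ _ (by simpa using h5), List.getElem_map, List.getElem_range, frcL_eq,
    Nat.mul_add_mod_self_right, Nat.mod_eq_of_lt (Nat.lt_succ_of_le h1), add_comm (_ * _),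
    Nat.add_mul_div_right _ _ p.succ_pos, Nat.div_eq_of_lt (Nat.lt_succ_of_le h1), zero_add]
  simpa using reach_of (vs := zv C p (m % p))
      (L.map fun d => (sg p m d * (d / C.u : ℕ) + C.b).toNat) fun v hv => by
    obtain ⟨d, k, rfl⟩ := Multiset.mem_map.1 hv
    exact List.mem_map.2 ⟨d, List.mem_filter.2 (by simpa [sg_mod] using h2 d k), by rw [sg_mod]⟩

/-- A signed sum. -/
def lin (p m : ℕ) (f : Row → ℤ) : List Row → ℤ
  | [] => 0
  | r :: W => sg p m r.1 * f r + lin p m f W

theorem lin_eq (p m : ℕ) (f : Row → ℤ) (W : List Row) :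
    lin p m f W = (W.map fun r => sg p m r.1 * f r).sum := by induction W <;> simp_all [lin]

/-- Orbit lengths and degrees. -/
def opts (P : Par) : List (ℕ × ℕ) :=
  ((List.range (P.e + 1)).filter fun o => o != 0 && P.e % o == 0).flatMap fun o =>
    ((upto 1 (P.c + 1) P.c 1).filter fun f => P.c % f == 0).map fun f => (o, f)

section
variable (N : ℕ) (P : Par) (C : Cfg) (T : List ℕ) (o f : ℕ)

/-- There is one exceptional character only. -/
def one : Bool := P.e / o + 1 == P.p

/-- The number of characters fixed by the Galois group. -/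
def nX : ℕ := bif one P o then P.p else P.e / o

/-- The number of exceptional characters. -/
def nY : ℕ := (P.p - 1) / (P.e / o)

/-- The sum of the values over the Sylow subgroup. -/
def tX (r : Row) : ℤ := (P.p - 1 : ℕ) * sg P.p (o * f) r.1 * (o * f : ℕ)

/-- The sum of the values over the Sylow subgroup. -/
def tY (r : Row) : ℤ := -(sg P.p (P.e * f) r.1 * (P.e * f : ℕ))

/-- Conditions on a degree. -/
def okD (r : Row) (t : ℤ) : Bool :=
  t != 0 && N / (P.p * P.c) * (o * f) % r.1 == 0 && decide (0 ≤ r.1 + t) && decide (t ≤ (P.p - 1 : ℕ) * r.1)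

/-- Conditions on a degree. -/
def okX (r : Row) : Bool := okD N P o f r (tX P o f r)

/-- Conditions on a degree. -/
def okY (r : Row) : Bool := !one P o && okD N P o f r (tY P f r)

/-- The new row. -/
def exX (r : Row) : Row := ext 0 (ext (tX P o f r) r)

/-- The new row. -/
def exY (r : Row) : Row := ext 1 (ext (tY P f r) r)

/-- The block relations. -/
def lf (rh : ℕ → ℤ) (ts : List ℤ) (ch : List Row) : Bool :=
  (C.js.all fun j => lin P.p (o * f) (·.at j) ch == rh j) &&
    ts.any fun t => hit C T P.p (o * f) (nX P o - ch.length) (t - lin P.p (o * f) (·.1) ch)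

/-- The block relations with exceptional characters inside. -/
def lfI (y : Row) : List Row → Bool :=
  lf P C T o f (fun j => sg P.p (P.e * f) y.1 * y.at j) [sg P.p (P.e * f) y.1 * y.1]

/-- The block relations without exceptional characters inside. -/
def lfO : List Row → Bool :=
  lf P C T o f (fun _ => 0) (bif one P o then [0] else
    (C.Z.filter fun x => sg P.p (P.e * f) x != 0).map fun x => sg P.p (P.e * f) x * x)

/-- Runs through the blocks containing the row `r`. -/
def blk (k : List Row → List Row → Bool) (r : Row) (W : List Row) : Bool :=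
  let ki := fun y ch re => !lfI P C T o f y ch ||
    k re (List.replicate (nY P o) (exY P f y) ++ ch.map (exX P o f))
  (!okY N P o f r || Nat.blt ((r :: W).count r) (nY P o) ||
    sel (okX N P o f) (ki r) ((r :: W).diff (List.replicate (nY P o) r)) (nX P o) (0, []) [] []) &&
  (!okX N P o f r || (sel (okX N P o f) (fun ch re => !lfO P C T o f ch || k re (ch.map (exX P o f)))
      W (nX P o - 1) (0, []) [r] [] &&
    W.all fun y => !okY N P o f y || Nat.blt (W.count y) (nY P o) ||
      sel (okX N P o f) (ki y) (W.diff (List.replicate (nY P o) y)) (nX P o - 1) (0, []) [r] []))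

/-- The rows of the part of a block inside, and the new rows. -/
def Good (M M' : Multiset Row) : Prop :=
  ∃ X : Multiset Row, X.card ≤ nX P o ∧ (∀ r ∈ X, okX N P o f r = true ∧ r.1 ≠ 0) ∧
    ((M = X ∧ M' = X.map (exX P o f) ∧ ∀ ch : List Row, X = ch → lfO P C T o f ch = true) ∨
    ∃ y, okY N P o f y = true ∧ nY P o ≠ 0 ∧ M = Multiset.replicate (nY P o) y + X ∧
      M' = Multiset.replicate (nY P o) (exY P f y) + X.map (exX P o f) ∧
      ∀ ch : List Row, X = ch → lfI P C T o f y ch = true)

end

theorem coe_diff (V L : List Row) : (↑(V.diff L) : Multiset Row) = V - L := by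
  rw [Multiset.coe_sub]; congr!

theorem count_eq (r : Row) (V : List Row) : V.count r = Multiset.count r V := by
  rw [Multiset.coe_count]; congr!

theorem blk_of {N : ℕ} {P : Par} {C : Cfg} {T : List ℕ} {o f : ℕ} {k : List Row → List Row → Bool} {r : Row}
    {W : List Row} {M M' R : Multiset Row} (hg : Good N P C T o f M M') (h1 : M + R = ↑(r :: W))
    (h2 : r ∈ M) (h : blk N P C T o f k r W = true) :
    ∃ re nw : List Row, R = re ∧ M' = nw ∧ k re nw = true := by
  obtain ⟨X, k1, k2, hg⟩ := hg
  have k0 : ∀ X' ≤ X, ((0, []) : Row) ∉ X' := fun X' e e' => (k2 _ (Multiset.mem_of_le e e')).2 rfl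
  simp only [blk, Bool.and_eq_true, Bool.or_eq_true, Bool.not_eq_true', List.all_eq_true, Nat.blt_eq,
    count_eq] at h
  rcases hg with ⟨rfl, rfl, k3⟩ | ⟨y, k3, k4, rfl, rfl, k5⟩
  · obtain ⟨X, rfl⟩ := Multiset.exists_cons_of_mem h2
    rw [← Multiset.cons_coe, Multiset.cons_add, Multiset.cons_inj_right] at h1
    obtain ⟨c, d, e1, e2, e3⟩ := sel_of _ _ _ _ _ X R h1 (fun r h => (k2 r (by simp [h])).1)
      (Nat.le_sub_one_of_lt (by simpa using k1)) (k0 _ (Multiset.le_cons_self _ _))
      (h.2.resolve_left (by simp [(k2 r h2).1])).1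
    rw [add_comm, Multiset.coe_singleton, Multiset.singleton_add] at e1
    exact ⟨d, _, by simpa using e2, by rw [e1, Multiset.map_coe], by simpa [k3 c e1] using e3⟩
  have key : ∀ {V : List Row} {X' : Multiset Row} {n : ℕ} {ch : List Row}, X' + ch = X → X'.card ≤ n →
      Multiset.replicate (nY P o) y + X' + R = V → (Multiset.count y V < nY P o ∨
      sel (okX N P o f) (fun ch re => !lfI P C T o f y ch ||
        k re (List.replicate (nY P o) (exY P f y) ++ ch.map (exX P o f)))
        (V.diff (List.replicate (nY P o) y)) n (0, []) ch [] = true) → ∃ re nw : List Row, R = re ∧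
      Multiset.replicate (nY P o) (exY P f y) + X.map (exX P o f) = nw ∧ k re nw = true :=
    fun {V X' n ch} e1 e2 e3 e4 => by
    obtain ⟨c, d, e5, e6, e7⟩ := sel_of _ _ _ _ _ X' R (by
      rw [coe_diff, ← e3, Multiset.coe_replicate, add_assoc, add_tsub_cancel_left])
      (fun r h => (k2 r (by simp [← e1, h])).1) e2 (k0 _ (e1 ▸ Multiset.le_add_right _ _))
      (e4.resolve_left (by simp [← e3, add_assoc]))
    rw [e1] at e5
    exact ⟨d, _, by simpa using e6, by rw [e5, Multiset.map_coe, ← Multiset.coe_replicate, Multiset.coe_add],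
      by simpa [k5 c e5] using e7⟩
  by_cases e : r = y
  · subst e
    exact key (add_zero _) k1 h1 (by simpa [k3, or_assoc] using h.1)
  · replace h2 : r ∈ X := by simpa [Multiset.mem_replicate, e] using h2
    obtain ⟨X, rfl⟩ := Multiset.exists_cons_of_mem h2
    rw [← Multiset.cons_coe, Multiset.add_cons, Multiset.cons_add, Multiset.cons_inj_right] at h1
    refine key (ch := [r]) (by simp [add_comm X]) (Nat.le_sub_one_of_lt (by simpa using k1)) h1 ?_
    simpa [k3, or_assoc] using (h.2.resolve_left (by simp [(k2 r h2).1])).2 y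
      (by rw [← Multiset.mem_coe, ← h1]; simp [Multiset.mem_replicate, k4])

/-- Runs through the coverings by blocks. -/
def cov (N : ℕ) (P : Par) (C : Cfg) (T : List ℕ) (O : List (ℕ × ℕ)) (k : List Row → Bool) :
    ℕ → List Row → ℕ → List Row → Bool
  | 0, _, _, _ => false
  | _ + 1, [], _, acc => k acc
  | n + 1, r :: W, w, acc => O.all fun x => Nat.blt w (x.1 * x.2 * x.2) ||
      blk N P C T x.1 x.2 (fun re nw => frc (w - x.1 * x.2 * x.2) fun w =>
        cov N P C T O k n re w (nw ++ acc)) r W

variable {ι κ : Type*}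

theorem filter_add {T : Finset ι} (q : ι → Prop) [DecidablePred q] (F : ι → Row) :
    (T.filter q).val.map F + (T.filter (¬ q ·)).val.map F = T.val.map F := by
  rw [← Multiset.map_add, Finset.filter_val, Finset.filter_val, Multiset.filter_add_not]

theorem map_filter {s : Finset ι} {F : ι → Row} {W : List Row} (h : s.val.map F = W) (q : Row → Bool) :
    (s.filter (q <| F ·)).val.map F = ↑(W.filter q) := by
  have := congrArg (Multiset.filter (q · = true)) h
  rw [Multiset.filter_map, Multiset.filter_coe] at this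
  simpa [Finset.filter_val] using this

theorem cov_of [DecidableEq κ] {N : ℕ} {P : Par} {C : Cfg} {T : List ℕ} {O : List (ℕ × ℕ)}
    {k : List Row → Bool} {β : ι → Finset κ} {wt : κ → ℕ} {F E : ι → Row} {s : Finset ι}
    (hd : ∀ a ∈ s, ∀ b ∈ s, β a ≠ β b → Disjoint (β a) (β b))
    (hg : ∀ a ∈ s, ∃ x ∈ O, ∑ c ∈ β a, wt c = x.1 * x.2 * x.2 ∧ Good N P C T x.1 x.2
      ((s.filter (β · = β a)).val.map F) ((s.filter (β · = β a)).val.map E)) :
    ∀ (n : ℕ) (W : List Row) (w : ℕ) (acc : List Row) (t : Finset ι) (U : Finset κ), t ⊆ s →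
      (∀ a ∈ t, ∀ b ∈ s, β b = β a → b ∈ t) → (∀ a ∈ t, β a ⊆ U) → ∑ c ∈ U, wt c ≤ w → t.val.map F = W →
      cov N P C T O k n W w acc = true → ∃ W' : List Row, t.val.map E + acc = W' ∧ k W' = true
  | 0, _, _, _, _, _, _, _, _, _, _, h => by simp [cov] at h
  | _ + 1, [], _, acc, t, _, _, _, _, _, h5, h => by
    obtain rfl : t = ∅ := by simpa using h5
    exact ⟨acc, by simp, h⟩
  | n + 1, r :: W, w, acc, t, U, h1, h2, h3, h4, h5, h => by
    obtain ⟨a, k1, rfl⟩ := Multiset.mem_map.1 (h5 ▸ Multiset.mem_coe.2 List.mem_cons_self)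
    obtain ⟨x, k2, k3, k4⟩ := hg a (h1 k1)
    have k5 := Finset.sum_sdiff (f := wt) (h3 a k1)
    rw [show s.filter (β · = β a) = t.filter (β · = β a) by grind] at k4
    obtain ⟨re, nw, e1, e2, e3⟩ := blk_of k4 ((filter_add _ F).trans h5)
      (Multiset.mem_map_of_mem _ (Finset.mem_filter.2 ⟨k1, rfl⟩))
      ((Bool.or_eq_true_iff.1 (List.all_eq_true.1 h x k2)).resolve_left (by rw [Nat.blt_eq]; omega))
    rw [frc_eq] at e3
    obtain ⟨W', e4, e5⟩ := cov_of hd hg n re _ _ _ (U \ β a) (by grind) (by grind)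
      (fun b e => by
        have e := Finset.mem_filter.1 e
        exact Finset.subset_sdiff.2 ⟨h3 b e.1, hd b (h1 e.1) a (h1 k1) e.2⟩) (by omega) e1 e3
    exact ⟨W', by rw [← e4, ← Multiset.coe_add, ← e2, ← filter_add (β · = β a) E]; ac_rfl, e5⟩

/-- Removes the first entry. -/
def dr (r : Row) : Row := (r.1, r.2.tail)

/-- Sorts by degrees. -/
def srd (b : Bool) (W : List Row) : List Row :=
  W.insertionSort fun a c => (bif b then Nat.ble c.1 a.1 else Nat.ble a.1 c.1) = true

/-- Adds the columns of a Sylow subgroup of prime order. -/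
def cover (N : ℕ) (P : Par) (C : Cfg) (T : List ℕ) (pr : List Row) (w : ℕ) (b : Bool) (k : List Row → Bool)
    (W : List Row) : Bool :=
  cov N P C T (opts P) k 40 (srd b ((W.filter (·.1 % P.p != 0)).diff (pr.map fun r => dr (dr r)))) w
    (pr ++ (W.filter (·.1 % P.p == 0)).map fun r => ext 0 (ext 0 r))

theorem cover_of [DecidableEq κ] {N : ℕ} {P : Par} {C : Cfg} {T : List ℕ} {pr W : List Row} {w : ℕ} {b : Bool}
    {k : List Row → Bool} {β : ι → Finset κ} {wt : κ → ℕ} {F E : ι → Row} {s t : Finset ι} {U : Finset κ}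
    (hW : s.val.map F = W) (ht : t = s.filter fun a => (F a).1 % P.p ≠ 0) (hE : ∀ a, dr (dr (E a)) = F a)
    (hz : ∀ a ∈ s, (F a).1 % P.p = 0 → E a = ext 0 (ext 0 (F a)))
    (hp : (t.filter (¬ β · ⊆ U)).val.map E = pr) (hU : ∑ c ∈ U, wt c ≤ w)
    (hd : ∀ a ∈ t, ∀ b ∈ t, β a ≠ β b → Disjoint (β a) (β b))
    (hg : ∀ a ∈ t, ∃ x ∈ opts P, ∑ c ∈ β a, wt c = x.1 * x.2 * x.2 ∧ Good N P C T x.1 x.2
      ((t.filter (β · = β a)).val.map F) ((t.filter (β · = β a)).val.map E))
    (h : cover N P C T pr w b k W = true) : ∃ W' : List Row, s.val.map E = W' ∧ k W' = true := by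
  have h1 := map_filter hW
  have h2 := filter_add (T := s) (fun a => (F a).1 % P.p ≠ 0) E
  have h3 := filter_add (T := t) (β · ⊆ U)
  obtain ⟨W', k1, k2⟩ := cov_of hd hg _ _ _ _ (t.filter (β · ⊆ U)) U (Finset.filter_subset _ _) (by grind)
    (by grind) hU (by
      rw [srd, Multiset.coe_eq_coe.2 (List.perm_insertionSort _ _), coe_diff, ← Multiset.map_coe, ← hp,
        Multiset.map_map, ← h1, eq_comm]
      exact tsub_eq_of_eq_add (by simpa [ht, hE] using (h3 F).symm)) h
  refine ⟨W', ?_, k2⟩
  rw [← k1, ← Multiset.coe_add, ← hp, ← add_assoc, h3, ← h2, ← ht, ← Multiset.map_coe, ← h1, Multiset.map_map]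
  exact congrArg _ (Multiset.map_congr (by simp) fun a e => by
    simpa using hz a (Finset.mem_filter.1 e).1 (by simpa using (Finset.mem_filter.1 e).2))

/-- A sum for class multiplication constants. -/
def tsum (N i j k : ℕ) : List Row → ℤ
  | [] => 0
  | r :: W => r.at i * r.at j * r.at k * (N / r.1 : ℕ) + tsum N i j k W

theorem tsum_eq (N i j k : ℕ) (W : List Row) :
    tsum N i j k W = (W.map fun r => r.at i * r.at j * r.at k * ((N / r.1 : ℕ) : ℤ)).sum := by
  induction W <;> simp_all [tsum]

/-- The order of the normalizer. -/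
def Par.nn (P : Par) : ℕ := P.p * P.c * P.e

/-- Tests for class multiplication constants. -/
def tri (N : ℕ) (P : Par) (L B : List (ℕ × Par)) (W : List Row) : Bool :=
  L.all fun a => B.all fun b => frc (tsum N 1 a.1 b.1 W + 1).toNat fun s =>
    s != 0 && (s - 1) % (P.nn * a.2.nn * b.2.e) == 0

/-- Degrees in `3`-blocks of defect one. -/
def isv (d : ℕ) : Bool := d % 9 == 0 && d % 27 != 0

/-- A column sum. -/
def sm (j : ℕ) (L : List Row) : ℤ := (L.map (·.at j)).sum

/-- The relations in a block with three characters. -/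
def ok3 (C : Cfg) (zs : List ℕ) (fx mv : Row → Bool) (L : List Row) : Bool :=
  frc (L.map (·.1)).sum fun D => (bif L.length == 2 then
      (isv D && C.Z.contains D && zs.all (sm · L == 0)) ||
        L.any fun c => isv (2 * c.1 - D) && C.Z.contains (2 * c.1 - D) && zs.all fun j => 2 * c.at j == sm j L
    else L.length == 3 && L.any fun c => (2 * c.1 == D && C.js.all fun j => 2 * c.at j == sm j L) ||
      L.all fun a => a.1 == c.1 && C.js.all fun j => a.at j == c.at j) &&
    (!L.any fx || L.all fun a => !mv a || Nat.ble 2 (L.count a))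

/-- Runs through the coverings by blocks with three characters. -/
def cov3 (zs : List ℕ) (ok : List Row → Bool) : ℕ → List Row → Bool
  | 0, _ => false
  | _ + 1, [] => false
  | n + 1, r :: W => zs.any (r.at · != 0) &&
      sel (fun _ => true) (fun ch re => !ok ch || cov3 zs ok n re) W 2 (0, []) [r] []

theorem cov3_of [DecidableEq κ] {zs : List ℕ} {ok : List Row → Bool} {β : ι → κ} {F : ι → Row}
    {s : Finset ι} (hg : ∀ a ∈ s, zs.any ((F a).at · != 0) = true →
      (s.filter (β · = β a)).card ≤ 3 ∧ ∀ L : List Row, (s.filter (β · = β a)).val.map F = L → ok L = true)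
    (h0 : ∀ a ∈ s, (F a).1 ≠ 0) : ∀ (n : ℕ) (W : List Row) (t : Finset ι), t ⊆ s →
      (∀ a ∈ t, ∀ b ∈ s, β b = β a → b ∈ t) → t.val.map F = W → cov3 zs ok n W ≠ true
  | 0, _, _, _, _, _, h => by simp [cov3] at h
  | _ + 1, [], _, _, _, _, h => by simp [cov3] at h
  | n + 1, r :: W, t, h1, h2, h3, h => by
    obtain ⟨a, k1, rfl⟩ := Multiset.mem_map.1 (h3 ▸ Multiset.mem_coe.2 List.mem_cons_self)
    rw [cov3, Bool.and_eq_true] at h
    obtain ⟨k2, k3⟩ := hg a (h1 k1) h.1
    rw [show s.filter (β · = β a) = t.filter (β · = β a) by grind] at k2 k3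
    have k4 := (filter_add (β · = β a) F).trans h3
    obtain ⟨M, e⟩ := Multiset.exists_cons_of_mem
      (Multiset.mem_map_of_mem F (Finset.mem_filter.2 ⟨k1, rfl⟩ : a ∈ (t.filter (β · = β a)).val))
    have k5 : (t.filter (β · = β a)).card = M.card + 1 := by
      rw [← Multiset.card_cons (F a), ← e, Multiset.card_map]; rfl
    rw [e, ← Multiset.cons_coe, Multiset.cons_add, Multiset.cons_inj_right] at k4
    obtain ⟨c, d, e1, e2, e3⟩ := sel_of _ _ _ _ _ M _ k4 (fun _ _ => rfl) (by omega) (fun e' => by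
      obtain ⟨b, k6, k7⟩ := Multiset.mem_map.1 (e ▸ Multiset.mem_cons_of_mem e')
      exact h0 b (h1 (Finset.mem_filter.1 k6).1) (congrArg Prod.fst k7)) h.2
    rw [add_comm, Multiset.coe_singleton, Multiset.singleton_add, ← e] at e1
    exact cov3_of hg h0 n d (t.filter (¬ β · = β a)) (by grind) (by grind) (by simpa using e2) (by simpa [k3 c e1] using e3)

/-- There is no covering by `3`-blocks. -/
def no3 (C : Cfg) (zs : List ℕ) (fx mv : Row → Bool) (W : List Row) : Bool :=
  cov3 zs (ok3 C zs fx mv) 40 (srd true (W.filter fun r => isv r.1))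

/-- Completes a block column, with a condition on the rows. -/
def cmpG (N : ℕ) (A : List ℕ) (j : ℕ) (g : Row → Bool) (k : K) : K := fun ps fl W =>
  let P := ps.getD j default
  let k' := fun W' => !fin ps (fl.set j true) W' || k ps (fl.set j true) W'
  Nat.blt j ps.length && frc (P.nY - W.countP (isY P j)) fun ny =>
  ms j (P.p - 1) (P.e ^ 2 * ny) (fun W' S b => bif ny == 0 then S != 0 || k' W' else
      S.natAbs % (ny * P.e) != 0 || frc (S.natAbs / (ny * P.e)) fun x => x == 0 || N % x != 0 ||
        decide (b < ny * x ^ 2) || (zrows N ps fl x).all fun l =>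
          S + (ny : ℤ) * Row.at (x, l) j * (x : ℤ) != 0 || !g (x, l) || k' (List.replicate ny (x, l) ++ W'))
    (P.nX - W.countP (isX P j))
    (cands N A ps fl (fun d => d % P.p == 1 || d % P.p + 1 == P.p) fun r => isX P j r && g r)
    (N - (W.map (·.1 ^ 2)).sum) (W.map fun r : Row => r.at j * (r.1 : ℤ)).sum W

/-- Values at an involution centralizing a Sylow subgroup. -/
def tok (N : ℕ) (P : Par) (n : ℕ) (r : Row) (a : ℤ) : Bool :=
  (opts P).any fun x => Nat.blt (x.1 * x.2 * x.2) P.c &&
    let f := fun c : ℤ => (List.range (min (x.1 * x.2 + 1) P.p)).any fun i =>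
      (a - c * ((x.1 * x.2 : ℕ) - 2 * i)) % P.p == 0
    ((okX N P x.1 x.2 r && f (sg P.p (x.1 * x.2) r.1)) ||
      (okY N P x.1 x.2 r && Nat.ble (nY P x.1) n && f (sg P.p (P.e * x.2) r.1 * (P.e / x.1 : ℕ))))

/-- Excludes an involution centralizing a Sylow subgroup. -/
def inv2 (N C j : ℕ) : K := fun ps fl W =>
  let P := ps.getD j default
  Nat.blt j ps.length && W.all (fun r => (comp ps fl).any (r.at · != 0)) &&
  asg (fun r => (vopts N ps C r).filter fun a => r.at j != 0 || r.1 % P.p == 0 || tok N P (W.count r) r a)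
    (anyY ps) (C + 1) (vtests N ps fl C) (fun _ => false) (ord (prio ps fl W) W) (0, []) 0 C []

/-- The filter from rational characters of small degree. -/
def fltU (j q : ℕ) (k : K) : K := fun ps fl W =>
  (Nat.blt j ps.length && fl.getD j false && (ps.getD j default).c % q == 0 && W.any fun r =>
    r.at j != 0 && W.count r == 1 && r.1 != 1 && Nat.blt r.1 ((ps.getD j default).p * (q - 1))) || k ps fl W

/-- The filter from an involution centralizing a Sylow subgroup. -/
def fltL (N : ℕ) (A : List ℕ) (j : ℕ) (g : ℕ → Bool) (k : K) : K := fun ps fl W =>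
  (Nat.blt j ps.length && (ps.getD j default).c % 2 == 0 &&
    ((kCs N A (ps.getD j default)).filter g).all fun C => inv N C (fun _ => false) ps fl W) || k ps fl W

/-- Orders of subgroups of the normalizer. -/
def kD (A : List ℕ) (P : Par) (m : ℕ) : List ℕ := A.filter fun f => f % m == 0 && P.c * P.e % f == 0

/-- A condition on the order of the centralizer. -/
def kc (D : List ℕ) (p C : ℕ) : Bool := D.any fun f => C % (p * f) == 0 && C / (p * f) % p == 1

/-- A condition on the fixed points of an automorphism of order `q`. -/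
def wm (q c r m : ℕ) : Bool := c % r ^ 11 != 0 && (List.range 11).all fun a => c % r ^ a != 0 ||
  c / r ^ a % r == 0 || (List.range (a + 1)).all fun b => r ^ a % q != r ^ b % q || r ^ b % m == 0

theorem realize3 : True := by
  have := @frcL.eq_def; have := @sel.eq_def; have := @shf.eq_def; have := @reach.eq_def; have := @lin.eq_def
  have := @cov.eq_def; have := @tsum.eq_def; have := @cov3.eq_def; trivial

end CF.Small.En
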