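import Cfsg.Agent.Small.En7
import Cfsg.Agent.Small.Cv1

/-!
# Covering the rows of a partial character table by blocks of defect one
-/

set_option autoImplicit false
set_option linter.unusedSectionVars false

namespace CF.Small

open Subgroup CF.BlockB Cfsg CF.PF Sv CF.Char En
open scoped ComplexConjugate

variable {p : ℕ} [hp : Fact p.Prime] {G : Type*} [Group G] [Finite G] {χ ψ θ θ' : G → ℂ} {t : ℕ}

/-- A Galois conjugate. -/
def pw (t : ℕ) (χ : G → ℂ) : G → ℂ := fun g => χ (g ^ t)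

theorem pw_mem (h : χ ∈ irr (⊤ : Subgroup G)) (ht : t.Coprime (Nat.card G)) : pw t χ ∈ irr (⊤ : Subgroup G) :=
  mem_irr_top.2 (irr_pow_coprime (mem_irr_top.1 h) ht)

theorem pw_deg : charDegree (pw t χ) = charDegree χ := by simp [charDegree, pw]

open _root_.Classical in
/-- Marks the characters moved by the Galois group. -/
noncomputable def mv (p : ℕ) (χ : G → ℂ) : ℤ := if ∀ s, Adm p G s → pw s χ = χ then 0 else 1

theorem mv_pw (ht : t.Coprime (Nat.card G)) : mv p (pw t χ) = mv p χ := by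
  have : ∀ s, pw s (pw t χ) = pw t χ ↔ pw s χ = χ := fun s => by
    simp only [funext_iff, pw, pow_right_comm _ s]
    exact (powCoprime ht.symm).forall_congr_right (q := fun g => χ (g ^ s) = χ g)
  rw [mv, mv, forall_congr' fun s => imp_congr_right fun _ => this s]

namespace PSet

variable (S : PSet p G)

/-- The sum of the values at the non-trivial elements of the Sylow subgroup. -/
noncomputable def tz (χ : G → ℂ) : ℤ := p * mu S.P χ (triv S.P) - charDegree χ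

theorem coe_tz (h : χ ∈ irr (⊤ : Subgroup G)) :
    (S.tz χ : ℂ) = ∑ i ∈ Finset.univ.erase 0, χ (S.zp i) := by
  simp [tz, mu_P_val (S := S) (isCh_of_irr h) rfl]

theorem tz_le (h : χ ∈ irr (⊤ : Subgroup G)) :
    0 ≤ charDegree χ + S.tz χ ∧ S.tz χ ≤ (p - 1 : ℕ) * charDegree χ := by
  have h1 := deg_eq_sum_mu ((isCh_of_irr h).res (le_top (a := S.P)))
  have h2 := h1 ▸ Finset.single_le_sum (f := fun θ => mu S.P (res S.P χ) θ * charDegree θ)
    (fun _ _ => Nat.zero_le _) (triv_mem_irr S.P)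
  rw [deg_triv, mul_one, mu, ip_res_left, ← mu, charDegree, res_of_mem _ S.P.one_mem, ← charDegree] at h2
  rw [tz, Nat.cast_pred hp.out.pos]
  exact ⟨by rw [add_sub_cancel]; positivity, by nlinarith [hp.out.pos]⟩

theorem tz_pw (ht : t.Coprime (Nat.card G)) : S.tz (pw t χ) = S.tz χ := by
  have h0 : (t : ZMod p) ≠ 0 := mt (ZMod.natCast_eq_zero_iff t p).1 fun k =>
    hp.out.ne_one (Nat.eq_one_of_dvd_coprimes ht k S.p_dvd)
  have h1 := Equiv.sum_comp (Equiv.mulLeft₀ _ h0) fun i => χ (S.zp i)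
  simp only [Equiv.mulLeft₀_apply, ← S.zp_pow] at h1
  rw [tz, tz, pw_deg, mu, mu, mul_left_cancel₀ (natCast_p_ne_zero (p := p))
    ((sum_zp_eq (pw t χ)).symm.trans (h1.trans (sum_zp_eq χ)))]

theorem reg_rel' {q : ℕ} (hq : ¬ q ∣ p) {s : Finset (G → ℂ)} (hs : s ⊆ irr ⊤) (h : ψ ∈ irr (⊤ : Subgroup G))
    {a : (G → ℂ) → ℤ} {b : ℤ} (e : ∀ g, ¬ q ∣ orderOf g → ∑ χ ∈ s, (a χ : ℂ) * χ g = b * ψ g) :
    ∑ χ ∈ s, a χ * S.tz χ = b * S.tz ψ := by
  apply Int.cast_injective (α := ℂ)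
  push_cast
  rw [Finset.sum_congr rfl fun χ k => by rw [S.coe_tz (hs k), Finset.mul_sum], Finset.sum_comm,
    S.coe_tz h, Finset.mul_sum]
  exact Finset.sum_congr rfl fun i hi => e _ (by rwa [S.orderOf_zp (Finset.ne_of_mem_erase hi)])

theorem tz_eq_be (h : χ ∈ irr (⊤ : Subgroup G)) (h1 : S.be χ ≠ 0 ∨ Nat.card S.K = 1) : S.tz χ = S.be χ := by
  have h2 := S.sum_A (zirr_of_irr h)
  apply Int.cast_injective (α := ℂ)
  refine mul_left_cancel₀ (card_ne_zero S.K) ?_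
  rw [← h2, S.coe_tz h, Finset.mul_sum]
  refine Finset.sum_congr rfl fun i hi => ?_
  rw [Finset.sum_congr rfl (g := fun _ => χ (S.zp i)) fun y hy => ?_, Finset.sum_const, card_els, nsmul_eq_mul]
  rcases h1 with h1 | h1
  · exact S.val_mul h (.inl h1) (S.orderOf_zp (Finset.ne_of_mem_erase hi)) (S.K_reg (mem_els.1 hy))
      (S.commute_zp (S.K_le_C (mem_els.1 hy)) i).symm
  · rw [(card_eq_one.1 h1).le (mem_els.1 hy), mul_one]

theorem dvd_sum {f : ZMod p → ℕ} (h : ∀ n ∈ S.N, ∀ i, f (i * S.act n) = f i) {a : ℕ} (ha : ∀ i, a ∣ f i) :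
    S.fi * a ∣ ∑ i ∈ Finset.univ.erase 0, f i := by
  classical
  obtain ⟨B, -⟩ := S.exists_pblk
  have h1 : ∀ ψ, ∃ n, a ∣ n ∧ ∀ j ≠ 0, B.ex j = ψ → f j = n := fun ψ => by
    by_cases k : ψ ∈ B.Y
    · obtain ⟨j, hj, rfl⟩ := B.mem_Y.1 k
      refine ⟨_, ha j, fun i hi e => ?_⟩
      obtain ⟨n, k1, rfl⟩ := rel_triv_iff.1 ((B.ex_eq_iff j hj i hi).1 e.symm)
      exact h n k1 j
    · exact ⟨0, dvd_zero _, fun j hj e => absurd (e ▸ B.ex_mem_Y hj) k⟩
  choose F h1 h2 using h1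
  rw [Finset.sum_congr rfl fun j hj => h2 _ j (Finset.ne_of_mem_erase hj) rfl, B.sum_ex, ei_triv]
  exact Nat.mul_dvd_mul_left _ (Finset.dvd_sum fun ψ _ => h1 ψ)

theorem isConj_act {n : G} (hn : n ∈ S.N) (i : ZMod p) : IsConj (S.zp i) (S.zp (i * S.act n)) :=
  isConj_iff.2 ⟨n, by rw [S.conj_zp hn, mul_comm]⟩

theorem tri_eq {q r : ℕ} [Fact q.Prime] [Fact r.Prime] (T : PSet q G) (U : PSet r G) : ∃ n : ℕ,
    ∑ χ ∈ irr ⊤, S.tz χ * T.tz χ * U.tz χ * (Nat.card G / charDegree χ : ℕ) =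
      (S.pa.nn * T.pa.nn * U.fi * n : ℕ) := by
  let c : G → G → G → ℕ := fun a b c => Nat.card {x : G × G // IsConj a x.1 ∧ IsConj b x.2 ∧ x.1 * x.2 = c}
  have h1 : ∀ a b d, (c a b d : ℂ) * Nat.card (centralizer ({a} : Set G)) * Nat.card (centralizer ({b} : Set G)) =
      ∑ χ ∈ irr ⊤, χ a * χ b * conj (χ d) * (Nat.card G / charDegree χ : ℕ) := fun a b d => by
    have k1 := congrArg (Nat.cast : ℕ → ℂ) (centralizer ({a} : Set G)).card_mul_index
    have k2 := congrArg (Nat.cast : ℕ → ℂ) (centralizer ({b} : Set G)).card_mul_index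
    have := card_ne_zero_complex (G := G)
    rw [card_class_mul_eq, ← sum_irr_top fun χ => χ a * χ b * conj (χ d) / χ 1,
      Finset.sum_congr (f := fun χ => χ a * χ b * conj (χ d) * (Nat.card G / charDegree χ : ℕ)) rfl
        (g := fun χ => Nat.card G * (χ a * χ b * conj (χ d) / χ 1)) fun χ k => by
        rw [Nat.cast_div (dvd_of_mem_dm (mem_dm.2 ⟨χ, k, rfl⟩)) (Nat.cast_ne_zero.2 (deg_pos k).ne'),
          coe_deg (isCh_of_irr k)]; ring, ← Finset.mul_sum, card_isConj_eq_index, card_isConj_eq_index]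
    push_cast at k1 k2
    generalize (∑ χ ∈ irr ⊤, χ a * χ b * conj (χ d) / χ 1) = x
    field_simp
    linear_combination x * (centralizer {b}).index * Nat.card (centralizer {b}) * k1 + x * Nat.card G * k2
  have h2 : ∀ {a a' b b' d d'}, IsConj a a' → IsConj b b' → IsConj d d' → c a' b' d' = c a b d :=
    fun {a a' b b' d d'} k1 k2 k3 => by
    obtain ⟨g, rfl⟩ := isConj_iff.1 k3
    refine Nat.card_congr (Equiv.subtypeEquiv ((MulAut.conj g).toEquiv.prodCongr (MulAut.conj g).toEquiv)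
      fun x => ?_).symm
    have k : ∀ {u u' y : G}, IsConj u u' → (IsConj u y ↔ IsConj u' (g * y * g⁻¹)) := fun k =>
      ⟨fun e => (k.symm.trans e).trans (isConj_iff.2 ⟨g, rfl⟩),
        fun e => (k.trans e).trans (isConj_iff.2 ⟨g, rfl⟩).symm⟩
    exact and_congr (k k1) (and_congr (k k2) (by simp))
  obtain ⟨n, hn⟩ := S.dvd_sum (f := fun i => ∑ j ∈ Finset.univ.erase 0, ∑ k ∈ Finset.univ.erase 0,
      c (S.zp i) (T.zp j) (U.zp k)) (fun n hn i => by simp only [h2 (S.isConj_act hn i) (.refl _) (.refl _)])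
    fun i => T.dvd_sum (fun n hn j => by simp only [h2 (.refl _) (T.isConj_act hn j) (.refl _)])
    fun j => U.dvd_sum (fun n hn k => h2 (.refl _) (.refl _) (U.isConj_act hn k)) fun k => one_dvd _
  refine ⟨n, Int.cast_injective (α := ℂ) ?_⟩
  rw [Int.cast_sum, Finset.sum_congr rfl (g := fun χ => ∑ i ∈ Finset.univ.erase 0, ∑ j ∈ Finset.univ.erase 0,
      ∑ k ∈ Finset.univ.erase 0, χ (S.zp i) * χ (T.zp j) * conj (χ (U.zp k)) *
        (Nat.card G / charDegree χ : ℕ)) fun χ k => by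
    simp only [← Finset.sum_mul, ← Finset.mul_sum, ← map_sum, ← coe_tz _ k, map_intCast, Int.cast_mul,
      Int.cast_natCast], Finset.sum_comm, Finset.sum_congr rfl fun i hi => by
    rw [Finset.sum_comm, Finset.sum_congr rfl fun j hj => by
      rw [Finset.sum_comm, Finset.sum_congr rfl fun k _ => by
        rw [← h1, S.card_cent' (S.orderOf_zp (Finset.ne_of_mem_erase hi)),
          T.card_cent' (T.orderOf_zp (Finset.ne_of_mem_erase hj))]]]]
  simp only [← Finset.sum_mul, ← Nat.cast_sum, hn, Par.nn, pa]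
  push_cast
  ring

open _root_.Classical in
/-- The characters of the complement belonging to a character. -/
noncomputable def bl (χ : G → ℂ) : Finset (G → ℂ) := (irr S.K).filter fun θ => ∃ j ≠ 0, S.bz χ θ j ≠ 0

theorem sum_wt : ∑ θ ∈ irr S.K, charDegree θ ^ 2 = Nat.card S.K := by
  have := sum_irr_one_sq' S.K
  rw [Finset.sum_congr rfl fun θ k => by rw [← coe_deg (isCh_of_irr k)]] at this
  exact_mod_cast this

theorem sum_orb (hθ : θ ∈ irr S.K) : ∑ θ' ∈ orb S.N θ, charDegree θ' ^ 2 =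
    (orb S.N θ).card * charDegree θ * charDegree θ := by
  rw [Finset.sum_congr rfl (g := fun _ => charDegree θ ^ 2) fun θ' k => by
    rw [charDegree, one_of_mem_orb k, charDegree], Finset.sum_const, smul_eq_mul, sq, mul_assoc]

theorem mem_opts (hθ : θ ∈ irr S.K) : ((orb S.N θ).card, charDegree θ) ∈ opts S.pa := by
  have h1 := ei_mul_card_orb hθ
  have h2 := fi_pos (S := S)
  have h3 := deg_pos hθ
  have h4 : charDegree θ ∣ Nat.card S.K := irr_one_dvd_card (mem_irr.1 hθ).2 (coe_deg (isCh_of_irr hθ)).symm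
  have h5 := S.sum_wt ▸ Finset.single_le_sum (f := fun θ => charDegree θ ^ 2) (fun _ _ => Nat.zero_le _) hθ
  have h6 := mem_upto (g := 1) (C := Nat.card S.K + 1) (Nat.card S.K) 1 (charDegree θ - 1)
  rw [mul_one, Nat.add_sub_cancel' h3] at h6
  simp only [opts, pa, List.mem_flatMap, List.mem_filter, List.mem_range, List.mem_map, Bool.and_eq_true,
    bne_iff_ne, beq_iff_eq, ← Nat.dvd_iff_mod_eq_zero]
  exact ⟨_, ⟨Nat.lt_succ_of_le (Nat.le_of_dvd h2 (Dvd.intro_left _ h1)), fun e => by simp [e] at h1; omega,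
    Dvd.intro_left _ h1⟩, _, ⟨h6 (by have := Nat.le_of_dvd Nat.card_pos h4; omega) (by omega), h4⟩, rfl⟩

variable {S}

namespace Blk

variable (B : S.Blk θ) (hθ : θ ∈ irr S.K)
include hθ

theorem bl_eq (h : χ ∈ B.all) : S.bl χ = orb S.N θ := Finset.ext fun θ' => by
  rw [bl, Finset.mem_filter]
  refine ⟨fun k => ?_, fun k => ?_⟩
  · obtain ⟨B'⟩ := nonempty_blk k.1
    exact B.mem_orb_of_mem_all hθ k.1 B' h (B'.mem_all_iff.2 ⟨B.all_irr h, k.2⟩)
  · have k' := orb_subset_irr S.N_le_normalizer_K hθ k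
    obtain ⟨B'⟩ := nonempty_blk k'
    exact ⟨k', (B'.mem_all_iff.1 (B.all_eq_of_mem_orb B' k ▸ h)).2⟩

theorem bl_iff (h : χ ∈ B.all) (h' : ψ ∈ irr (⊤ : Subgroup G)) : S.bl ψ = S.bl χ ↔ ψ ∈ B.all := by
  refine ⟨fun k => B.mem_all_iff.2 ⟨h', ?_⟩, fun k => by rw [B.bl_eq hθ h, B.bl_eq hθ k]⟩
  classical
  exact (Finset.mem_filter.1 (k.trans (B.bl_eq hθ h) ▸ self_mem_orb : θ ∈ S.bl ψ)).2

theorem div_eq : S.pa.e / (orb S.N θ).card = S.ei θ :=
  Nat.div_eq_of_eq_mul_left (Finset.card_pos.2 ⟨_, self_mem_orb⟩) (ei_mul_card_orb hθ).symm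

theorem nY_eq : nY S.pa (orb S.N θ).card = B.Y.card := by rw [nY, div_eq hθ, B.card_Y']; rfl

omit B in
theorem os_one' : S.os θ 1 = ((orb S.N θ).card * charDegree θ : ℕ) := by
  rw [os_one, Nat.cast_mul, coe_deg (isCh_of_irr hθ)]

omit B in
theorem okD_of (h : χ ∈ irr (⊤ : Subgroup G)) (h1 : S.tz χ ≠ 0)
    (h2 : charDegree χ ∣ S.C.index * ((orb S.N θ).card * charDegree θ)) {r : Row} (hr : r.1 = charDegree χ) :
    okD (Nat.card G) S.pa (orb S.N θ).card (charDegree θ) r (S.tz χ) = true := by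
  simpa [okD, pa, ← S.card_C, div_card, hr, h1, Nat.mod_eq_zero_of_dvd h2] using S.tz_le h

variable (h2 : p ≠ 2)
include h2

theorem X_facts (h : χ ∈ B.X) {r : Row} (hr : r.1 = charDegree χ) :
    sg p ((orb S.N θ).card * charDegree θ) r.1 = B.ε χ ∧
    S.tz χ = tX S.pa (orb S.N θ).card (charDegree θ) r ∧
    okX (Nat.card G) S.pa (orb S.N θ).card (charDegree θ) r = true := by
  have i := B.X_irr χ h
  have h1 := sg_eq hp.out h2 (B.not_dvd_degree hθ (B.mem_all.2 (.inl h)) (exists_degree i)) (B.ε_sign χ h)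
    (B.X_modEq hθ h (exists_degree i) (coe_deg (isCh_of_irr hθ)).symm)
  have h3 : ∀ i ≠ 0, χ (S.zp i) = (B.ε χ * ((orb S.N θ).card * charDegree θ : ℕ) : ℤ) := fun i hi => by
    rw [← mul_one (S.zp i), B.X_val hθ h hi S.K.one_mem, os_one' hθ]; simp
  have h4 : S.tz χ = tX S.pa (orb S.N θ).card (charDegree θ) r := Int.cast_injective (α := ℂ) (by
    rw [S.coe_tz i, Finset.sum_congr rfl fun i hi => h3 i (Finset.ne_of_mem_erase hi), Finset.sum_const,
      Finset.card_erase_of_mem (Finset.mem_univ _), Finset.card_univ, ZMod.card, tX, hr]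
    simp [pa, h1, mul_assoc])
  refine ⟨hr ▸ h1, h4, ?_⟩
  have h5 := Int.natCast_dvd.1 (deg_dvd_of_int i (S.zp_one ▸ h3 1 one_ne_zero))
  rw [okX, ← h4]
  refine okD_of hθ i ?_ ?_ hr
  · have := hp.out.two_le
    simp [h4, tX, hr, pa, h1, B.ε_ne_zero h, (deg_pos hθ).ne', Finset.ne_empty_of_mem self_mem_orb]
    omega
  · rcases B.ε_sign χ h with e | e <;> simpa [e, Int.natAbs_mul, centralizer_z] using h5

theorem Y_facts (h : χ ∈ B.Y) {r : Row} (hr : r.1 = charDegree χ) :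
    sg p (S.fi * charDegree θ) r.1 = B.δ ∧ S.tz χ = tY S.pa (charDegree θ) r ∧
    okD (Nat.card G) S.pa (orb S.N θ).card (charDegree θ) r (S.tz χ) = true := by
  have i := B.Y_irr h
  have h0 := B.deg_Y hθ h
  obtain ⟨j, hj, rfl⟩ := B.mem_Y.1 h
  have h1 := sg_eq hp.out h2 (B.not_dvd_degree hθ (B.mem_all.2 (.inr h)) (exists_degree i)) B.δ_sign
    (B.ex_modEq hθ hj (exists_degree i) (coe_deg (isCh_of_irr hθ)).symm)
  have h4 : S.tz (B.ex j) = tY S.pa (charDegree θ) r := Int.cast_injective (α := ℂ) (by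
    rw [S.coe_tz i, Finset.sum_congr rfl fun i hi => by
      rw [← mul_one (S.zp i), B.ex_val hθ hj (Finset.ne_of_mem_erase hi) S.K.one_mem, mul_one],
      ← Finset.mul_sum, sum_ind_pr _ hj, tY, hr]
    simp [pa, h1, coe_deg (isCh_of_irr hθ)])
  refine ⟨hr ▸ h1, h4, okD_of hθ i ?_ ?_ hr⟩
  · simp [h4, tY, hr, pa, h1, B.δ_ne_zero, (deg_pos hθ).ne', fi_pos.ne']
  have := IsIntegral.sum (R := ℤ) (s := B.Y) _ fun ψ h => isIntegral_omega (B.Y_irr h) S.z
  have h5 := B.sum_Y_val hθ one_ne_zero S.K.one_mem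
  rw [zp_one, mul_one, os_one' hθ] at h5
  rw [Finset.sum_congr rfl fun ψ h => by rw [B.deg_Y hθ h], ← Finset.sum_div,
    ← Finset.mul_sum, h5, centralizer_z] at this
  have := Char.int_dvd_of_isIntegral_div (a := S.C.index * -(B.δ * ((orb S.N θ).card * charDegree θ : ℕ)))
    (b := B.x) (Int.natCast_ne_zero.2 B.x_pos.ne') (by simpa using this)
  rcases B.δ_sign with e | e <;> simpa [e, h0, ← Int.natCast_dvd_natCast] using this

end Blk

end PSet

end CF.Small
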