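import Cfsg.Agent.Small.Cv2

/-!
# Covering the rows of a partial character table by blocks: correctness
-/

set_option autoImplicit false
set_option linter.unusedSectionVars false

namespace CF.Small.En

open Subgroup CF.BlockB Cfsg CF.PF Sv CF.Char CF.Small.PSet
open scoped ComplexConjugate

variable {G : Type*} [Group G] [Finite G] {χ ψ θ : G → ℂ} {F : (G → ℂ) → Row} {s : Finset (G → ℂ)}
  {C : Cfg} {W : List Row} {j : ℕ} {P : Par}

variable (F s) in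
/-- Rows and a set of characters invariant under the Galois group. -/
structure CS : Prop where
  sub : s ⊆ irr ⊤
  deg : ∀ χ, (F χ).1 = charDegree χ
  inv : ∀ χ ∈ irr (⊤ : Subgroup G), ∀ t, t.Coprime (Nat.card G) → F (pw t χ) = F χ
  cl : ∀ χ ∈ s, ∀ t, t.Coprime (Nat.card G) → pw t χ ∈ s

variable (F j P) in
/-- The column belongs to a Sylow subgroup of prime order. -/
def Col : Prop := ∃ x : BC G, x.S.pa = P ∧ ∀ χ ∈ irr (⊤ : Subgroup G), (F χ).at j = x.S.tz χ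

variable (F s) in
/-- The conditions on the rows outside. -/
def Out (Z js : List ℕ) : Prop :=
  ∀ χ ∈ irr (⊤ : Subgroup G), χ ∉ s → charDegree χ ∈ Z ∧ ∀ j ∈ js, (F χ).at j = 0

/-- The extended rows. -/
noncomputable def exF (x : BC G) (F : (G → ℂ) → Row) (χ : G → ℂ) : Row :=
  ext (mv x.p χ) (ext (x.S.tz χ) (F χ))

theorem CS.exF (h : CS F s) (x : BC G) : CS (exF x F) s :=
  ⟨h.sub, h.deg, fun χ k t ht => by rw [En.exF, mv_pw ht, x.S.tz_pw ht, h.inv χ k t ht, En.exF], h.cl⟩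

theorem CS.tz (h : CS F s) (x : BC G) : CS (fun χ => ext (x.S.tz χ) (F χ)) s :=
  ⟨h.sub, h.deg, fun χ k t ht => by rw [x.S.tz_pw ht, h.inv χ k t ht], h.cl⟩

theorem cs_rowF (cs : List (BC G)) (q : Row → Bool) : CS (rowF cs) ((irr ⊤).filter (q <| rowF cs ·)) :=
  have h := fun χ (k : χ ∈ irr ⊤) t ht => rowF_pow (cs := cs) ht k (pw_mem (t := t) k ht) fun _ => rfl
  ⟨Finset.filter_subset _ _, fun _ => rfl, h, fun χ k t ht => by
    rw [Finset.mem_filter] at k ⊢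
    exact ⟨pw_mem k.1 ht, h χ k.1 t ht ▸ k.2⟩⟩

theorem RS.ins {cs : List (BC G)} {fl : List Bool} (h : RS cs fl W) (q : Row → Bool)
    (hq : ∀ r, Zc fl r → q r = false) :
    ((irr ⊤).filter (q <| rowF cs ·)).val.map (rowF cs) = ↑(W.filter q) := by
  obtain ⟨s, h1, h2, h3⟩ := h
  rw [← map_filter h2]
  congr 2
  ext χ
  simp only [Finset.mem_filter, and_congr_left_iff]
  exact fun k => ⟨fun k' => not_not.1 fun e => by simp [hq _ (h3 χ k' e)] at k, fun k' => h1 k'⟩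

theorem mv_zero {p : ℕ} {c : ℂ} (h : ∀ g, p ∣ orderOf g → χ g = c) : mv p χ = 0 :=
  if_pos fun t ht => funext fun g => by
    by_cases k : p ∣ orderOf g
    · rw [pw, h g k, h _ (by rwa [(ht.1.symm.coprime_dvd_left (orderOf_dvd_natCard g)).orderOf_pow])]
    · rw [pw, ht.2 g k]

theorem tri_of (h : CS F s) (hW : s.val.map F = W) {L B : List (ℕ × Par)} (h1 : Col F 1 P)
    (hL : ∀ a ∈ L, Col F a.1 a.2)
    (hB : ∀ b ∈ B, Col F b.1 b.2 ∧ ∀ χ ∈ irr (⊤ : Subgroup G), χ ∉ s → (F χ).at b.1 = 0) :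
    tri (Nat.card G) P L B W = true := by
  simp only [tri, List.all_eq_true, frc_eq]
  intro a ha b hb
  obtain ⟨x, rfl, k1⟩ := h1
  obtain ⟨y, e2, k2⟩ := hL a ha
  obtain ⟨⟨z, e3, k3⟩, k4⟩ := hB b hb
  obtain ⟨n, hn⟩ := x.S.tri_eq y.S z.S
  rw [tsum_eq, ← sum_map_eq hW, Finset.sum_subset h.sub fun χ k k' => by rw [k4 χ k k', mul_zero, zero_mul],
    Finset.sum_congr rfl fun χ k => by rw [k1 χ k, k2 χ k, k3 χ k, h.deg], hn, ← e2, ← e3, ← Nat.cast_succ,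
    Int.toNat_natCast]
  simp [pa]

theorem Col.rel (h : Col F j P) {q : ℕ} (hq : ¬ q ∣ P.p) {X : Finset (G → ℂ)} (hX : X ⊆ irr ⊤)
    (hψ : ψ ∈ irr (⊤ : Subgroup G)) {a : (G → ℂ) → ℤ} {b : ℤ}
    (e : ∀ g, ¬ q ∣ orderOf g → ∑ χ ∈ X, (a χ : ℂ) * χ g = b * ψ g) :
    ∑ χ ∈ X, a χ * (F χ).at j = b * (F ψ).at j := by
  obtain ⟨x, rfl, k⟩ := h
  rw [k ψ hψ, ← x.S.reg_rel' hq hX hψ e]
  exact Finset.sum_congr rfl fun χ h => by rw [k χ (hX h)]

theorem deg_rel {q : ℕ} (hq : q ≠ 1) {X : Finset (G → ℂ)} (hX : X ⊆ irr ⊤)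
    (hψ : ψ ∈ irr (⊤ : Subgroup G)) {a : (G → ℂ) → ℤ} {b : ℤ}
    (e : ∀ g, ¬ q ∣ orderOf g → ∑ χ ∈ X, (a χ : ℂ) * χ g = b * ψ g) :
    ∑ χ ∈ X, a χ * charDegree χ = b * charDegree ψ := by
  have := e 1 (by simpa using hq)
  rw [Finset.sum_congr rfl fun χ h => by rw [← coe_deg (isCh_of_irr (hX h))], ← coe_deg (isCh_of_irr hψ)] at this
  exact_mod_cast this

open _root_.Classical in
theorem lf_of (hC : C.ok = true) {o f : ℕ} (hp : P.p.Prime) (h : CS F s) (ho : Out F s C.Z C.js)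
    (hc : ∀ j ∈ C.js, ∃ Q : Par, ¬ P.p ∣ Q.p ∧ Col F j Q) {X : Finset (G → ℂ)} (hX : X ⊆ irr ⊤)
    (h1 : X.card = nX P o) (h2 : X.card ≤ P.p) (h3 : ∀ χ ∈ X, sg P.p (o * f) (charDegree χ) ≠ 0) {b : ℤ}
    (hψ : ψ ∈ irr (⊤ : Subgroup G))
    (e : ∀ g, ¬ P.p ∣ orderOf g → ∑ χ ∈ X, (sg P.p (o * f) (charDegree χ) : ℂ) * χ g = b * ψ g)
    {rh : ℕ → ℤ} {ts : List ℤ} (hr : ∀ j ∈ C.js, rh j = b * (F ψ).at j) (ht : b * charDegree ψ ∈ ts)
    {ch : List Row} (hch : (X ∩ s).val.map F = ch) : lf P C (mkT C P.p) o f rh ts ch = true := by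
  simp only [lf, Bool.and_eq_true, List.all_eq_true, List.any_eq_true, beq_iff_eq, lin_eq, ← sum_map_eq hch, h.deg]
  refine ⟨fun j k => ?_, _, ht, ?_⟩
  · obtain ⟨Q, k1, k2⟩ := hc j k
    rw [hr j k, ← k2.rel k1 hX hψ e]
    exact Finset.sum_subset Finset.inter_subset_left fun χ e e' => by
      rw [(ho χ (hX e) (by simpa [e] using e')).2 j k, mul_zero]
  · have := hit_of hC hp.ne_zero (m := o * f) ((X \ s).val.map charDegree)
      (by rw [Multiset.card_map]; exact (Finset.card_le_card Finset.sdiff_subset).trans h2) fun d k => by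
        obtain ⟨χ, k', rfl⟩ := Multiset.mem_map.1 k
        have := Finset.mem_sdiff.1 k'
        exact ⟨(ho χ (hX this.1) this.2).1, h3 χ this.1⟩
    rw [← deg_rel hp.ne_one hX hψ e, ← Finset.sum_inter_add_sum_sdiff X s, add_sub_cancel_left, ← h1,
      ← Finset.card_inter_add_card_sdiff X s, ← Multiset.coe_card, ← hch, Multiset.card_map, Finset.card_val,
      Nat.add_sub_cancel_left]
    rwa [Multiset.card_map, Multiset.map_map] at this

variable (x : BC G)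

open _root_.Classical in
theorem good (hC : C.ok = true) (h : CS F s) (ho : Out F s C.Z C.js)
    (hc : ∀ j ∈ C.js, ∃ Q : Par, ¬ x.p ∣ Q.p ∧ Col F j Q) (hθ : θ ∈ irr x.S.K) (B : x.S.Blk θ) :
    Good (Nat.card G) x.S.pa C (mkT C x.p) (orb x.S.N θ).card (charDegree θ)
      ((B.all ∩ s).val.map F) ((B.all ∩ s).val.map (exF x F)) := by
  have hp := x.hp.out
  have fX := fun χ (k : χ ∈ B.X) => B.X_facts hθ x.h2 k (h.deg χ)
  have fY := fun χ (k : χ ∈ B.Y) => B.Y_facts hθ x.h2 k (h.deg χ)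
  have sX : ∀ χ ∈ B.X, sg x.S.pa.p ((orb x.S.N θ).card * charDegree θ) (charDegree χ) = B.ε χ :=
    fun χ k => h.deg χ ▸ (fX χ k).1
  have mX : ∀ χ ∈ B.X, mv x.p χ = 0 := fun χ k => if_pos fun s hs => B.pow_X hθ k hs
  have y1 := B.ex_mem_Y (one_ne_zero (α := ZMod x.p))
  have rl := fun g => B.reg_rel hθ (one_ne_zero (α := ZMod x.p)) (g := g)
  have cY := B.card_Y
  have key : ∀ X : Finset (G → ℂ), X ⊆ irr ⊤ → X.card = nX x.S.pa (orb x.S.N θ).card →
      (∀ χ ∈ X, mv x.p χ = 0 ∧ x.S.tz χ = tX x.S.pa (orb x.S.N θ).card (charDegree θ) (F χ) ∧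
        okX (Nat.card G) x.S.pa (orb x.S.N θ).card (charDegree θ) (F χ) = true) →
      ((X ∩ s).val.map F).card ≤ nX x.S.pa (orb x.S.N θ).card ∧ (∀ r ∈ (X ∩ s).val.map F,
        okX (Nat.card G) x.S.pa (orb x.S.N θ).card (charDegree θ) r = true ∧ r.1 ≠ 0) ∧
      (X ∩ s).val.map (exF x F) = ((X ∩ s).val.map F).map (exX x.S.pa (orb x.S.N θ).card (charDegree θ)) :=
    fun X k1 k2 k3 => ⟨by rw [Multiset.card_map, ← k2]; exact Finset.card_le_card Finset.inter_subset_left,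
      fun r k => by
      obtain ⟨χ, k', rfl⟩ := Multiset.mem_map.1 k
      have := (Finset.mem_inter.1 k').1
      exact ⟨(k3 χ this).2.2, h.deg χ ▸ (deg_pos (k1 this)).ne'⟩, by
      rw [Multiset.map_map]
      exact Multiset.map_congr rfl fun χ k => by
        have := k3 χ (Finset.mem_inter.1 k).1
        rw [exF, this.1, this.2.1]; rfl⟩
  cases e : one x.S.pa (orb x.S.N θ).card
  · have e1 : x.S.ei θ + 1 ≠ x.S.pa.p := by simpa [one, Blk.div_eq hθ] using e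
    have c1 : B.X.card = nX x.S.pa (orb x.S.N θ).card := by rw [nX, e, Blk.div_eq hθ, B.card_X]; rfl
    obtain ⟨k1, k2, k3⟩ := key B.X B.X_irr c1 fun χ k => ⟨mX χ k, (fX χ k).2⟩
    have k4 := fun rh ts => lf_of (P := x.S.pa) (f := charDegree θ) (rh := rh) (ts := ts) hC hp h ho hc B.X_irr c1
      (by rw [B.card_X]; exact (Nat.le_of_dvd (Nat.sub_pos_of_lt hp.one_lt) B.ei_dvd).trans (Nat.sub_le _ _))
      (fun χ k => sX χ k ▸ B.ε_ne_zero k) (B.Y_irr y1)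
      (fun g hg => (Finset.sum_congr rfl fun χ k => by rw [sX χ k]).trans (rl g hg))
    have gl : ∀ j ≠ 0, ∀ i ≠ 0, ∃ t, Adm x.p G t ∧ pw t (B.ex j) = B.ex i := fun j hj i hi => by
      obtain ⟨t, k5, k6⟩ := x.S.exists_adm (mul_ne_zero (inv_ne_zero hj) hi)
      exact ⟨t, k5, (B.pow_ex hθ hj k5).trans (by rw [k6, mul_inv_cancel_left₀ hj])⟩
    have k5 := fY _ y1
    refine ⟨_, k1, k2, ?_⟩
    by_cases e2 : B.ex 1 ∈ s
    · have k6 : ∀ ψ ∈ B.Y, ψ ∈ s ∧ F ψ = F (B.ex 1) := fun ψ k => by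
        obtain ⟨j, hj, rfl⟩ := B.mem_Y.1 k
        obtain ⟨t, k7, k8⟩ := gl 1 one_ne_zero j hj
        exact k8 ▸ ⟨h.cl _ e2 t k7.1, h.inv _ (B.Y_irr y1) t k7.1⟩
      have k7 : (B.all ∩ s).val = B.Y.val + (B.X ∩ s).val := by
        rw [← Finset.disjUnion_val _ _ (B.disjoint.symm.mono_right Finset.inter_subset_left)]
        congr 1
        ext ψ
        have := k6 ψ
        simp only [Finset.mem_inter, B.mem_all, Finset.mem_disjUnion]
        tauto
      refine .inr ⟨F (B.ex 1), by rw [okY, e, ← k5.2.1, k5.2.2]; rfl, B.nY_eq hθ ▸ B.card_Y_pos.ne', ?_, ?_,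
        fun ch k => k4 _ _ (fun j _ => by rw [← k5.1]; rfl) (by rw [← k5.1, h.deg]; exact List.mem_singleton_self _) k⟩
      · rw [k7, Multiset.map_add, B.nY_eq hθ,
          (Multiset.eq_replicate (s := B.Y.val.map F) (n := B.Y.card)).2
            ⟨by simp, by simpa using fun ψ k => (k6 ψ k).2⟩]
      · rw [k7, Multiset.map_add, k3, B.nY_eq hθ, (Multiset.eq_replicate (s := B.Y.val.map (exF x F))
          (n := B.Y.card) (a := exY x.S.pa (charDegree θ) (F (B.ex 1)))).2 ⟨by simp, ?_⟩]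
        simp only [Multiset.mem_map, Finset.mem_val, forall_exists_index, and_imp, forall_apply_eq_imp_iff₂]
        intro ψ k
        rw [exF, (fY ψ k).2.1, (k6 ψ k).2, mv, if_neg, exY]
        intro k8
        refine e1 (Nat.eq_add_of_sub_eq hp.one_le ?_).symm
        rw [← cY, Finset.card_eq_one.2 ⟨ψ, Finset.eq_singleton_iff_unique_mem.2 ⟨k, fun φ k' => ?_⟩⟩, one_mul]
        obtain ⟨j, hj, rfl⟩ := B.mem_Y.1 k
        obtain ⟨i, hi, rfl⟩ := B.mem_Y.1 k'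
        obtain ⟨t, k9, k10⟩ := gl j hj i hi
        rw [← k10, k8 t k9]
    · have k7 : B.all ∩ s = B.X ∩ s := by
        ext ψ
        simp only [Finset.mem_inter, B.mem_all, and_congr_left_iff, or_iff_left_iff_imp]
        intro k k'
        obtain ⟨j, hj, rfl⟩ := B.mem_Y.1 k'
        obtain ⟨t, k7, k8⟩ := gl j hj 1 one_ne_zero
        exact absurd (k8 ▸ h.cl _ k t k7.1) e2
      have k8 := ho _ (B.Y_irr y1) e2
      refine .inl ⟨by rw [k7], by rw [k7, k3], fun ch k => k4 _ _ (fun j k => by rw [k8.2 j k, mul_zero]) ?_ k⟩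
      rw [h.deg] at k5
      rw [e, cond_false, ← k5.1]
      exact List.mem_map.2 ⟨_, List.mem_filter.2 ⟨k8.1, bne_iff_ne.2 (k5.1 ▸ B.δ_ne_zero)⟩, rfl⟩
  · have e1 : x.S.ei θ = x.p - 1 :=
      Nat.eq_sub_of_add_eq (show _ = x.S.pa.p by simpa [one, Blk.div_eq hθ] using e)
    have e2 := ei_mul_card_orb hθ
    have e3 : (orb x.S.N θ).card = 1 := Nat.dvd_one.1 (Nat.dvd_of_mul_dvd_mul_left
      (Nat.sub_pos_of_lt hp.one_lt) (by rw [mul_one, ← e1, e2, e1]; exact fi_dvd))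
    have e4 : B.Y = {B.ex 1} := Finset.eq_singleton_iff_unique_mem.2 ⟨y1, fun ψ k => Finset.card_le_one.1
      (Nat.eq_of_mul_eq_mul_right (ei_pos θ) (cY.trans (by rw [one_mul, e1]))).le _ k _ y1⟩
    have c1 : B.all.card = x.p := by
      rw [B.card_all, e1, Nat.div_self (Nat.sub_pos_of_lt hp.one_lt), Nat.sub_add_cancel hp.one_le]
    have c2 : B.all.card = nX x.S.pa (orb x.S.N θ).card := by rw [nX, e, c1]; rfl
    have k5 := fY _ y1
    have k6 : sg x.S.pa.p ((orb x.S.N θ).card * charDegree θ) (charDegree (B.ex 1)) = -B.δ :=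
      sg_eq hp x.h2 (B.not_dvd_degree hθ (B.mem_all.2 (.inr y1)) (exists_degree (B.Y_irr y1)))
        (by have := B.δ_sign; omega) ((B.ex_modEq hθ one_ne_zero (exists_degree (B.Y_irr y1))
          (coe_deg (isCh_of_irr hθ)).symm).trans (Int.modEq_iff_dvd.2 ⟨-B.δ * charDegree θ, by
            rw [← e2, e1, e3]; push_cast [Nat.cast_pred hp.pos]; ring⟩))
    have k7 : x.S.tz (B.ex 1) = tX x.S.pa (orb x.S.N θ).card (charDegree θ) (F (B.ex 1)) := by
      rw [k5.2.1, tY, tX, show sg x.S.pa.p (x.S.pa.e * _) _ = _ from k5.1, h.deg, k6,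
        show x.S.pa.e = _ from e2.symm, e1, e3]
      simp [pa]; ring
    obtain ⟨k1, k2, k3⟩ := key B.all (fun _ => B.all_irr) c2 fun χ k => by
      rcases B.mem_all.1 k with k | k
      · exact ⟨mX χ k, (fX χ k).2⟩
      obtain rfl := Finset.mem_singleton.1 (e4 ▸ k)
      exact ⟨if_pos fun t ht => (B.pow_ex hθ one_ne_zero ht).trans (Finset.mem_singleton.1 (e4 ▸ B.ex_mem_Y
        (mul_ne_zero one_ne_zero (x.S.natCast_ne_zero_of_adm ht)))), k7, by rw [okX, ← k7, k5.2.2]⟩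
    refine ⟨_, k1, k2, .inl ⟨rfl, k3, fun ch k => lf_of (P := x.S.pa) hC hp h ho hc (fun _ => B.all_irr) c2 c1.le
      (fun χ k => ?_) (b := 0) (B.Y_irr y1) (fun g hg => ?_) (by simp) (by simp [e]) k⟩⟩
    · rcases B.mem_all.1 k with k | k
      · exact sX χ k ▸ B.ε_ne_zero k
      · rw [show χ = _ from Finset.mem_singleton.1 (e4 ▸ k), k6]; exact neg_ne_zero.2 B.δ_ne_zero
    · rw [show B.all = B.X ∪ B.Y from Finset.ext fun _ => by simp [B.mem_all], Finset.sum_union B.disjoint, e4,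
        Finset.sum_singleton, k6,
        Finset.sum_congr rfl fun χ k => by rw [sX χ k], rl g hg]
      simp

theorem CS.cover (h : CS F s) (hW : s.val.map F = W) (hC : C.ok = true) (ho : Out F s C.Z C.js)
    (hc : ∀ j ∈ C.js, ∃ Q : Par, ¬ x.p ∣ Q.p ∧ Col F j Q) {pr : List Row} {w : ℕ}
    (hp : pr = [] ∧ w = x.S.pa.c ∨ w = x.S.pa.c - 1 ∧ (s.filter (x.S.be · ≠ 0)).val.map (En.exF x F) = pr)
    {b : Bool} {k : List Row → Bool} (hk : cover (Nat.card G) x.S.pa C (mkT C x.p) pr w b k W = true) :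
    ∃ W' : List Row, s.val.map (En.exF x F) = W' ∧ k W' = true := by
  classical
  have h1 : ∀ a ∈ s.filter fun a => (F a).1 % x.S.pa.p ≠ 0, ∃ θ ∈ irr x.S.K, ∃ B : x.S.Blk θ, a ∈ B.all :=
    fun a k => exists_blk_of_not_dvd (h.sub (Finset.mem_filter.1 k).1) (exists_degree (h.sub (Finset.mem_filter.1 k).1))
      (h.deg a ▸ mt Nat.mod_eq_zero_of_dvd (Finset.mem_filter.1 k).2)
  have h2 : ∀ θ ∈ irr x.S.K, ∀ B : x.S.Blk θ, ∀ a ∈ B.all, (F a).1 % x.S.pa.p ≠ 0 := fun θ k B a k' =>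
    h.deg a ▸ mt Nat.dvd_of_mod_eq_zero (B.not_dvd_degree k k' (exists_degree (B.all_irr k')))
  obtain ⟨U, h3, h4⟩ : ∃ U : Finset (G → ℂ), ∑ θ ∈ U, charDegree θ ^ 2 ≤ w ∧ (((s.filter fun a =>
      (F a).1 % x.S.pa.p ≠ 0).filter (¬ x.S.bl · ⊆ U)).val.map (En.exF x F)) = pr := by
    rcases hp with ⟨rfl, rfl⟩ | ⟨rfl, e⟩
    · exact ⟨_, x.S.sum_wt.le, by
        rw [Finset.filter_false_of_mem (p := (¬ x.S.bl · ⊆ _)) fun a _ => not_not.2 (Finset.filter_subset _ _)]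
        rfl⟩
    obtain ⟨B, -⟩ := x.S.exists_pblk
    refine ⟨(irr x.S.K).erase (triv x.S.K), Nat.le_sub_of_add_le ?_, ?_⟩
    · rw [pa, ← x.S.sum_wt, ← Finset.sum_erase_add _ _ (triv_mem_irr _), deg_triv, one_pow]
    rw [← e]
    congr 2
    ext a
    simp only [Finset.mem_filter, and_assoc, and_congr_right_iff, Finset.subset_erase,
      show x.S.bl a ⊆ _ from Finset.filter_subset _ _, true_and, not_not]
    refine fun k => ⟨fun k' => B.sum_bz_ne_zero (B.mem_all_iff.2 ⟨h.sub k, (Finset.mem_filter.1 k'.2).2⟩),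
      fun k' => ?_⟩
    have := B.mem_all_of_be (h.sub k) k'
    exact ⟨h2 _ (triv_mem_irr _) B a this, B.bl_eq (triv_mem_irr _) this ▸ self_mem_orb⟩
  refine cover_of hW rfl (fun _ => rfl) (fun a k e => ?_) h4 h3 (fun a k b k' e => ?_) (fun a k => ?_) hk
  · have := fun g => val_zero (h.sub k) x.S.nsq (h.deg a ▸ Nat.dvd_of_mod_eq_zero e) (g := g)
    rw [En.exF, mv_zero this, show x.S.tz a = 0 from Int.cast_injective (α := ℂ) (by
      rw [x.S.coe_tz (h.sub k), Finset.sum_eq_zero fun i hi =>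
        this _ (x.S.orderOf_zp (Finset.ne_of_mem_erase hi)).symm.dvd, Int.cast_zero])]
  · obtain ⟨θ, k1, B, k2⟩ := h1 a k
    obtain ⟨θ', k3, B', k4⟩ := h1 b k'
    rw [B.bl_eq k1 k2, B'.bl_eq k3 k4] at e ⊢
    exact Finset.disjoint_left.2 fun c k5 k6 => e ((orb_eq_of_mem k5).symm.trans (orb_eq_of_mem k6))
  · obtain ⟨θ, k1, B, k2⟩ := h1 a k
    refine ⟨_, x.S.mem_opts k1, by rw [B.bl_eq k1 k2, x.S.sum_orb k1], ?_⟩
    rw [show Finset.filter _ _ = B.all ∩ s from Finset.ext fun b => by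
      simp only [Finset.mem_filter, Finset.mem_inter]
      exact ⟨fun e => ⟨(B.bl_iff k1 k2 (h.sub e.1.1)).1 e.2, e.1.1⟩,
        fun e => ⟨⟨e.2, h2 θ k1 B b e.1⟩, (B.bl_iff k1 k2 (h.sub e.2)).2 e.1⟩⟩]
    exact good x hC h ho hc k1 B

end CF.Small.En
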