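import Cfsg.Agent.Small.Cv3
import Cfsg.Agent.Block.Cyc3

/-!
# Covering the rows of a partial character table by `3`-blocks of defect one
-/

set_option autoImplicit false
set_option linter.unusedSectionVars false

namespace CF.Small.En

open Subgroup CF.BlockB Cfsg CF.PF Sv CF.Char
open scoped ComplexConjugate

variable {G : Type*} [Group G] [Finite G] {χ ψ : G → ℂ} {F : (G → ℂ) → Row} {s : Finset (G → ℂ)}
  {W : List Row} {M : Ideal AlgInt}

theorem three_block (hM : IsPModular 3 M) (h3 : (Nat.card G).factorization 3 = 3) (χ : IrrCharacter G)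
    (h : (charDegree (χ : G → ℂ)).factorization 3 = 2) : ∃ a b c : IrrCharacter G,
      blockOf M (χ : G → ℂ) = {a, b, c} ∧ a ≠ b ∧ a ≠ c ∧ b ≠ c ∧
      (∀ ψ ∈ blockOf M (χ : G → ℂ), (charDegree (ψ : G → ℂ)).factorization 3 = 2) ∧
      ((∀ g, ¬ 3 ∣ orderOf g → (a : G → ℂ) g = (c : G → ℂ) g ∧ (b : G → ℂ) g = (c : G → ℂ) g) ∨
        ∀ g, ¬ 3 ∣ orderOf g → (a : G → ℂ) g + (b : G → ℂ) g = (c : G → ℂ) g) := by
  classical
  have := Fintype.ofFinite G
  have := Fact.mk Nat.prime_three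
  have := charP_k hM
  have hB : IsPBlock M (blockOf M (χ : G → ℂ)) := ⟨χ, rfl⟩
  have h1 := mem_blockOf_self hM χ
  have h2 := minExp_le (p := 3) h1
  have h4 := height_add_two_le hM hB h1
  rw [blockHeight_eq, blockDefect_eq, h, h3] at h4
  generalize blockOf M (χ : G → ℂ) = B at *
  have h5 : minExp 3 B = 2 := by omega
  obtain ⟨P, e, he⟩ := Block.exists_maxPair hM hB
  have h6 := card_defectGroup hM hB ((Block.isDefectGroup_iff hM hB P).2 he.isDefGrp)
  rw [blockDefect_eq, h3, h5] at h6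
  have hP : P ≠ ⊥ := by rintro rfl; simp at h6
  have hF := Block.fS_of_cyc hM hB he (isCyclic_of_prime_card (p := 3) h6)
  obtain ⟨w, ζ, c, δ, k, hc⟩ := hF.exists_fD_cyc (isCyclic_of_prime_card (p := 3) h6) hP
  have k1 := k.card_FX.trans (k.rank_eq hP hc)
  have k2 := k.card_FY
  have k3 := hF.dvd_sub_one
  have k4 := fun η hη g hg => k.relation (η := η) hη (g := g) hg
  have k5 := (Set.sdiff_union_of_subset k.FY_subset).symm
  have k6 : ∀ ψ ∈ B, (charDegree (ψ : G → ℂ)).factorization 3 = 2 := fun ψ e =>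
    h5 ▸ (height_zero_iff e).1 (k.height_zero hP hc e)
  have k7 : ∀ ψ : IrrCharacter G, ∃ n : ℕ, 0 < n ∧ (ψ : G → ℂ) 1 = n := fun ψ => irr_one_nat (coe_mem_irr_top ψ)
  have k8 := k.sign
  have k9 : ∀ x ∈ B \ Block.FY ζ, ∀ y ∈ Block.FY ζ, x ≠ y := fun x e y e' e'' => e.2 (e'' ▸ e')
  rw [h6, Nat.card_coe_set_eq] at k2
  rw [Nat.card_coe_set_eq] at k1
  rw [h6] at k3
  simp only [Int.cast_zero, mul_zero, zero_sub] at k4
  rcases (Nat.dvd_prime Nat.prime_two).1 k3 with e | e <;> rw [e] at k1 k2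
  · obtain ⟨x, e1⟩ := Set.ncard_eq_one.1 k1
    obtain ⟨y, z, e2, e3⟩ := Set.ncard_eq_two.1 k2
    rw [e1, e3] at k5 k9 k4
    simp only [finsum_mem_singleton] at k4
    simp only [Set.mem_insert_iff, Set.mem_singleton_iff, forall_eq_or_imp, forall_eq] at k4 k9
    refine ⟨y, z, x, by rw [k5]; grind, e2, k9.1.symm, k9.2.symm, k6, .inl fun g hg => ?_⟩
    obtain ⟨n, n0, hn⟩ := k7 x
    obtain ⟨m, m0, hm⟩ := k7 y
    have e4 := k4.1 1 (by simp)
    rw [hn, hm] at e4
    have e5 : (δ : ℂ) = c x := by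
      norm_cast at e4 ⊢
      have := hc x (e1 ▸ rfl)
      rcases k8 with rfl | rfl <;> rcases this with e | e <;> rw [e] at e4 ⊢ <;> omega
    have e6 : (δ : ℂ) ≠ 0 := by rcases k8 with rfl | rfl <;> simp
    exact ⟨mul_left_cancel₀ e6 (by linear_combination -k4.1 g hg - (x : G → ℂ) g * e5),
      mul_left_cancel₀ e6 (by linear_combination -k4.2 g hg - (x : G → ℂ) g * e5)⟩
  · obtain ⟨x, y, e1, e2⟩ := Set.ncard_eq_two.1 k1
    obtain ⟨z, e3⟩ := Set.ncard_eq_one.1 k2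
    rw [e2, e3] at k5 k9 k4
    rw [e2] at hc
    simp only [finsum_mem_pair e1] at k4
    simp only [Set.mem_insert_iff, Set.mem_singleton_iff, forall_eq_or_imp, forall_eq] at k4 k9 hc
    obtain ⟨n, n0, hn⟩ := k7 x
    obtain ⟨m, m0, hm⟩ := k7 y
    obtain ⟨l, l0, hl⟩ := k7 z
    have e4 := k4 1 (by simp)
    rw [hn, hm, hl] at e4
    norm_cast at e4
    rcases k8 with rfl | rfl <;> rcases hc with ⟨e5 | e5, e6 | e6⟩ <;> rw [e5, e6] at e4 <;>
      first
      | omega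
      | exact ⟨x, y, z, by rw [k5]; grind, e1, k9.1, k9.2, k6, .inr fun g hg => by
          have := k4 g hg; rw [e5, e6] at this; push_cast at this
          first | linear_combination this | linear_combination -this⟩
      | exact ⟨x, z, y, by rw [k5]; grind, k9.1, e1, k9.2.symm, k6, .inr fun g hg => by
          have := k4 g hg; rw [e5, e6] at this; push_cast at this
          first | linear_combination this | linear_combination -this⟩
      | exact ⟨y, z, x, by rw [k5]; grind, k9.2, e1.symm, k9.1.symm, k6, .inr fun g hg => by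
          have := k4 g hg; rw [e5, e6] at this; push_cast at this
          first | linear_combination this | linear_combination -this⟩

theorem sameBlock_pw {t : ℕ} (ht : t.Coprime (Nat.card G)) (h : SameBlock M χ ψ) :
    SameBlock M (pw t χ) (pw t ψ) := fun g => by
  obtain ⟨m, hm⟩ := exists_pow_eq_self_of_coprime (ht.coprime_dvd_right (orderOf_dvd_natCard g))
  have : centralizer ({g} : Set G) = centralizer {g ^ t} := by
    ext x
    simp only [mem_centralizer_singleton_iff]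
    exact ⟨fun k => Commute.pow_right k t, fun k => hm ▸ Commute.pow_right k m⟩
  simpa [centralChar, pw, this] using h (g ^ t)

theorem isv_iff {d : ℕ} (h : d ≠ 0) : isv d = true ↔ d.factorization 3 = 2 := by
  have h1 := Nat.prime_three.pow_dvd_iff_le_factorization (k := 2) h
  have h2 := Nat.prime_three.pow_dvd_iff_le_factorization (k := 3) h
  simp only [isv, Bool.and_eq_true, beq_iff_eq, bne_iff_ne, ne_eq, ← Nat.dvd_iff_mod_eq_zero]
  norm_num at h1 h2
  omega

theorem CS.no3 (h : CS F s) (hW : s.val.map F = W) (h3 : (Nat.card G).factorization 3 = 3) {C : Cfg}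
    {zs : List ℕ} (ho : Out F s C.Z zs) (hz : zs ⊆ C.js) (hc : ∀ j ∈ C.js, ∃ Q : Par, ¬ 3 ∣ Q.p ∧ Col F j Q)
    {p : ℕ} {fx mk : Row → Bool} (hf : ∀ χ ∈ s, fx (F χ) = true → mv p χ = 0)
    (hm : ∀ χ ∈ s, mk (F χ) = true → mv p χ ≠ 0) : no3 C zs fx mk W ≠ true := by
  classical
  obtain ⟨M, hM⟩ := exists_isPModular Nat.prime_three
  refine cov3_of (s := s.filter fun a => isv (F a).1) (β := fun a => sb M a (irr ⊤)) (fun a k k0 => ?_)
    (fun a k => h.deg a ▸ (deg_pos (h.sub (Finset.mem_filter.1 k).1)).ne') _ _ _ subset_rfl (fun _ _ _ k _ => k)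
    ((map_filter hW fun r => isv r.1).trans (Multiset.coe_eq_coe.2 (List.perm_insertionSort _ _).symm))
  obtain ⟨k, k'⟩ := Finset.mem_filter.1 k
  have i := h.sub k
  obtain ⟨⟨x, ix⟩, ⟨y, iy⟩, ⟨z, iz⟩, e1, e2, e3, e4, e5, e6⟩ := three_block hM h3 ⟨a, mem_irr_top.1 i⟩
    ((isv_iff (deg_pos i).ne').1 (h.deg a ▸ k'))
  have e7 : ∀ b, b ∈ irr ⊤ ∧ SameBlock M a b ↔ b = x ∨ b = y ∨ b = z := fun b =>
    ⟨fun e => by simpa [Subtype.ext_iff] using (Set.ext_iff.1 e1 ⟨b, mem_irr_top.1 e.1⟩).1 e.2, by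
      rintro (rfl | rfl | rfl) <;> exact ⟨mem_irr_top.2 ‹_›, (Set.ext_iff.1 e1 ⟨_, ‹_›⟩).2 (by simp)⟩⟩
  have e8 : ∀ b, b = x ∨ b = y ∨ b = z → isv (charDegree b) = true := fun b e =>
    have := (e7 b).2 e
    (isv_iff (deg_pos this.1).ne').2 (e5 ⟨b, mem_irr_top.1 this.1⟩ this.2)
  rw [show Finset.filter _ _ = {x, y, z} ∩ s from Finset.ext fun b => by
    simp only [Finset.mem_filter, Finset.mem_inter, Finset.mem_insert, Finset.mem_singleton, h.deg]
    refine ⟨fun e => ⟨(e7 b).1 (mem_sb.1 (e.2 ▸ mem_sb.2 ⟨h.sub e.1.1, sameBlock_self hM (h.sub e.1.1)⟩)), e.1.1⟩,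
      fun e => ⟨⟨e.2, e8 b e.1⟩, Finset.ext fun c => ?_⟩⟩
    have := ((e7 b).2 e.1).2
    have i' := mem_irr_top.1 (h.sub e.2)
    simp only [mem_sb, and_congr_right_iff]
    exact fun i'' => ⟨sameBlock_trans hM (mem_irr_top.1 i) i' (mem_irr_top.1 i'') this,
      sameBlock_trans hM i' (mem_irr_top.1 i) (mem_irr_top.1 i'') (sameBlock_symm hM (mem_irr_top.1 i) i' this)⟩]
  refine ⟨(Finset.card_le_card Finset.inter_subset_left).trans Finset.card_le_three, fun L hL => ?_⟩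
  rw [← mem_irr_top] at ix iy iz
  simp only [ne_eq, Subtype.mk.injEq] at e2 e3 e4 e6
  have r0 := (e7 a).1 ⟨i, sameBlock_self hM i⟩
  have r1 : ∀ v : (G → ℂ) → ℤ, (∀ {X : Finset (G → ℂ)}, X ⊆ irr ⊤ → ∀ {a : (G → ℂ) → ℤ},
      (∀ g, ¬ 3 ∣ orderOf g → ∑ χ ∈ X, (a χ : ℂ) * χ g = (1 : ℤ) * z g) → ∑ χ ∈ X, a χ * v χ = 1 * v z) →
      ((∀ g, ¬ 3 ∣ orderOf g → x g = z g ∧ y g = z g) → v x = v z ∧ v y = v z) ∧
      ((∀ g, ¬ 3 ∣ orderOf g → x g + y g = z g) → v x + v y = v z) := fun v e =>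
    ⟨fun e' => ⟨by simpa using e (X := {x}) (by simpa) (a := 1) (by simpa using fun g k => (e' g k).1),
      by simpa using e (X := {y}) (by simpa) (a := 1) (by simpa using fun g k => (e' g k).2)⟩,
      fun e' => by
        simpa [e2] using e (X := {x, y}) (by simp [Finset.insert_subset_iff, ix, iy]) (a := 1) (by simpa [e2])⟩
  have r2 := r1 (fun χ => charDegree χ) fun k _ e => deg_rel (by decide) k iz e
  have r3 := fun j (k : j ∈ C.js) => r1 (fun χ => (F χ).at j) fun k' _ e =>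
    let ⟨_, k1, k2⟩ := hc j k; k2.rel k1 k' iz e
  have l1 : L.length = ({x, y, z} ∩ s).card := by rw [← Multiset.coe_card, ← hL, Multiset.card_map]; rfl
  have l2 := (sum_map_eq hL (·.1)).symm
  have l3 := fun j => (sum_map_eq hL (·.at j)).symm
  have l4 := fun r => mem_of_map hL (r := r)
  simp only [ok3, frc_eq, Bool.and_eq_true, Bool.or_eq_true, Bool.not_eq_true', ← Bool.not_eq_true, List.any_eq_true,
    List.all_eq_true, Nat.ble_eq, ← imp_iff_not_or, l4, sm, l1, l2, l3, h.deg, bne_iff_ne] at k0 ⊢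
  refine ⟨?_, ?_⟩
  swap
  · rintro ⟨_, ⟨c, k1, rfl⟩, k2⟩ _ ⟨b, k3, rfl⟩ k4
    have k6 : ∀ t, Adm p G t → pw t c = c := by simpa [mv] using hf c (Finset.mem_inter.1 k1).2 k2
    obtain ⟨t, k7, k8⟩ : ∃ t, Adm p G t ∧ pw t b ≠ b := by simpa [mv] using hm b (Finset.mem_inter.1 k3).2 k4
    simp only [Finset.mem_inter, Finset.mem_insert, Finset.mem_singleton, ← e7] at k1 k3
    have i' := fun {u} (e : u ∈ irr (⊤ : Subgroup G)) => mem_irr_top.1 e
    rw [List.count, ← card_filter_eq hL]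
    refine Finset.one_lt_card.2 ⟨pw t b, ?_, b, by simp [← e7, k3], k8⟩
    simp only [Finset.mem_filter, Finset.mem_inter, Finset.mem_insert, Finset.mem_singleton, ← e7, beq_iff_eq]
    exact ⟨⟨⟨pw_mem k3.1.1 k7.1, sameBlock_trans hM (i' i) (i' k1.1.1) (i' (pw_mem k3.1.1 k7.1)) k1.1.2
      (k6 t k7 ▸ sameBlock_pw k7.1 (sameBlock_trans hM (i' k1.1.1) (i' i) (i' k3.1.1)
        (sameBlock_symm hM (i' i) (i' k1.1.1) k1.1.2) k3.1.2))⟩, h.cl b k3.2 t k7.1⟩, h.inv b k3.1.1 t k7.1⟩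
  obtain ⟨j, k0, k1⟩ := k0
  have o1 := ho x ix
  have o2 := ho y iy
  have o3 := ho z iz
  have c3 := Finset.card_eq_three.2 ⟨x, y, z, e2, e3, e4, rfl⟩
  clear hf hm e1 e5 e7 r1 l1 l2 l3 hL hc hW
  rcases e6 with e6 | e6
  · obtain ⟨d1, d2⟩ := r2.1 e6
    have v := fun j k => (r3 j k).1 e6
    have v0 := v j (hz k0)
    have : {x, y, z} ⊆ s := by
      simp only [Finset.insert_subset_iff, Finset.singleton_subset_iff]
      refine ⟨not_not.1 fun e => ?_, not_not.1 fun e => ?_, not_not.1 fun e => ?_⟩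
      exacts [by have := (o1 e).2 j k0; grind, by have := (o2 e).2 j k0; grind, by have := (o3 e).2 j k0; grind]
    rw [Finset.inter_eq_left.2 this] at l4 ⊢
    simp [c3, l4, h.deg, -Prod.exists, -Prod.forall]
    refine .inr (.inr (.inr ?_))
    rintro _ (rfl | rfl | rfl) <;> rw [h.deg]
    exacts [⟨by omega, fun j k => (v j k).1⟩, ⟨by omega, fun j k => (v j k).2⟩, ⟨rfl, fun _ _ => rfl⟩]
  have d := r2.2 e6
  have v := fun j k => (r3 j (hz k)).2 e6
  have v0 := v j k0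
  by_cases hx : x ∈ s <;> by_cases hy : y ∈ s <;> by_cases hz' : z ∈ s
  · rw [Finset.inter_eq_left.2 (by simp [Finset.insert_subset_iff, hx, hy, hz'])] at l4 ⊢
    simp [c3, l4, e2, e3, e4, h.deg, -Prod.exists, -Prod.forall]
    exact .inr (.inr (.inl ⟨by omega, fun j k => by have := (r3 j k).2 e6; omega⟩))
  · rw [show {x, y, z} ∩ s = {x, y} by grind] at l4 ⊢
    simp [l4, e2, h.deg, -Prod.exists, -Prod.forall]
    rw [show charDegree x + charDegree y = charDegree z by omega]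
    exact .inl ⟨⟨e8 z (by simp), (o3 hz').1⟩, fun j k => (v j k).trans ((o3 hz').2 j k)⟩
  · rw [show {x, y, z} ∩ s = {x, z} by grind] at l4 ⊢
    simp [l4, e3, h.deg, -Prod.exists, -Prod.forall]
    rw [show 2 * charDegree z - _ = charDegree y by omega]
    exact .inr (.inr ⟨⟨e8 y (by simp), (o2 hy).1⟩, fun j k => by have := v j k; have := (o2 hy).2 j k; omega⟩)
  · have := (o2 hy).2 j k0; have := (o3 hz').2 j k0; grind
  · rw [show {x, y, z} ∩ s = {y, z} by grind] at l4 ⊢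
    simp [l4, e4, h.deg, -Prod.exists, -Prod.forall]
    rw [show 2 * charDegree z - _ = charDegree x by omega]
    exact .inr (.inr ⟨⟨e8 x (by simp), (o1 hx).1⟩, fun j k => by have := v j k; have := (o1 hx).2 j k; omega⟩)
  · have := (o1 hx).2 j k0; have := (o3 hz').2 j k0; grind
  · have := (o1 hx).2 j k0; have := (o2 hy).2 j k0; grind
  · grind

end CF.Small.En
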