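import Cfsg.Agent.Small.Cv4
import Cfsg.Agent.Coprime.Basic

/-!
# A search engine for partial character tables: involutions centralizing a Sylow subgroup
-/

set_option autoImplicit false
set_option linter.unusedSectionVars false

namespace CF.Small

open Subgroup CF.BlockB Cfsg CF.PF Sv CF.Char En MulAction
open scoped ComplexConjugate

section

variable {p : ℕ} [hp : Fact p.Prime] {G : Type*} [Group G] [Finite G] {χ ψ θ : G → ℂ}

theorem val_invol {H : Subgroup G} (h : IsCh H χ) {w : G} (h1 : w ∈ H) (hw : w ^ 2 = 1) :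
    ∃ i ≤ charDegree χ, χ w = (charDegree χ - 2 * i : ℤ) := by
  classical
  obtain ⟨n, ω, h2, h3, h4⟩ := char_exists_roots h.2 ⟨w, h1⟩
  have h5 : ∀ i, ω i = if ω i = 1 then 1 else -1 := fun i => by
    have : ω i ^ 2 = 1 := by
      obtain ⟨m, hm⟩ := orderOf_dvd_of_pow_eq_one (x := (⟨w, h1⟩ : H)) (Subtype.ext hw)
      rw [hm, pow_mul, h3, one_pow]
    split_ifs with k
    exacts [k, (sq_eq_one_iff.1 this).resolve_left k]
  have h6 := Finset.card_filter_add_card_filter_not (s := Finset.univ) fun i => ω i = 1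
  have h7 := h4 1
  have h8 : charDegree χ = n := by exact_mod_cast (coe_deg h).trans h2
  rw [Finset.card_univ, Fintype.card_fin] at h6
  simp only [zpow_one] at h7
  refine ⟨(Finset.univ.filter fun i => ¬ ω i = 1).card, by omega, h7.trans ?_⟩
  rw [Finset.sum_congr rfl fun i _ => h5 i, Finset.sum_ite, h8]
  simp only [Finset.sum_const, ← h6]
  push_cast
  ring

namespace PSet

variable (S : PSet p G)

theorem exists_ord {q : ℕ} (hq : q.Prime) (h1 : q ∣ S.fi) : ∃ g ∈ S.N, orderOf g = q :=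
  have := Fact.mk hq
  let ⟨⟨g, k⟩, hg⟩ := exists_prime_orderOf_dvd_card' (G := S.H) q (S.card_H ▸ h1.mul_left _)
  ⟨g, S.H_le k, by simpa using hg⟩

theorem dvd_of_wm {q r m : ℕ} (hq : q.Prime) (hr : r.Prime) {g : G} (h1 : g ∈ S.N) (hg : orderOf g = q)
    (h2 : ¬ q ∣ Nat.card S.K) (h3 : wm q (Nat.card S.K) r m = true) :
    m ∣ Nat.card (S.K ⊓ centralizer {g} : Subgroup G) := by
  have := Fact.mk hq
  have := Fact.mk hr
  have k2 : Nat.card (zpowers g) = q := by rw [Nat.card_zpowers, hg]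
  obtain ⟨Q, hQ, hN⟩ := Coprime.exists_invariant_isSylowOf (zpowers g) S.K
    ((zpowers_le.2 h1).trans S.N_le_normalizer_K) (k2 ▸ hq.coprime_iff_not_dvd.2 h2) (.inl inferInstance) r
  obtain ⟨a, ha⟩ := hQ.isPGroup.exists_card_eq
  letI : MulAction (zpowers g) Q := MulAction.compHom Q (Q.normalizerMonoidHom.comp (inclusion hN))
  have k := (IsPGroup.of_card (n := 1) (by rw [k2, pow_one])).card_modEq_card_fixedPoints (G := zpowers g) Q
  rw [show Nat.card (fixedPoints (zpowers g) Q) = Nat.card ((centralizer (zpowers g)).subgroupOf Q) from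
    Nat.card_congr (Equiv.subtypeEquivRight fun x => ⟨fun h u hu =>
      mul_inv_eq_iff_eq_mul.1 (congrArg Subtype.val (h ⟨u, hu⟩)),
      fun h g => Subtype.ext (mul_inv_eq_iff_eq_mul.2 (h g g.2))⟩), ha] at k
  have k3 := Solv.card_inf_mul_relIndex Q S.K
  rw [inf_of_le_left hQ.le, ha] at k3
  obtain ⟨b, k4, hb⟩ := (Nat.dvd_prime_pow hr).1 (ha ▸ card_subgroup_dvd_card ((centralizer (zpowers g)).subgroupOf Q))
  simp only [wm, Bool.and_eq_true, Bool.or_eq_true, List.all_eq_true, List.mem_range, bne_iff_ne, beq_iff_eq,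
    ne_eq, ← Nat.dvd_iff_mod_eq_zero] at h3
  have k5 := ((h3.2 a (not_le.1 fun e => h3.1 ((pow_dvd_pow r e).trans (Dvd.intro _ k3)))).resolve_left (by
    rw [← k3, Nat.mul_div_cancel_left _ (pow_pos hr.pos a)]; simpa using hQ.not_dvd) b (by omega)).resolve_left
      (not_not.2 (hb ▸ k))
  rw [← hb, ← card_map_of_injective Q.subtype_injective, subgroupOf_map_subtype] at k5
  exact k5.trans (card_dvd_of_le fun x e => ⟨hQ.le e.2, mem_centralizer_singleton_iff.2 (e.1 g (mem_zpowers g)).symm⟩)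

theorem kc_of {A : List ℕ} (hA : DOK (Nat.card G) A) {w : G} (hw : w ∈ S.C) {m : ℕ} (hm : ¬ p ∣ m)
    (h : m ∣ Nat.card (centralizer {w} ⊓ S.N : Subgroup G)) :
    kc (kD A S.pa m) p (Nat.card (centralizer ({w} : Set G))) = true := by
  have h6 : S.z ∈ centralizer {w} := mem_centralizer_singleton_iff.2 (S.mem_C_iff.1 hw).symm
  have h7 := Solv.card_inf_mul_relIndex (centralizer {w}) S.N
  have h8 := Solv.card_inf_mul_relIndex S.N (centralizer {w})
  obtain ⟨f, hf⟩ : p ∣ Nat.card (centralizer {w} ⊓ S.N : Subgroup G) :=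
    S.ord.symm.dvd.trans (orderOf_dvd_natCard _ ⟨h6, S.P_le_N (mem_zpowers _)⟩)
  rw [hf] at h7 h
  rw [inf_comm, hf] at h8
  have k4 : 0 < f := Nat.pos_of_mul_pos_left (hf ▸ Nat.card_pos)
  rw [S.card_N', mul_assoc, mul_assoc, mul_right_inj' hp.out.ne_zero] at h7
  simp only [kc, kD, pa, List.mem_filter, Bool.and_eq_true, beq_iff_eq, List.any_eq_true,
    ← Nat.dvd_iff_mod_eq_zero]
  refine ⟨f, ⟨hA f ?_, (hp.out.coprime_iff_not_dvd.2 hm).symm.dvd_of_dvd_mul_left h, Dvd.intro _ h7⟩,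
    Dvd.intro _ h8, ?_⟩
  · rw [S.card_eq, mul_assoc p, ← h7]; exact ((dvd_mul_right _ _).mul_left _).mul_right _
  · rw [← h8, Nat.mul_div_cancel_left _ (Nat.mul_pos hp.out.pos k4)]; exact syl_sub S.nsq S.ord h6

theorem exists_odd (hG : commutator G = ⊤) :
    ∃ χ ∈ irr (⊤ : Subgroup G), charDegree χ % 2 = 1 ∧ charDegree χ ≠ 1 ∧ S.be χ ≠ 0 := by
  classical
  obtain ⟨B, hB⟩ := S.exists_pblk
  by_contra! k
  have h1 : ∀ χ ∈ B.all, charDegree χ ≠ 1 → (2 : ℤ) ∣ charDegree χ := fun χ h e => by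
    have := mt (k χ (B.all_irr h) · e) (B.sum_bz_ne_zero h)
    omega
  have h2 := B.deg_eq (triv_mem_irr _)
  have h3 := h1 _ (B.mem_all.2 (.inr (B.ex_mem_Y one_ne_zero))) (B.x_ne_one hG hB)
  have h4 : (2 : ℤ) ∣ ∑ χ ∈ B.X.erase (triv ⊤), B.ε χ * charDegree χ := Finset.dvd_sum fun χ h =>
    have := Finset.mem_erase.1 h
    (h1 χ (B.mem_all.2 (.inl this.2)) fun e => this.1 (eq_triv_of_deg hG (B.X_irr χ this.2) e)).mul_left _
  rw [← Finset.add_sum_erase _ _ hB, B.ε_triv hB, deg_triv] at h2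
  have := h3.mul_left B.δ
  simp only [Blk.x] at h2
  omega

theorem mv_of_be (he : S.fi + 1 = p) (h : χ ∈ irr (⊤ : Subgroup G)) (h1 : S.be χ ≠ 0) : mv p χ = 0 := by
  obtain ⟨B, -⟩ := S.exists_pblk
  have h2 := (B.mem_X_iff h).2 ((B.mem_all.1 (B.mem_all_of_be h h1)).imp_right (⟨·, he⟩))
  rcases Int.natAbs_eq (S.be χ) with e | e
  exacts [mv_zero fun _ => S.val_of_be h (a := 1) (by omega) one_ne_zero,
    mv_zero fun _ => S.val_of_be h (a := -1) (by omega) (by simp)]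

variable {S}

theorem Blk.Y_one (B : S.Blk θ) (hθ : θ ∈ irr S.K) (h2 : p ≠ 2) (e : En.one S.pa (orb S.N θ).card = true)
    (h : χ ∈ B.Y) {r : Row} (hr : r.1 = charDegree χ) : S.ei θ = p - 1 ∧
    sg p ((orb S.N θ).card * charDegree θ) r.1 = -B.δ ∧ S.tz χ = tX S.pa (orb S.N θ).card (charDegree θ) r ∧
    okX (Nat.card G) S.pa (orb S.N θ).card (charDegree θ) r = true := by
  have e1 : S.ei θ = p - 1 :=
    Nat.eq_sub_of_add_eq (show _ = S.pa.p by simpa [En.one, Blk.div_eq hθ] using e)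
  have e2 := ei_mul_card_orb hθ
  have e3 : (orb S.N θ).card = 1 := Nat.dvd_one.1 (Nat.dvd_of_mul_dvd_mul_left
    (Nat.sub_pos_of_lt hp.out.one_lt) (by rw [mul_one, ← e1, e2, e1]; exact fi_dvd))
  have k5 := B.Y_facts hθ h2 h hr
  obtain ⟨j, hj, rfl⟩ := B.mem_Y.1 h
  have k6 : sg p ((orb S.N θ).card * charDegree θ) r.1 = -B.δ :=
    hr ▸ sg_eq hp.out h2 (B.not_dvd_degree hθ (B.mem_all.2 (.inr h)) (exists_degree (B.Y_irr h)))
      (by have := B.δ_sign; omega) ((B.ex_modEq hθ hj (exists_degree (B.Y_irr h))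
        (coe_deg (isCh_of_irr hθ)).symm).trans (Int.modEq_iff_dvd.2 ⟨-B.δ * charDegree θ, by
          rw [← e2, e1, e3]; push_cast [Nat.cast_pred hp.out.pos]; ring⟩))
  have k7 : S.tz (B.ex j) = tX S.pa (orb S.N θ).card (charDegree θ) r := by
    rw [k5.2.1, tY, tX, show sg S.pa.p (S.pa.e * _) _ = _ from k5.1, show sg S.pa.p _ _ = _ from k6,
      show S.pa.e = _ from e2.symm, e1, e3]
    simp [pa]; ring
  exact ⟨e1, k6, k7, by rw [okX, ← k7, k5.2.2]⟩

theorem os_invol (hθ : θ ∈ irr S.K) {w : G} (h1 : w ∈ S.K) (hw : w ^ 2 = 1) :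
    ∃ i ≤ (orb S.N θ).card * charDegree θ,
      S.os θ w = (((orb S.N θ).card * charDegree θ : ℕ) - 2 * i : ℤ) := by
  have h : IsCh S.K (S.os θ) :=
    IsCh.sum _ fun θ' k => isCh_of_irr (orb_subset_irr S.N_le_normalizer_K hθ k)
  exact (show charDegree (S.os θ) = _ by exact_mod_cast (coe_deg h).trans (Blk.os_one' hθ)) ▸ val_invol h h1 hw

theorem tok_of (h2 : p ≠ 2) (h : χ ∈ irr (⊤ : Subgroup G)) (h0 : S.be χ = 0) (hd : ¬ p ∣ charDegree χ)
    {w : G} (h1 : w ∈ S.K) (hw : w ^ 2 = 1) {a : ℤ} (ha : χ w = a) {r : Row} (hr : r.1 = charDegree χ) {n : ℕ}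
    (hn : ∀ Y : Finset (G → ℂ), (∀ ψ ∈ Y, ∃ t, t.Coprime (Nat.card G) ∧ ψ = pw t χ) → Y.card ≤ n) :
    tok (Nat.card G) S.pa n r a = true := by
  classical
  obtain ⟨θ, hθ, B, hB⟩ := exists_blk_of_not_dvd (S := S) h (exists_degree h) hd
  obtain ⟨i, k1, k2⟩ := os_invol hθ h1 hw
  obtain ⟨M, hM⟩ := exists_isPModular hp.out
  have k3 : ∀ ψ ∈ irr (⊤ : Subgroup G), v M (ψ (S.zp 1 * w) - ψ w) < 1 := fun ψ k => by
    simpa only [S.pReg_zp_mul 1 h1] using v_char_sub_pReg_lt_one hM (isCh_top.1 (isCh_of_irr k)) (S.zp 1 * w)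
  have k4 : triv S.K ∉ orb S.N θ := fun e => by
    obtain ⟨B', -⟩ := S.exists_pblk
    exact B'.sum_bz_ne_zero (B.all_eq_of_mem_orb B' e ▸ hB) h0
  have k5 := Finset.sum_le_sum_of_subset (f := fun θ => charDegree θ ^ 2)
    (Finset.insert_subset (triv_mem_irr _) (orb_subset_irr S.N_le_normalizer_K hθ))
  rw [Finset.sum_insert k4, S.sum_orb hθ, S.sum_wt, deg_triv] at k5
  have key : ∀ c : ℤ, (p : ℤ) ∣ a - c * (((orb S.N θ).card * charDegree θ : ℕ) - 2 * i) →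
      ∃ j < min ((orb S.N θ).card * charDegree θ + 1) p,
      (a - c * (((orb S.N θ).card * charDegree θ : ℕ) - 2 * j)) % p = 0 := fun c k => by
    have := congrArg (Nat.cast (R := ℤ)) (Nat.mod_add_div i p)
    rw [Nat.cast_add, Nat.cast_mul] at this
    refine ⟨i % p, lt_min (Nat.lt_succ_of_le ((Nat.mod_le _ _).trans k1)) (Nat.mod_lt _ hp.out.pos), ?_⟩
    convert Int.emod_eq_zero_of_dvd (dvd_sub k (dvd_mul_right _ (2 * c * (i / p : ℕ)))) using 2
    linear_combination 2 * c * this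
  simp only [tok, List.any_eq_true, Bool.and_eq_true, Bool.or_eq_true, Nat.blt_eq, Nat.ble_eq, List.mem_range,
    beq_iff_eq]
  refine ⟨_, S.mem_opts hθ, by simp only [pa]; omega, ?_⟩
  rcases B.mem_all.1 hB with k | k
  · have k6 := B.X_facts hθ h2 k hr
    have k7 := k3 χ h
    rw [B.X_val hθ k one_ne_zero h1, k2, ha, ← Int.cast_mul, ← Int.cast_sub, v_intCast_lt_one_iff hM,
      ← dvd_neg, neg_sub, ← k6.1] at k7
    exact .inl ⟨k6.2.2, key _ k7⟩
  have k6 := B.Y_facts hθ h2 k hr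
  have k7 := v_sum_lt_one fun ψ (e : ψ ∈ B.Y) => k3 ψ (B.Y_irr e)
  have k8 := congrArg (Nat.cast (R := ℤ)) B.card_Y
  rw [Finset.sum_sub_distrib, B.sum_Y_val hθ one_ne_zero h1, k2, Finset.sum_congr rfl fun ψ e =>
    (B.Y_reg hθ e (S.K_reg h1)).trans ((B.Y_reg hθ k (S.K_reg h1)).symm.trans ha), Finset.sum_const,
    ← Int.cast_mul, nsmul_eq_mul, ← Int.cast_natCast B.Y.card, ← Int.cast_mul, ← Int.cast_neg, ← Int.cast_sub,
    v_intCast_lt_one_iff hM] at k7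
  rw [Nat.cast_pred hp.out.pos, Nat.cast_mul] at k8
  have k9 : (p : ℤ) ∣ a - B.δ * S.ei θ * (((orb S.N θ).card * charDegree θ : ℕ) - 2 * i) :=
    (dvd_add (k7.mul_left (S.ei θ)) (dvd_mul_right (p : ℤ) a)).trans (dvd_of_eq (by
      linear_combination -a * k8))
  cases e : En.one S.pa (orb S.N θ).card
  · refine .inr ⟨⟨by rw [okY, e, ← k6.2.1, k6.2.2]; rfl, B.nY_eq hθ ▸ hn _ fun ψ k' => ?_⟩, key _ ?_⟩
    · obtain ⟨j, hj, rfl⟩ := B.mem_Y.1 k
      obtain ⟨i, hi, rfl⟩ := B.mem_Y.1 k'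
      obtain ⟨t, k5, k6⟩ := S.exists_adm (mul_ne_zero (inv_ne_zero hj) hi)
      exact ⟨t, k5.1, ((B.pow_ex hθ hj k5).trans (by rw [k6, mul_inv_cancel_left₀ hj])).symm⟩
    · rwa [Blk.div_eq hθ, show sg S.pa.p (S.pa.e * _) _ = _ from k6.1]
  · obtain ⟨e1, e2, -, e3⟩ := B.Y_one hθ h2 e k hr
    refine .inl ⟨e3, key _ ?_⟩
    rw [e1, Nat.cast_pred hp.out.pos] at k9
    rw [show sg S.pa.p _ _ = _ from e2]
    exact (dvd_add k9 (dvd_mul_right _ (B.δ * (((orb S.N θ).card * charDegree θ : ℕ) - 2 * i)))).trans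
      (dvd_of_eq (by ring))

end PSet

end

namespace En

variable {G : Type*} [Group G] [Finite G] {χ ψ θ : G → ℂ} {cs : List (BC G)} {fl : List Bool} {W : List Row}
  {A : List ℕ} {j : ℕ}

variable [IsSimpleGroup G] (hG : ¬ IsMulCommutative G) {N : ℕ} (hN : Nat.card G = N) (hA : DOK N A)
include hG hN hA

theorem RS.cmpG (h : RS cs fl W) {g : Row → Bool} (hg : ∀ χ ∈ irr (⊤ : Subgroup G), g (rowF cs χ) = true)
    {k : K} (hk : cmpG N A j g k (pars cs) fl W = true) :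
    ∃ W', RS cs (fl.set j true) W' ∧ k (pars cs) (fl.set j true) W' = true := by
  classical
  obtain ⟨s, h1, h2, h3⟩ := h
  simp only [En.cmpG, Bool.and_eq_true, Nat.blt_eq, frc_eq] at hk
  obtain ⟨x, k1, k2⟩ := col hk.1
  replace hk := hk.2
  rw [k1] at hk
  obtain ⟨B, -⟩ := x.S.exists_pblk
  have hX : ∀ χ, isX x.S.pa j (rowF cs χ) = true ↔ (x.S.be χ).natAbs + 1 = x.p := fun χ => by
    simp only [isX, k2, beq_iff_eq]; rfl
  have hY : ∀ χ, isY x.S.pa j (rowF cs χ) = true ↔ x.S.fi + 1 ≠ x.p ∧ (x.S.be χ).natAbs = x.S.fi :=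
    fun χ => by simp only [isY, k2, beq_iff_eq, Bool.and_eq_true, bne_iff_ne]; rfl
  obtain ⟨X, eX⟩ : ∃ X, X = (irr ⊤ \ s).filter fun χ => (x.S.be χ).natAbs + 1 = x.p := ⟨_, rfl⟩
  obtain ⟨Y, eY⟩ : ∃ Y, Y = (irr ⊤ \ s).filter fun χ =>
    x.S.fi + 1 ≠ x.p ∧ (x.S.be χ).natAbs = x.S.fi := ⟨_, rfl⟩
  have hc : ∀ f : (G → ℂ) → Prop, ∀ [DecidablePred f], ((irr ⊤ \ s).filter f).card =
      ((irr ⊤).filter f).card - (s.filter f).card := fun f _ => by
    rw [← Finset.card_sdiff_of_subset (Finset.filter_subset_filter f h1)]; congr 1; grind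
  have c1 : X.card = x.S.pa.nX - W.countP (isX x.S.pa j) := by
    simp only [eX, hc, x.S.cnt_X, ← card_filter_eq h2, hX]
  have c2 : Y.card = x.S.pa.nY - W.countP (isY x.S.pa j) := by
    simp only [eY, hc, x.S.cnt_Y, ← card_filter_eq h2, hY]
  have h0 : ∀ χ ∈ irr ⊤, χ ∉ Y ∪ (X ∪ s) → x.S.be χ = 0 := fun χ e e' => by
    have := B.cases e; have := B.natAbs_be_X (χ := χ); have := B.natAbs_be_Y (χ := χ)
    have := B.be_out e; grind
  have d1 : Disjoint X s := by grind [Finset.disjoint_left]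
  have d2 : Disjoint Y (X ∪ s) := by grind [Finset.disjoint_left]
  have d3 : Y ∪ (X ∪ s) ⊆ irr ⊤ := by grind
  have e1 := x.S.sum_be_deg
  have e2 := Finset.sum_le_sum_of_subset (f := fun χ => charDegree χ ^ 2) d3
  rw [← Finset.sum_subset d3 fun χ e e' => by rw [h0 χ e e', zero_mul]] at e1
  rw [Finset.sum_union d2, Finset.sum_union d1] at e1 e2
  obtain ⟨r, hr, hr'⟩ : ∃ r : Row, (∀ χ ∈ Y, rowF cs χ = r) ∧ (r.at j).natAbs * Y.card = x.S.fi * Y.card := by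
    rcases Y.eq_empty_or_nonempty with e | ⟨χ, e⟩
    · exact ⟨default, by simp [e]⟩
    have := Finset.mem_filter.1 (eY ▸ e)
    refine ⟨rowF cs χ, fun ψ e' => ?_, by rw [k2, this.2.2]⟩
    have e' := Finset.mem_filter.1 (eY ▸ e')
    obtain ⟨s, k5, k6⟩ := x.S.gal this.2.1 (Finset.mem_sdiff.1 this.1).1 (Finset.mem_sdiff.1 e'.1).1
      this.2.2 e'.2.2
    exact rowF_pow k5.1 (Finset.mem_sdiff.1 this.1).1 (Finset.mem_sdiff.1 e'.1).1 k6
  rw [Finset.sum_congr (s₁ := Y) rfl (g := fun _ => r.at j * r.1) fun χ e => by rw [← hr χ e, k2]; rfl,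
    Finset.sum_const, nsmul_eq_mul] at e1
  rw [Finset.sum_congr (s₁ := Y) rfl (g := fun _ => r.1 ^ 2) fun χ e => by rw [← hr χ e]; rfl,
    Finset.sum_const, smul_eq_mul, sum_deg_sq, hN] at e2
  rw [← c1, ← c2] at hk
  have e3 : (-(Y.card * (r.at j * r.1))).natAbs = Y.card * x.S.fi * r.1 := by
    rw [Int.natAbs_neg, ← mul_assoc, Int.natAbs_mul, Int.natAbs_mul, Int.natAbs_natCast,
      Int.natAbs_natCast, mul_comm Y.card, hr', mul_comm Y.card]
  obtain ⟨W', b, k3, k4, k5⟩ := ms_of (F := rowF cs) (B := Y.card * r.1 ^ 2)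
    (S' := -(Y.card * (r.at j * r.1))) (by rw [e3]; exact le_of_eq (by simp only [PSet.pa]; ring))
    _ _ _ _ _ X.val rfl (fun χ e => by
      replace e : χ ∈ X := e
      rw [eX, Finset.mem_filter] at e
      have e' := Finset.mem_sdiff.1 e.1
      refine mem_cands hG hN hA e'.1 (h3 χ e'.1 e'.2) ?_ (Bool.and_eq_true_iff.2 ⟨(hX χ).2 e.2, hg χ e'.1⟩)
      have := x.S.mem_bopts hG x.h2 e'.1
      have := (h3 χ e'.1 e'.2).1
      have := B.fi_lt
      have := x.hp.out.two_le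
      simp only [bopts, PSet.pa, rowF] at *
      grind)
    (fun χ e => by
      replace e : χ ∈ X := e
      rw [eX, Finset.mem_filter] at e
      rw [k2]; exact (Nat.eq_sub_of_add_eq e.2).le)
    (by rw [← sum_map_eq h2]; exact Nat.le_sub_of_add_le (le_of_eq_of_le (by rw [add_comm _ (_ * _), add_assoc]; rfl) e2))
    (by
      rw [← sum_map_eq h2, eq_neg_iff_add_eq_zero, ← e1, add_comm, add_comm (∑ _ ∈ s, _)]
      simp only [k2]
      rfl) hk
  have h4 : RS cs (fl.set j true) (List.replicate Y.card r ++ W') := by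
    refine ⟨_, d3, ?_, fun χ e e' => ?_⟩
    · have u : ∀ {a b : Finset (G → ℂ)}, Disjoint a b → (a ∪ b).val = a.val + b.val := fun h => by
        rw [← Finset.disjUnion_eq_union _ _ h]; rfl
      rw [u d2, u d1, ← Multiset.coe_add, ← k3,
        ← h2, Multiset.coe_replicate, ← (Multiset.eq_replicate (s := Y.val.map (rowF cs))).2
          ⟨by simp, by simpa using hr⟩]
      simp
    · have := h3 χ e (by grind)
      refine ⟨this.1, fun i k => ?_⟩
      rcases eq_or_ne j i with rfl | k'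
      · rw [k2, h0 χ e e']
      · exact this.2 i (by simpa [List.getElem?_set_ne k'] using k)
  refine ⟨_, h4, ?_⟩
  rcases Y.eq_empty_or_nonempty with rfl | ⟨χ, e⟩
  · simpa [show En.fin _ _ W' = true from h4.fin] using k5
  have e' := Finset.mem_sdiff.1 (Finset.mem_filter.1 (eY ▸ e)).1
  have e4 := Finset.card_pos.2 ⟨χ, e⟩
  have e5 := mem_zrows hG hN e'.1 cs fl (h3 χ e'.1 e'.2)
  have e6 := deg_pos e'.1
  have e7 := Nat.mod_eq_zero_of_dvd (hN ▸ dvd_of_mem_dm (mem_dm.2 ⟨χ, e'.1, rfl⟩))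
  rw [show charDegree χ = r.1 from congrArg Prod.fst (hr χ e)] at e5 e6 e7
  rw [hr χ e] at e5
  rw [beq_eq_false_iff_ne.2 e4.ne', cond_false, e3, show x.S.pa.e = x.S.fi from rfl, Nat.mul_mod_right,
    Nat.mul_div_cancel_left _ (Nat.mul_pos e4 PSet.fi_pos)] at k5
  simp only [bne_self_eq_false, Bool.false_or, beq_eq_false_iff_ne.2 e6.ne', e7, decide_eq_false k4.not_gt,
    List.all_eq_true] at k5
  simpa [h4.fin, mul_assoc, show g r = true from hr χ e ▸ hg χ e'.1] using k5 _ e5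

omit hA

theorem mem_vopts (h : χ ∈ irr (⊤ : Subgroup G)) {w : G} (hw : orderOf w = 2) :
    iv w χ ∈ vopts N (pars cs) (Nat.card (centralizer ({w} : Set G))) (rowF cs χ) := by
  subst hN
  have h2 := fun χ (k : χ ∈ irr ⊤) =>
    invol_val (commutator_eq_top hG) (isCh_of_irr k) (hw ▸ pow_orderOf_eq_one w)
  rw [vopts, frc_eq, frc_eq]
  exact mem_vbase hG (by rintro rfl; simp at hw) h (fun χ k => (h2 χ k).1)
    (vmod_dvd h hw (h2 χ h).1 (h2 χ h).2 cs)

theorem RS.not_inv2 (h : RS cs fl W) {x : BC G} (hx : cs[j]? = some x) {w : G} (hw : orderOf w = 2)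
    (hK : w ∈ x.S.K) : inv2 N (Nat.card (centralizer ({w} : Set G))) j (pars cs) fl W ≠ true := fun hk => by
  classical
  subst hN
  have h1 : w ^ 2 = 1 := hw ▸ pow_orderOf_eq_one w
  have h2 := fun χ (k : χ ∈ irr ⊤) => invol_val (commutator_eq_top hG) (isCh_of_irr k) h1
  obtain ⟨hj, rfl⟩ := List.getElem?_eq_some_iff.1 hx
  simp only [inv2, Bool.and_eq_true, List.all_eq_true, List.any_eq_true, mem_comp, bne_iff_ne,
    show (pars cs).getD j default = cs[j].S.pa by simp [pars, hj]] at hk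
  refine Bool.false_ne_true (St.asg h (v := iv w) (fun χ k => (deg_pos k).ne') (fun χ k k' => ?_)
    (fun χ k ψ k' e e' => ?_) (fun t ht => ?_) (fun s hs _ => (Finset.sum_le_sum_of_subset hs).trans_eq
      (sum_sq_eq fun χ k => (h2 χ k).1)) hk.2).choose_spec.2
  · refine List.mem_filter.2 ⟨mem_vopts hG rfl k hw, ?_⟩
    simp only [Bool.or_eq_true, bne_iff_ne, beq_iff_eq, or_iff_not_imp_left, Classical.not_imp, not_not]
    refine fun e => cs[j].S.tok_of cs[j].h2 k ((nth_map _ cs j hj).symm.trans e.1)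
      (mt Nat.mod_eq_zero_of_dvd e.2) hK h1 (h2 χ k).1 rfl fun Y hY => ?_
    obtain ⟨s, -, k2, k3⟩ := h
    obtain ⟨i, k4, k5⟩ := hk.1.2 _ k'
    rw [List.count, ← card_filter_eq k2]
    refine Finset.card_le_card fun ψ e' => ?_
    obtain ⟨t, ht, rfl⟩ := hY ψ e'
    have k6 := (cs_rowF cs fun _ => true).inv χ k t ht
    exact Finset.mem_filter.2 ⟨not_not.1 fun e => k5 (k6 ▸ (k3 _ (pw_mem k ht) e).2 i k4.2), by simp [k6]⟩
  · obtain ⟨p, s, k1, k2, k3⟩ := gal_of_any k k' e e'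
    rw [iv, iv, k3, k1.2 w (hw ▸ k2)]
  · simp only [vtests, List.mem_flatMap, mem_comp, List.mem_cons, List.not_mem_nil, or_false] at ht
    obtain ⟨j, ⟨k1, k2⟩, k3⟩ := ht
    obtain ⟨y, k4, k5⟩ := col k1
    rcases k3 with rfl | rfl <;> refine ⟨fun χ k => k.2 j k2, ?_⟩ <;> simp only [k4, k5]
    · have := y.S.sum_be_reg (g := w) (hw ▸ mt (Nat.prime_dvd_prime_iff_eq y.hp.out Nat.prime_two).1 y.h2)
      rw [Finset.sum_congr rfl fun χ k => by rw [(h2 χ k).1, mul_comm]] at this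
      rw [beq_iff_eq]
      exact_mod_cast this
    · exact y.S.quad_of y.h2 h1 fun χ k => (h2 χ k).1

omit hN in
theorem Acc.fltU {q : ℕ} [hq : Fact q.Prime] (T : PSet q G) {k : K} (h : Acc G (fltU j q k)) : Acc G k := by
  obtain ⟨cs, fl, W, h1, h3⟩ := h
  refine ⟨cs, fl, W, h1, (Bool.or_eq_true_iff.1 h3).resolve_left fun k => ?_⟩
  simp only [Bool.and_eq_true, Nat.blt_eq, beq_iff_eq, List.any_eq_true, bne_iff_ne] at k
  obtain ⟨⟨⟨k1, k2⟩, k3⟩, r, k4, ⟨⟨k5, k6⟩, k7⟩, k8⟩ := k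
  obtain ⟨x, e1, e2⟩ := col k1
  rw [e1] at k3 k8
  obtain ⟨χ, i, rfl⟩ : ∃ χ ∈ irr ⊤, rowF cs χ = r :=
    let ⟨_, a, b, _⟩ := h1
    let ⟨χ, c, d⟩ := (mem_of_map b).1 k4
    ⟨χ, a c, d⟩
  replace k3 : q ∣ Nat.card x.S.K := Nat.dvd_of_mod_eq_zero k3
  have hpq : x.p ≠ q := fun e => x.S.K_cop (e ▸ k3)
  have h4 : ∀ t ≠ 0, χ (T.zp t) = χ T.z := fun t ht => by
    obtain ⟨s, k9, rfl⟩ := T.exists_adm ht
    have := (cs_rowF cs fun _ => true).inv χ i s k9.1
    rw [T.zp_natCast]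
    exact congrFun (St.eq_of_count h1 i (pw_mem i k9.1) (fun e => k5 (e.2 j k2))
      (fun e => k5 (this ▸ e.2 j k2)) this k6) _
  have h5 := T.coe_tz i
  rw [Finset.sum_congr rfl fun t ht => h4 t (Finset.ne_of_mem_erase ht), Finset.sum_const,
    Finset.card_erase_of_mem (Finset.mem_univ _), Finset.card_univ, ZMod.card, nsmul_eq_mul] at h5
  have h6 : ((q - 1 : ℕ) : ℤ) ≠ 0 := by have := hq.out.two_le; omega
  obtain ⟨a, ha⟩ := int_dvd_of_isIntegral_div (a := T.tz χ) h6 (by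
    rw [h5, Int.cast_natCast, mul_div_cancel_left₀ _ (by exact_mod_cast h6)]
    exact ZIrr.isIntegral (zirr_of_irr i) _)
  have h7 : χ T.z = a := mul_left_cancel₀ (by exact_mod_cast h6) (h5.symm.trans (by rw [ha]; simp))
  have h8 := natAbs_lt_deg hG i k7 T.z_ne_one h7
  have h9 := x.S.modEq_of_comm i (.inl (e2 χ ▸ k5))
    (T.ord.symm ▸ mt (Nat.prime_dvd_prime_iff_eq x.hp.out hq.out).1 hpq)
    (by rw [T.card_cent' T.ord]; exact (x.S.compat_aux T hpq k3).1.mul_left _) h7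
  rw [PSet.tz, Nat.cast_pred hq.out.pos] at ha
  replace ha : a - charDegree χ = q * (a - mu T.P χ (triv T.P)) := by linear_combination ha
  rw [ha] at h9
  obtain ⟨b, hb⟩ := ((Nat.isCoprime_iff_coprime.2 ((Nat.coprime_primes x.hp.out hq.out).2 hpq))).dvd_of_dvd_mul_left h9
  have k9 : (charDegree χ : ℤ) < x.p * (q - 1) := by
    rw [← Nat.cast_pred hq.out.pos]; exact_mod_cast k8
  have q1 : (2 : ℤ) ≤ q := by exact_mod_cast hq.out.two_le
  have p1 : (0 : ℤ) < x.p := by exact_mod_cast x.hp.out.pos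
  have b1 : b < 0 := by
    by_contra! k
    have := mul_nonneg (by omega : (0 : ℤ) ≤ q) (mul_nonneg p1.le k)
    rw [← hb, ← ha] at this
    omega
  have := mul_nonneg (by omega : (0 : ℤ) ≤ q - 1) (mul_nonneg p1.le (by omega : 0 ≤ -b - 1))
  have := Int.natCast_nonneg (mu T.P χ (triv T.P))
  nlinarith

include hA in
theorem Acc.fltL {g : ℕ → Bool} {k : K} (h : Acc G (fltL N A j g k))
    (hg : ∀ w : G, orderOf w = 2 → g (Nat.card (centralizer ({w} : Set G))) = true) : Acc G k := by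
  obtain ⟨cs, fl, W, h1, h3⟩ := h
  refine ⟨cs, fl, W, h1, (Bool.or_eq_true_iff.1 h3).resolve_left fun k => ?_⟩
  simp only [Bool.and_eq_true, Nat.blt_eq, beq_iff_eq, List.all_eq_true] at k
  obtain ⟨x, k1, -⟩ := col k.1.1
  rw [k1] at k
  obtain ⟨w, h4, h5⟩ := x.S.exists_k hG (hN ▸ hA) x.h2 (Nat.dvd_of_mod_eq_zero k.1.2)
  exact St.not_inv hG hN h1 (fun _ k => k) h4 (k.2 _ (List.mem_filter.2 ⟨hN ▸ h5, hg w h4⟩))

end En

end CF.Small
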