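import Cfsg.Agent.Small.Cv1

/-!
# Simple groups of order 50232960: data for the search
-/

set_option autoImplicit false
set_option maxRecDepth 100000

namespace CF.Small.En.J3

/-- The divisors. -/
def A : List ℕ :=
  [50232960, 25116480, 16744320, 12558240, 10046592, 8372160, 6279120, 5581440, 5023296, 4186080, 3348864,
  3139560, 2954880, 2790720, 2643840, 2511648, 2093040, 1860480, 1674432, 1569780, 1477440, 1395360, 1321920,
  1255824, 1116288, 1046520, 984960, 930240, 881280, 837216, 784890, 738720, 697680, 660960, 627912, 620160,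
  590976, 558144, 528768, 523260, 492480, 465120, 440640, 418608, 392445, 372096, 369360, 348840, 330480,
  328320, 313956, 310080, 295488, 293760, 279072, 264384, 261630, 246240, 232560, 220320, 209304, 206720,
  196992, 186048, 184680, 176256, 174420, 165240, 164160, 156978, 155520, 155040, 147744, 146880, 139536,
  132192, 130815, 124032, 123120, 116280, 110160, 109440, 104652, 103360, 98496, 97920, 93024, 92340, 88128,
  87210, 82620, 82080, 78489, 77760, 77520, 73872, 73440, 69768, 66096, 65664, 62016, 61560, 58752, 58140,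
  55080, 54720, 52326, 51840, 51680, 49248, 48960, 46512, 46170, 44064, 43605, 41344, 41310, 41040, 38880,
  38760, 36936, 36720, 36480, 34884, 33048, 32832, 32640, 31104, 31008, 30780, 29376, 29070, 27540, 27360,
  26163, 25920, 25840, 24624, 24480, 23256, 23085, 22032, 21888, 20672, 20655, 20520, 19584, 19440, 19380,
  18468, 18360, 18240, 17442, 17280, 16524, 16416, 16320, 15552, 15504, 15390, 14688, 14535, 13770, 13680,
  12960, 12920, 12312, 12240, 12160, 11628, 11016, 10944, 10880, 10368, 10336, 10260, 9792, 9720, 9690, 9234,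
  9180, 9120, 8721, 8640, 8262, 8208, 8160, 7776, 7752, 7695, 7344, 7296, 6885, 6840, 6528, 6480, 6460, 6156,
  6120, 6080, 5814, 5760, 5508, 5472, 5440, 5184, 5168, 5130, 4896, 4860, 4845, 4617, 4590, 4560, 4320, 4131,
  4104, 4080, 3888, 3876, 3672, 3648, 3456, 3420, 3264, 3240, 3230, 3078, 3060, 3040, 2907, 2880, 2754, 2736,
  2720, 2592, 2584, 2565, 2448, 2432, 2430, 2295, 2280, 2176, 2160, 2052, 2040, 1944, 1938, 1920, 1836, 1824,
  1728, 1710, 1632, 1620, 1615, 1539, 1530, 1520, 1440, 1377, 1368, 1360, 1296, 1292, 1224, 1216, 1215, 1152,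
  1140, 1088, 1080, 1026, 1020, 972, 969, 960, 918, 912, 864, 855, 816, 810, 765, 760, 720, 684, 680, 648,
  646, 640, 612, 608, 576, 570, 544, 540, 513, 510, 486, 480, 459, 456, 432, 408, 405, 384, 380, 360, 342,
  340, 324, 323, 320, 306, 304, 288, 285, 272, 270, 255, 243, 240, 228, 216, 204, 192, 190, 180, 171, 170,
  162, 160, 153, 152, 144, 136, 135, 128, 120, 114, 108, 102, 96, 95, 90, 85, 81, 80, 76, 72, 68, 64, 60, 57,
  54, 51, 48, 45, 40, 38, 36, 34, 32, 30, 27, 24, 20, 19, 18, 17, 16, 15, 12, 10, 9, 8, 6, 5, 4, 3, 2, 1]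

/-- The order. -/
abbrev N : ℕ := 50232960

/-- Parameters. -/
def P19 : Par := ⟨19, 9, 1⟩

/-- Parameters. -/
def P17 : Par := ⟨17, 8, 1⟩

/-- The test for the class multiplication constants. -/
def quadM (P : Par) (C : ℕ) (q : ℤ) : Bool :=
  quad P C q && decide (q ≤ (P.p * (P.p - 1) * C ^ 2 * P.c : ℕ)) &&
    (P.c % 2 == 0 || q * P.c != (P.p * (P.p - 1) * C ^ 2 * 4 : ℕ))

/-- Values at an involution inverting an element of order `17`. -/
def tOK (ps : List Par) (W : List Row) (r : Row) (a : ℤ) : Bool :=
  decide (17 * a.natAbs ≤ r.1 + r.at 1) && (!(W.count r == 1 || anyY ps r) ||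
    ((a - r.1) % 8 == 0 && ((r.at 1).natAbs != 8 || 17 * a + r.1 + r.at 1 != 0)))

/-- Evaluates the argument first. -/
def frcZ {α : Type} (x : ℤ) (k : ℤ → α) : α :=
  match x with
  | .ofNat n => frc n fun n => k (.ofNat n)
  | .negSucc n => frc n fun n => k (.negSucc n)

/-- Evaluates a list first. -/
def frcY {α : Type} : List ℤ → (List ℤ → α) → α
  | [], k => k []
  | a :: l, k => frcZ a fun a => frcY l fun l => k (a :: l)

/-- Evaluates the lists of options first. -/
def frcO {α : Type} (o : Row → List ℤ) : List Row → (List (Row × List ℤ) → α) → α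
  | [], k => k []
  | r :: W, k => frcY (o r) fun l => frcO o W fun L => k ((r, l) :: L)

/-- Runs through the assignments of a new column. -/
def go (y : Row → Bool) (i : ℕ) (lf : ℕ → ℤ → List Row → Bool) :
    List (Row × List ℤ) → Row → ℤ → ℕ → ℤ → List Row → Bool
  | [], _, _, b, s, acc => lf b s acc
  | x :: L, pr, pv, b, s, acc => x.2.all fun a => Nat.blt b (a.natAbs * a.natAbs) ||
      (x.1 == pr && (decide (a < pv) || (y pr && a != pv))) ||
      frc (b - a.natAbs * a.natAbs) fun b => frcZ (s + a * x.1.at i) fun s =>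
        go y i lf L x.1 a b s (ext a x.1 :: acc)

theorem go_realize : True := by
  have := @frcY.eq_def; have := @frcO.eq_def; have := @go.eq_def
  have := @frcY.eq_1; have := @frcY.eq_2; have := @frcO.eq_1; have := @frcO.eq_2
  have := @go.eq_1; have := @go.eq_2; trivial

/-- The last entry of a new column. -/
def lst (P : Par) (i : ℕ) (k : List Row → Bool) (C : ℕ) (r : Row) (o : List ℤ) (b : ℕ) (s : ℤ)
    (W : List Row) : Bool :=
  frcZ (-s / r.at i) fun a => Nat.blt b (a.natAbs * a.natAbs) || !o.contains a || a * r.at i + s != 0 ||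
    (frcZ (tsum N 0 0 (i + 1) (ext a r :: W)) fun q => !quadM P C q) || k (ext a r :: W)

/-- Adds the column of an involution. -/
def col (ps : List Par) (i : ℕ) (g : Row → Row) (f : Row → ℤ → Bool) (k : List Row → Bool) :
    List Row → ℕ → Bool
  | [], _ => false
  | r :: W, C => r.at i != 0 && frcY ((vopts N ps C (g r)).filter (f (g r))) fun o =>
      frcO (fun r => (vopts N ps C (g r)).filter (f (g r))) W fun L =>
        go (fun r => anyY ps (g r)) i (lst (ps.getD 0 default) i k C r o) L (0, []) 0 C 0 []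

/-- The test for two involutions. -/
def bil (W : List Row) : Bool := tsum N 0 1 2 W * tsum N 0 1 2 W != tsum N 0 0 2 W * tsum N 1 1 2 W

/-- Centralizer orders. -/
def CT (P : Par) : List ℕ :=
  A.filter fun C => 155520 % C == 0 && C % 8 == 0 && (C % 5 != 0 || P.c % 2 == 0)

/-- Centralizer orders. -/
def CZ (P : Par) : List ℕ := (CT P).filter (· % 128 == 0)

/-- Centralizer orders. -/
def CU (P : Par) : List ℕ := (kCs N A P).filter (155520 % · == 0)

/-- The first filter. -/
def tu : K := fun ps _ W =>
  (CT (ps.getD 0 default)).all (col ps 0 id (tOK ps W) (fun W' => (ps.getD 0 default).c % 2 == 0 &&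
    (CU (ps.getD 0 default)).all (col ps 1 dr (fun _ _ => true) bil W')) W)

/-- The second filter. -/
def zt : K := fun ps _ W =>
  (CZ (ps.getD 0 default)).all (col ps 0 id (fun _ _ => true)
    (fun W' => (CT (ps.getD 0 default)).all (col ps 1 dr (tOK ps W) bil W')) W)

/-- Rejects. -/
def no : K := fun _ _ _ => false

/-- Parameters. -/
def P9 : Par := ⟨17, 16, 9⟩

/-- Parameters. -/
def P5 : Par := ⟨5, 2, 6⟩

/-- The first family. -/
def kA : K := fun ps _ W => ps.getD 0 default == P9 && W.all (·.1 % 27 != 0)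

/-- The degrees of characters of defect zero. -/
def Z : List ℕ := [6460, 5814, 5168, 4845, 3876, 3230, 2907, 2584, 1938, 1615, 1292, 969, 646, 323]

/-- The configuration. -/
def Cf : Cfg := ⟨323, 22, Z, [0, 1]⟩

/-- The rows in the two blocks. -/
def q2 (r : Row) : Bool := r.at 1 != 0 || r.at 2 != 0

/-- The filter from all `5`-blocks. -/
def cv (T : List ℕ) : K := fun ps _ W =>
  ((W.filter q2).all fun r => r.at 0 == 0 || (r.at 0).natAbs == 4) &&
  cover N (ps.getD 0 default) Cf T (((W.filter q2).filter (·.at 0 != 0)).map (ext 0)) ((ps.getD 0 default).c - 1)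
    true (fun W => !tri N (ps.getD 0 default) [(1, ps.getD 0 default), (2, P17), (3, P19)] [(2, P17), (3, P19)] W)
    ((W.filter q2).map dr)

/-- The row treated last. -/
def q1 (r : Row) : Bool := r.1 == 969 || r.1 == 324

/-- Reorders the rows. -/
def fr (W : List Row) : List Row := W.filter q1 ++ W.filter (!q1 ·)

/-- The principal `5`-block. -/
def W5 : List Row := [(324, [-4, 16, 18]), (323, [2, 0, 0]), (323, [2, 0, 0]), (1, [4, 16, 18])]

/-- The filter for the principal `5`-block. -/
def k5 (T : List ℕ) : K := fun ps fl W =>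
  W.all (·.at 0 != 0) && ((ps.getD 0 default == P5 && W5.isPerm W) ||
    (bif W.any (·.1 == 816) && W.any (·.1 == 2584) then
      ((ps.getD 0 default).c == 3 || (ps.getD 0 default).c == 18) && zt ps fl (fr W)
    else (ps.getD 0 default).c != 96 && tu ps fl (fr W)) || cmpB N A 2 (cmpB N A 1 (cv T)) ps fl W)

/-- The search for given parameters. -/
def st (q : Par → Bool) : Bool := frcL (mkT Cf 5) fun T =>
  addB N A [P19] (addB N A [P17] (addB N A ((params N A 5).filter q) (cmpB N A 0 (k5 T)))) [] [] [(1, [])]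

end CF.Small.En.J3
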