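import Cfsg.Agent.Small.Fb9
import Cfsg.Agent.PLocal.FTB

/-!
Eigenvalue multisets of group elements, read off from a character.
-/

set_option autoImplicit false

namespace CF.Small.Lg

open Subgroup Cfsg CF.Char CF.Clifford Multiset Module

variable {G H : Type*} [Group G] [Group H] {χ ψ : G → ℂ} {g w x z : G} {s t : Multiset ℂ} {c c' : ℂ}

/-- `s` is the multiset of eigenvalues of `g`. -/
def Eig (χ : G → ℂ) (g : G) (s : Multiset ℂ) : Prop := ∀ k : ℕ, χ (g ^ k) = (s.map (· ^ k)).sum

theorem exists_fin (s : Multiset ℂ) : ∃ n, ∃ a : Fin n → ℂ, s = Finset.univ.val.map a := by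
  induction s using Quotient.inductionOn with | _ l =>
  exact ⟨_, l.get, by rw [Fin.univ_val_map, List.ofFn_get]; rfl⟩

theorem eig_fin {ι : Type*} [Fintype ι] {a : ι → ℂ} :
    Eig χ g (Finset.univ.val.map a) ↔ ∀ k : ℕ, χ (g ^ k) = ∑ i, a i ^ k := by
  simp only [Eig, Multiset.map_map]; rfl

theorem Eig.unique (h : Eig χ g s) (h' : Eig χ g t) : s = t := by
  obtain ⟨n, a, rfl⟩ := exists_fin s
  obtain ⟨m, b, rfl⟩ := exists_fin t
  ext c
  have := sum_eq_of_powerSum_eq a b (fun k => (eig_fin.1 h k).symm.trans (eig_fin.1 h' k))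
    fun x => if c = x then 1 else 0
  simp only [Finset.sum_boole, Nat.cast_inj] at this
  rw [count_map, count_map]
  exact this

theorem Eig.one (h : Eig χ g s) : χ 1 = card s := by simpa using h 0

theorem Eig.card (h : Eig χ g s) : card s = charDegree χ := by simp [charDegree, h.one]

theorem Eig.val (h : Eig χ g s) : χ g = s.sum := by simpa using h 1

theorem Eig.add (h : Eig χ g s) (h' : Eig ψ g t) : Eig (χ + ψ) g (s + t) := fun k => by
  simp [h k, h' k]

theorem Eig.mul (h : Eig χ g s) (l : G →* ℂˣ) :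
    Eig (fun x => (l x : ℂ) * χ x) g (s.map ((l g : ℂ) * ·)) := fun k => by
  simp [h k, mul_pow, sum_map_mul_left]

theorem eig_comp (f : H →* G) {y : H} : Eig (fun x => χ (f x)) y s ↔ Eig χ (f y) s := by
  simp [Eig]

theorem eig_res {L : Subgroup G} {y : L} : Eig (fun x : L => χ x) y s ↔ Eig χ y s :=
  eig_comp L.subtype

theorem Eig.conj (h : Eig χ g s) (hχ : IsClassFunction G χ) (x : G) : Eig χ (x * g * x⁻¹) s :=
  fun k => by rw [conj_pow, hχ, h k]

theorem Eig.pow (h : Eig χ g s) (n : ℕ) : Eig χ (g ^ n) (s.map (· ^ n)) := fun k => by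
  simp [← pow_mul, h _]

theorem Eig.center_mul (h : Eig χ g s) {u : ℂˣ} (hz : ∀ x, χ (z * x) = u * χ x) (e : Commute z g) :
    Eig χ (z * g) (s.map ((u : ℂ) * ·)) := fun k => by
  have : ∀ x, χ (z ^ k * x) = u ^ k * χ x := by
    induction k with
    | zero => simp
    | succ k ih => intro x; rw [pow_succ', mul_assoc, hz, ih, pow_succ', mul_assoc]
  simp [e.mul_pow, this, h k, mul_pow, sum_map_mul_left]

variable [Finite G]

theorem exists_eig' (h : IsCharacter G χ) (g : G) :
    ∃ s, Eig χ g s ∧ ∀ a ∈ s, a ^ orderOf g = 1 := by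
  obtain ⟨n, ω, -, h1, h2⟩ := char_exists_roots h g
  refine ⟨Finset.univ.val.map ω, eig_fin.2 fun k => by simpa using h2 k, fun a ha => ?_⟩
  obtain ⟨i, -, rfl⟩ := mem_map.1 ha
  exact h1 i

theorem exists_eig (h : IsCharacter G χ) (g : G) : ∃ s, Eig χ g s :=
  (exists_eig' h g).imp fun _ => And.left

theorem Eig.pow_eq (h : Eig χ g s) (hχ : IsCharacter G χ) {n : ℕ} (hn : g ^ n = 1) {a : ℂ}
    (ha : a ∈ s) : a ^ n = 1 := by
  obtain ⟨t, h1, h2⟩ := exists_eig' hχ g
  obtain ⟨k, rfl⟩ := orderOf_dvd_of_pow_eq_one hn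
  rw [pow_mul, h2 a (h.unique h1 ▸ ha), one_pow]

theorem Eig.norm (h : Eig χ g s) (hχ : IsCharacter G χ) {a : ℂ} (ha : a ∈ s) : ‖a‖ = 1 :=
  norm_eq_one_of_pow_eq_one' (orderOf_pos g).ne' (h.pow_eq hχ (pow_orderOf_eq_one g) ha)

theorem Eig.ne_zero (h : Eig χ g s) (hχ : IsCharacter G χ) {a : ℂ} (ha : a ∈ s) : a ≠ 0 :=
  fun e => by simpa [e] using h.norm hχ ha

omit [Finite G] in
theorem eig_of_mul (h : IsCharacter G χ) {u : ℂˣ} (hz : ∀ x, χ (z * x) = u * χ x) :
    Eig χ z (replicate (charDegree χ) u) := by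
  obtain ⟨n, hn⟩ := char_one_eq_nat h
  have : Eig χ 1 (replicate (charDegree χ) 1) := fun k => by simp [charDegree, hn]
  simpa using this.center_mul hz (Commute.one_right z)

omit [Finite G] in
theorem eig_of_center (h : IsCharacter G χ) (hz : z ∈ charCenter χ) :
    ∃ c, Eig χ z (replicate (charDegree χ) c) :=
  hz.elim fun _ hu => ⟨_, eig_of_mul h hu⟩

omit [Finite G] in
theorem eig_of_ker (h : IsCharacter G χ) (hz : z ∈ charKer χ) :
    Eig χ z (replicate (charDegree χ) 1) := eig_of_mul h (u := 1) (by simpa using mem_charKer.1 hz)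

theorem Eig.mem_center (h : Eig χ g s) (hχ : IsCharacter G χ) (e : ∀ a ∈ s, a = c) :
    g ∈ charCenter χ := by
  rw [mem_charCenter_iff hχ, h.val, h.one]
  rcases s.empty_or_exists_mem with rfl | ⟨a, ha⟩
  · simp
  · rw [eq_replicate_of_mem e]
    simp [← e a ha, h.norm hχ ha]

theorem Eig.mem_ker (h : Eig χ g s) (hχ : IsCharacter G χ) (e : ∀ a ∈ s, a = 1) :
    g ∈ charKer χ := by
  rw [mem_charKer_iff hχ, h.val, h.one, eq_replicate_of_mem e]
  simp

theorem Eig.det (h : Eig χ g s) (hχ : IsCharacter G χ) : detChar χ g = s.prod := by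
  obtain ⟨n, a, rfl⟩ := exists_fin s
  exact detChar_eq_prod hχ a (fun i => h.ne_zero hχ (mem_map_of_mem _ (Finset.mem_univ_val i)))
    (eig_fin.1 h)

theorem div_mem_ker (hχ : IsCharacter G χ) (h : Eig χ g (replicate (charDegree χ) c))
    (h' : Eig χ w (replicate (charDegree χ) c)) : g⁻¹ * w ∈ charKer χ := by
  obtain ⟨u, hu⟩ := h.mem_center hχ fun _ => eq_of_mem_replicate
  have h1 := hu (g⁻¹ * w)
  have h2 := hu 1
  rw [mul_inv_cancel_left, h'.val, ← h.val] at h1
  rw [mul_one, h1] at h2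
  exact (mem_charKer_iff hχ).2 (mul_left_cancel₀ u.ne_zero h2)

theorem Eig.count_le {V : Type*} [AddCommGroup V] [Module ℂ V] [FiniteDimensional ℂ V]
    {ρ : Representation ℂ G V} (h : Eig ρ.character g s) (c : ℂ) :
    count c s ≤ finrank ℂ (End.eigenspace (ρ g) c) := by
  obtain ⟨b, ω, -, h1, h2⟩ := exists_eigenbasis_rep ρ (isOfFinOrder_of_finite g)
  rw [h.unique (eig_fin.2 fun k => by simpa using h2 k), count_map]
  refine le_trans (le_of_eq (Fintype.card_subtype _).symm)
    (LinearIndependent.fintype_card_le_finrank (b := fun i : {i // c = ω i} =>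
      (⟨b i, End.mem_eigenspace_iff.2 (by simpa [← i.2] using h1 1 i)⟩ : End.eigenspace (ρ g) c))
      (LinearIndependent.of_comp (Submodule.subtype _)
        (b.linearIndependent.comp _ Subtype.val_injective)))

/-- Two generators with large eigenspaces have a common eigenvector. -/
theorem one_eq_of_count (hχ : IsIrrCharacter G χ) (hG : closure {z, w} = ⊤) (h : Eig χ z s)
    (h' : Eig χ w t) (l : charDegree χ < count c s + count c' t) : charDegree χ = 1 := by
  obtain ⟨n, ρ, hρ, rfl⟩ := hχ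
  have e : charDegree ρ.character = finrank ℂ (Fin n → ℂ) := by simp [charDegree]
  rw [e] at l ⊢
  obtain ⟨v, ⟨h1, h2⟩, h3⟩ := (Submodule.ne_bot_iff _).1 fun k => l.not_ge
    ((add_le_add (h.count_le c) (h'.count_le c')).trans
      (Submodule.finrank_add_finrank_le_of_disjoint (disjoint_iff.2 k)))
  have : ∀ g, ρ g v ∈ Submodule.span ℂ {v} := fun g => by
    have hg : g ∈ Submonoid.closure {z, w} := by
      rw [← closure_toSubmonoid_of_finite, hG]; trivial
    induction hg using Submonoid.closure_induction with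
    | mem g hg =>
      rcases hg with rfl | rfl
      exacts [Submodule.mem_span_singleton.2 ⟨_, (End.mem_eigenspace_iff.1 h1).symm⟩,
        Submodule.mem_span_singleton.2 ⟨_, (End.mem_eigenspace_iff.1 h2).symm⟩]
    | one => simp
    | mul a b _ _ ha hb =>
      obtain ⟨r, hr⟩ := Submodule.mem_span_singleton.1 hb
      rw [map_mul, End.mul_apply, ← hr, map_smul]
      exact Submodule.smul_mem _ _ ha
  rw [← finrank_top, ← (((isIrreducible_iff ρ).1 hρ).2 (Submodule.span ℂ {v}) fun g u hu => by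
    obtain ⟨r, rfl⟩ := Submodule.mem_span_singleton.1 hu
    rw [map_smul]
    exact Submodule.smul_mem _ _ (this g)).resolve_left (by simpa using h3), finrank_span_singleton h3]

/-- An element with two eigenvalues whose `k`-th powers differ has the centralizer of its power. -/
theorem Eig.commute (hχ : IsCharacter G χ) (hf : charKer χ = ⊥) (h : Eig χ w s)
    (e : ∀ a ∈ s, a = c ∨ a = c') {k : ℕ} (hk : c ^ k ≠ c' ^ k) (hg : Commute g (w ^ k)) :
    Commute g w := by
  let C := centralizer ({w ^ k} : Set G)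
  let w' : C := ⟨w, mem_centralizer_singleton_iff.2 (Commute.self_pow w k)⟩
  let g' : C := ⟨g, mem_centralizer_singleton_iff.2 hg⟩
  have := char_induction (P := fun φ : C → ℂ => ∀ s, Eig φ w' s → (∀ a ∈ s, a = c ∨ a = c') →
      w' * g' * w'⁻¹ * g'⁻¹ ∈ charKer φ) (fun _ _ _ _ => rfl) (fun φ hφ s h e => ?_)
    (fun φ φ' hφ hφ' a b s h e => ?_) (char_restrict hχ C) s (eig_res.2 h) e
  · rw [charKer_restrict hχ, hf, bot_subgroupOf, mem_bot, mul_inv_eq_one, mul_inv_eq_iff_eq_mul] at this
    exact (congrArg Subtype.val this).symm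
  · have hc := irr_isCharacter hφ
    obtain ⟨b, hb⟩ := eig_of_center hc (center_le_charCenter hφ (x := w' ^ k) (mem_center_iff.2
      fun y => Subtype.ext (mem_centralizer_singleton_iff.1 y.2)))
    have f : ∀ a ∈ s, a ^ k = b := fun a ha =>
      eq_of_mem_replicate ((h.pow k).unique hb ▸ mem_map_of_mem _ ha)
    refine commutator_mem_charKer_of_mem_charCenter (irr_isClassFunction hφ) ?_ _
    by_cases i : c ∈ s
    · exact h.mem_center hc (c := c) fun a ha => (e a ha).resolve_right fun j =>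
        hk ((f c i).trans (j ▸ f a ha).symm)
    · exact h.mem_center hc (c := c') fun a ha => (e a ha).resolve_left fun j => i (j ▸ ha)
  · obtain ⟨s1, h1⟩ := exists_eig hφ w'
    obtain ⟨s2, h2⟩ := exists_eig hφ' w'
    obtain rfl := h.unique (h1.add h2)
    exact charKer_add hφ hφ' ▸ ⟨a _ h1 fun x hx => e x (mem_add.2 (.inl hx)),
      b _ h2 fun x hx => e x (mem_add.2 (.inr hx))⟩

/-- Commutators act trivially on the simple eigenspaces of a central element. -/
theorem card_le_count (hχ : IsCharacter G χ) (hw : w ∈ center G) (hz : z ∈ commutator G)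
    (h : Eig χ w s) (h' : Eig χ z t) (e : ∀ a ≠ 1, count a s ≤ 1) :
    card s ≤ count 1 s + count 1 t := by
  refine char_induction (P := fun φ : G → ℂ => ∀ s t, Eig φ w s → Eig φ z t →
    (∀ a ≠ 1, count a s ≤ 1) → card s ≤ count 1 s + count 1 t) (fun s t h _ _ => ?_)
    (fun φ hφ s t h h' e => ?_) (fun φ φ' hφ hφ' a b s t h h' e => ?_) hχ s t h h' e
  · simp [h.card, charDegree]
  · have hc := irr_isCharacter hφ
    obtain ⟨b, hb⟩ := eig_of_center hc (center_le_charCenter hφ hw)
    obtain rfl := h.unique hb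
    by_cases i : b = 1
    · simp [i]
    · have := e b i
      rw [count_replicate_self] at this
      obtain ⟨n, n0, hn⟩ := irr_one_eq_nat hφ
      have d : charDegree φ = n := by simp [charDegree, hn]
      rw [h'.unique (eig_of_ker hc (commutator_le_charKer_of_one hc
        (by rw [hn, show n = 1 by omega, Nat.cast_one]) hz))]
      simp
  · obtain ⟨s1, h1⟩ := exists_eig hφ w
    obtain ⟨s2, h2⟩ := exists_eig hφ' w
    obtain ⟨t1, h3⟩ := exists_eig hφ z
    obtain ⟨t2, h4⟩ := exists_eig hφ' z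
    obtain rfl := h.unique (h1.add h2)
    obtain rfl := h'.unique (h3.add h4)
    simp only [count_add, Multiset.card_add] at e ⊢
    have := a _ _ h1 h3 fun x hx => by have := e x hx; omega
    have := b _ _ h2 h4 fun x hx => by have := e x hx; omega
    omega

end CF.Small.Lg
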