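import Cfsg.Agent.Small.Lg1

/-!
Reduction of a character of degree less than `p - 1` to a group of order not divisible by `p ^ 2`.
-/

set_option autoImplicit false

namespace CF.Small.Lg

open Subgroup Cfsg CF.Char CF.Clifford CF.BlockB Multiset Function

universe u

section

variable {p : ℕ} {G H : Type*} [Group G] [Group H] {χ ψ ξ : G → ℂ} {x y : G}

/-- `p`-elements. -/
def Pel (p : ℕ) (x : G) : Prop := ∃ k, x ^ p ^ k = 1

theorem Pel.map (h : Pel p x) (f : G →* H) : Pel p (f x) :=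
  h.imp fun k hk => by rw [← map_pow, hk, map_one]

theorem pel_coe {L : Subgroup G} {x : L} : Pel p (x : G) ↔ Pel p x := by
  simp [Pel, Subtype.ext_iff]

theorem Pel.conj (h : Pel p x) (g : G) : Pel p (g * x * g⁻¹) := h.map (MulAut.conj g).toMonoidHom

theorem Pel.inv (h : Pel p x) : Pel p x⁻¹ := h.imp fun k hk => by rw [inv_pow, hk, inv_one]

theorem Pel.zpow (h : Pel p x) (n : ℤ) : Pel p (x ^ n) := h.imp fun k hk => by
  rw [← zpow_natCast, ← zpow_mul, mul_comm, zpow_mul, zpow_natCast, hk, one_zpow]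

theorem Pel.mul (h : Pel p x) (h' : Pel p y) (e : Commute x y) : Pel p (x * y) := by
  obtain ⟨k, hk⟩ := h
  obtain ⟨l, hl⟩ := h'
  exact ⟨k + l, by rw [e.mul_pow, pow_add, pow_mul, hk, mul_comm (p ^ k), pow_mul, hl]; simp⟩

theorem Pel.isPGroup (h : Pel p x) : IsPGroup p (zpowers x) := by
  rintro ⟨_, n, rfl⟩
  exact pel_coe.1 (h.zpow n)

theorem pel_of_mem {P : Subgroup G} (hP : IsPGroup p P) (hx : x ∈ P) : Pel p x :=
  (pel_coe (x := ⟨x, hx⟩)).2 (hP _)

theorem Pel.mem_sylow (h : Pel p x) (P : Sylow p G) (e : ∀ y ∈ P, Commute x y) : x ∈ P :=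
  (P.is_maximal' (h.isPGroup.to_sup_of_normal_right' P.isPGroup' (zpowers_le.2
    (centralizer_le_normalizer _ fun y hy => (e y hy).symm))) le_sup_right).le
      (mem_sup_left (mem_zpowers x))

theorem Pel.exists_sylow (h : Pel p x) (h' : Pel p y) (e : Commute x y) :
    ∃ P : Sylow p G, x ∈ P ∧ y ∈ P := by
  obtain ⟨P, hP⟩ := (h.isPGroup.to_sup_of_normal_right' h'.isPGroup (zpowers_le.2
    (centralizer_le_normalizer _ (by rintro _ ⟨n, rfl⟩; exact (e.zpow_right n).symm)))).exists_le_sylow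
  exact ⟨P, hP (mem_sup_left (mem_zpowers x)), hP (mem_sup_right (mem_zpowers y))⟩

variable [hp : Fact p.Prime]

theorem Pel.ord (h : Pel p x) : ∃ k, orderOf x = p ^ k := by
  obtain ⟨k, hk⟩ := h
  exact ((Nat.dvd_prime_pow hp.out).1 (orderOf_dvd_of_pow_eq_one hk)).imp fun _ => And.right

theorem Pel.eq_one (h : Pel p x) (h' : ¬ p ∣ orderOf x) : x = 1 := by
  obtain ⟨_ | k, hk⟩ := h.ord
  · simpa using hk
  · exact (h' (hk ▸ dvd_pow_self p k.succ_ne_zero)).elim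

theorem map_eq_one_of_gen {A : Type*} [CommGroup A] {S : Set G} (hS : ∀ x ∈ S, Pel p x)
    (hG : closure S = ⊤) (f : G →* A) (hy : ¬ p ∣ orderOf y) : f y = 1 := by
  have : ∀ g ∈ closure S, Pel p (f g) := fun g hg => by
    induction hg using closure_induction with
    | mem g hg => exact (hS g hg).map f
    | one => exact ⟨0, by simp⟩
    | mul a b _ _ ha hb => exact map_mul f a b ▸ ha.mul hb (Commute.all _ _)
    | inv a _ ha => exact map_inv f a ▸ ha.inv
  exact (this y (hG.ge trivial)).eq_one fun h => hy (h.trans (orderOf_map_dvd f y))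

variable (p) in
/-- The `p`-elements commute modulo the kernel. -/
def Good (χ : G → ℂ) : Prop := ∀ x y, Pel p x → Pel p y → x * y * x⁻¹ * y⁻¹ ∈ charKer χ

variable (p) in
/-- A normal `p`-subgroup modulo the kernel has index not divisible by `p ^ 2`. -/
def Red (χ : G → ℂ) : Prop :=
  ∃ O : Subgroup G, O.Normal ∧ (∀ x ∈ O, ∃ k, x ^ p ^ k ∈ charKer χ) ∧ ¬ p ^ 2 ∣ O.index

variable [Finite G]

theorem pel_pPart (x : G) : Pel p (pPart p x) :=
  ⟨_, pPart_pow_eq_one hp.out (isOfFinOrder_of_finite x)⟩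

theorem Pel.lift {y : H} (h : Pel p y) {f : G →* H} {L : Subgroup G} (hy : y ∈ L.map f) :
    ∃ x ∈ L, Pel p x ∧ f x = y := by
  obtain ⟨x, hx, rfl⟩ := hy
  exact ⟨_, pPart_mem hx, pel_pPart x, (map_pPart hp.out f x).trans (pPart_of_pElement hp.out h.ord)⟩

theorem Pel.ord_eq (h : Pel p x) (h1 : x ≠ 1) (hG : ¬ p ^ 2 ∣ Nat.card G) : orderOf x = p := by
  obtain ⟨_ | _ | k, hk⟩ := h.ord
  · exact (h1 (by simpa using hk)).elim
  · simpa using hk
  · exact (hG ((pow_dvd_pow p (by omega)).trans (hk ▸ orderOf_dvd_natCard x))).elim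

theorem commute_of_pgroup (hχ : IsCharacter G χ) (hf : charKer χ = ⊥) (hd : charDegree χ < p)
    {P : Subgroup G} (hP : IsPGroup p P) (hx : x ∈ P) (hy : y ∈ P) : Commute x y :=
  (abel_of_lt hχ hf (charDegree_eq hχ).symm fun q hq d => by
    obtain ⟨m, hm⟩ := hP.exists_card_eq
    rwa [(Nat.prime_dvd_prime_iff_eq hq hp.out).1 (hq.dvd_of_dvd_pow (hm ▸ d))]).mul_comm hx hy

theorem good_comp {ζ : H → ℂ} {f : G →* H} (hf : Surjective f) :
    Good p (fun x => ζ (f x)) ↔ Good p ζ := by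
  simp only [Good, charKer_comp ζ f hf, mem_comap, map_mul, map_inv]
  refine ⟨fun h a b ha hb => ?_, fun h a b ha hb => h _ _ (ha.map f) (hb.map f)⟩
  obtain ⟨a, -, h1, rfl⟩ := ha.lift (L := ⊤) (f := f) (by rw [map_top_of_surjective f hf]; trivial)
  obtain ⟨b, -, h2, rfl⟩ := hb.lift (L := ⊤) (f := f) (by rw [map_top_of_surjective f hf]; trivial)
  exact h a b h1 h2

omit hp in
theorem good_add (hχ : IsCharacter G χ) (hψ : IsCharacter G ψ) :
    Good p (χ + ψ) ↔ Good p χ ∧ Good p ψ := by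
  simp only [Good, charKer_add hχ hψ, mem_inf, imp_and, forall_and]

omit hp in
theorem good_mul (hχ : IsCharacter G χ) (l : G →* ℂˣ) :
    Good p (fun x => (l x : ℂ) * χ x) ↔ Good p χ := by
  simp only [Good, mem_charKer_iff hχ, mem_charKer_iff (χ := fun x => (l x : ℂ) * χ x)
    (char_mul (char_linear l) hχ)]
  have : ∀ x y, l (x * y * x⁻¹ * y⁻¹) = 1 := fun x y => by
    simp only [map_mul, map_inv, mul_inv_cancel_comm, mul_inv_cancel]
  simp only [this, map_one, Units.val_one, one_mul]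

omit hp in
theorem good_res (hχ : IsCharacter G χ) (hf : charKer χ = ⊥) {L : Subgroup G} :
    Good p (fun x : L => χ x) ↔ ∀ x ∈ L, ∀ y ∈ L, Pel p x → Pel p y → Commute x y := by
  simp [Good, charKer_restrict hχ, hf, ← pel_coe, Subtype.ext_iff, mul_inv_eq_one,
    mul_inv_eq_iff_eq_mul, commute_iff_eq]

omit hp in
theorem exists_bad (hχ : IsCharacter G χ) (h : ¬ Good p χ) :
    ∃ ξ ψ, IsIrrCharacter G ξ ∧ IsCharacter G ψ ∧ χ = ξ + ψ ∧ ¬ Good p ξ := by
  refine char_induction (P := fun χ => ¬ Good p χ → ∃ ξ ψ, IsIrrCharacter G ξ ∧ IsCharacter G ψ ∧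
    χ = ξ + ψ ∧ ¬ Good p ξ) (fun h => (h fun _ _ _ _ _ => rfl).elim)
    (fun φ hφ h => ⟨φ, 0, hφ, isCharacter_zero, (add_zero φ).symm, h⟩)
    (fun φ φ' hφ hφ' a b h => ?_) hχ h
  rcases not_and_or.1 (mt (good_add hφ hφ').2 h) with h | h
  · obtain ⟨ξ, ψ, h1, h2, rfl, h3⟩ := a h
    exact ⟨ξ, _, h1, char_add h2 hφ', add_assoc _ _ _, h3⟩
  · obtain ⟨ξ, ψ, h1, h2, rfl, h3⟩ := b h
    exact ⟨ξ, _, h1, char_add hφ h2, add_left_comm _ _ _, h3⟩

omit hp [Finite G] in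
theorem red_comp {ζ : H → ℂ} {f : G →* H} (hf : Surjective f) :
    Red p (fun x => ζ (f x)) ↔ Red p ζ := by
  simp only [Red, charKer_comp ζ f hf, mem_comap, map_pow]
  refine ⟨fun ⟨O, a, b, c⟩ => ⟨O.map f, a.map f hf, ?_, fun d => c (d.trans (index_map_dvd O hf))⟩,
    fun ⟨O, a, b, c⟩ => ⟨O.comap f, inferInstance, fun x hx => b _ hx,
      by rwa [index_comap_of_surjective O hf]⟩⟩
  rintro _ ⟨x, hx, rfl⟩
  exact b x hx

omit hp in
theorem Red.of_mul (hχ : IsCharacter G χ) {l : G →* ℂˣ} {a : ℕ} (hl : ∀ x, l x ^ p ^ a = 1)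
    (h : Red p fun x => (l x : ℂ) * χ x) : Red p χ := by
  obtain ⟨O, h1, h2, h3⟩ := h
  refine ⟨O, h1, fun x hx => ?_, h3⟩
  obtain ⟨k, hk⟩ := h2 x hx
  have := (mem_charKer_iff (char_mul (char_linear l) hχ)).1 (pow_mem hk (p ^ a))
  simp only [Pi.mul_apply, map_pow _ _ (p ^ a), hl, map_one, Units.val_one, one_mul] at this
  exact ⟨k + a, (mem_charKer_iff hχ).2 (by rwa [pow_add, pow_mul])⟩

omit hp in
theorem Red.of_add (hχ : IsCharacter G χ) (hψ : IsCharacter G ψ) (h : Red p (χ + ψ)) : Red p χ := by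
  obtain ⟨O, h1, h2, h3⟩ := h
  exact ⟨O, h1, fun x hx => (h2 x hx).imp fun k hk => (charKer_add hχ hψ ▸ hk).1, h3⟩

theorem Good.exists (hχ : IsCharacter G χ) (h : Good p χ) :
    ∃ O : Subgroup G, O.Normal ∧ (∀ x ∈ O, ∃ k, x ^ p ^ k ∈ charKer χ) ∧ ¬ p ∣ O.index := by
  have := charKer_normal (char_isClassFunction hχ)
  obtain ⟨ζ, -, e⟩ := exists_char_quotient hχ _ le_rfl
  have hs := QuotientGroup.mk'_surjective (charKer χ)
  have h1 : Good p ζ := (good_comp hs).1 (e ▸ h)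
  have h2 : charKer ζ = ⊥ := by
    rw [← map_comap_eq_self_of_surjective hs (charKer ζ), ← charKer_comp ζ _ hs]
    exact (Subgroup.map_eq_bot_iff _).2 (by rw [QuotientGroup.ker_mk']; exact (congrArg charKer e).ge)
  obtain ⟨P⟩ : Nonempty (Sylow p (G ⧸ charKer χ)) := inferInstance
  have : (P : Subgroup (G ⧸ charKer χ)).Normal := ⟨fun x hx g =>
    ((pel_of_mem P.isPGroup' hx).conj g).mem_sylow P fun y hy => by
      have := h1 _ _ ((pel_of_mem P.isPGroup' hx).conj g) (pel_of_mem P.isPGroup' hy)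
      rwa [h2, mem_bot, mul_inv_eq_one, mul_inv_eq_iff_eq_mul] at this⟩
  exact ⟨(P : Subgroup (G ⧸ charKer χ)).comap (QuotientGroup.mk' _), inferInstance, fun x hx =>
    (pel_of_mem P.isPGroup' hx).imp fun k hk => (QuotientGroup.eq_one_iff _).1 hk,
      by rw [index_comap_of_surjective _ hs]; exact P.not_dvd_index⟩

theorem Red.add (hχ : IsCharacter G χ) (hψ : IsCharacter G ψ) (h : Red p χ) (h' : Good p ψ) :
    Red p (χ + ψ) := by
  obtain ⟨A, a1, a2, a3⟩ := h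
  obtain ⟨B, b1, b2, b3⟩ := h'.exists hψ
  refine ⟨A ⊓ B, inferInstance, fun x hx => ?_, fun d => a3 ?_⟩
  · obtain ⟨k, hk⟩ := a2 x hx.1
    obtain ⟨l, hl⟩ := b2 x hx.2
    exact ⟨k + l, charKer_add hχ hψ ▸ ⟨by rw [pow_add, pow_mul]; exact pow_mem hk _,
      by rw [pow_add, mul_comm, pow_mul]; exact pow_mem hl _⟩⟩
  · rw [← relIndex_mul_index inf_le_left, inf_relIndex_left] at d
    exact (((hp.out.coprime_iff_not_dvd.2 fun k => b3 (k.trans
      (relIndex_dvd_index_of_normal B A))).pow_left 2).dvd_of_dvd_mul_left d)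

theorem Good.red (hχ : IsCharacter G χ) (h : Good p χ) : Red p χ :=
  (h.exists hχ).imp fun _ h => ⟨h.1, h.2.1, fun d => h.2.2 ((dvd_pow_self p two_ne_zero).trans d)⟩

theorem exists_twist (hχ : IsCharacter G χ) (hd : ¬ p ∣ charDegree χ) :
    ∃ (l : G →* ℂˣ) (a : ℕ), (∀ x, l x ^ p ^ a = 1) ∧ ∀ o ∈ charCenter χ,
      (∃ k, o ^ p ^ k ∈ charKer χ) → o ∈ charKer fun x => (l x : ℂ) * χ x := by
  have hN := Nat.card_pos (α := G).ne'
  set a := (Nat.card G).factorization p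
  set r := Nat.card G / p ^ a
  have e : p ^ a * r = Nat.card G := Nat.ordProj_mul_ordCompl_eq_self _ _
  have hr : p.Coprime r := Nat.coprime_ordCompl hp.out hN
  obtain ⟨m, -, hm⟩ := Nat.exists_mul_mod_eq_of_coprime (p ^ a - 1) (((hp.out.coprime_iff_not_dvd.2
    hd).mul_right hr).symm.pow_right a) (pow_ne_zero a hp.out.ne_zero)
  refine ⟨detHom hχ ^ (r * m), a, fun x => by
    rw [MonoidHom.pow_apply, ← pow_mul, mul_right_comm, mul_comm r, e, pow_mul, ← map_pow,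
      pow_card_eq_one', map_one, one_pow], fun o ⟨c, hc⟩ ⟨k, hk⟩ x => ?_⟩
  have h1 := eig_of_mul hχ hc
  have h2 : (c : ℂ) ∈ replicate (charDegree χ) (c : ℂ) :=
    mem_replicate.2 ⟨fun h => hd (h ▸ dvd_zero p), rfl⟩
  have h3 : orderOf (c : ℂ) ∣ p ^ a := ((hr.pow_left k).coprime_dvd_left (orderOf_dvd_of_pow_eq_one
    (eq_of_mem_replicate ((h1.pow _).unique (eig_of_ker hχ hk) ▸ mem_map_of_mem _ h2)))).dvd_of_dvd_mul_right
      (e ▸ orderOf_dvd_of_pow_eq_one (h1.pow_eq hχ pow_card_eq_one' h2))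
  have h4 : (c : ℂ) ^ (charDegree χ * r * m + 1) = 1 := orderOf_dvd_iff_pow_eq_one.1 (h3.trans
    ((Nat.modEq_zero_iff_dvd.1 ((Nat.ModEq.add_right 1 hm).trans (by
      rw [Nat.sub_add_cancel (Nat.one_le_pow _ _ hp.out.pos)]; exact Nat.modEq_zero_iff_dvd.2 dvd_rfl)))))
  simp only [map_mul, hc, Units.val_mul, MonoidHom.pow_apply, Units.val_pow_eq_pow_val, coe_detHom,
    h1.det hχ, prod_replicate]
  rw [← pow_mul, ← mul_assoc (charDegree χ)]
  linear_combination (detChar χ x ^ (r * m) * χ x) * h4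

end

end CF.Small.Lg
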