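import Cfsg.Agent.Small.Lg2
import Cfsg.Agent.Small.SC
import Cfsg.Agent.Char.TIP

/-!
The structure of a character of degree less than `p - 1` on which `p`-elements do not commute.
-/

set_option autoImplicit false

namespace CF.Small

open Subgroup Cfsg CF.Char CF.Clifford CF.BlockB CF.PF Multiset Function

universe u

variable {p : ℕ} [hp : Fact p.Prime]

theorem PSet.low_struct {G : Type*} [Group G] [Finite G] {S : PSet p G} {ζ : G → ℂ}
    (hζ : ζ ∈ irr (⊤ : Subgroup G)) (hf : charKer ζ = ⊥) (hd : charDegree ζ + 1 < p)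
    (hn : ¬ S.P.Normal) : res (normalClosure {S.z}) ζ ∈ irr (normalClosure ({S.z} : Set G)) ∧
    S.K ≤ center G ∧ 2 * S.fi + 1 ≤ p ∧ ∃ θ ∈ irr S.K, ∃ B : S.Blk θ, ∃ j ≠ 0, B.ex j = ζ ∧
      (B.δ = -1 ∧ B.x + S.fi = p ∨ B.δ = 1 ∧ B.x = S.fi) ∧ B.x = charDegree ζ := by
  have hc := isCh_of_irr hζ
  obtain ⟨θ, hθ, h1, h2, h3⟩ := exists_constituent hc hf hn
  have h4 : charDegree ζ = charDegree θ := by
    have := clifford_one le_top (normalizer_eq_top (normalClosure {S.z})).ge hζ hθ h1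
    rw [← coe_mu le_top hc (isCh_of_irr hθ), ← coe_deg hc, ← coe_deg (isCh_of_irr hθ),
      ← mul_assoc] at this
    norm_cast at this
    generalize mu _ ζ θ * relIndex (inertia ⊤ θ) ⊤ = c at this
    have := deg_pos hζ
    rcases c with _ | _ | c
    · omega
    · omega
    · nlinarith
  exact ⟨res_eq_of_le hc hθ h1 h4.le, struct_of_core (S := S) hζ hf hd fun y hy =>
    charCenter_eq_center_of_faithful (mem_irr_top.1 hζ) hf ▸
      mem_charCenter_of_res hc (res_eq_of_le hc hθ h1 h4.le) fun w hw =>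
      (normalClosure_le_normal (N := centralizer (pPrimeCore p G)) (by
        rintro _ rfl y hy
        have := S.comm_mem_ker Solv.not_dvd_card_pPrimeCore (isCh_top.1 hc) hd hy
        rw [hf, mem_bot, mul_inv_eq_one, mul_inv_eq_iff_eq_mul] at this
        exact this.symm) hw y hy).symm⟩

namespace Lg

section

variable {G : Type*} [Group G] [Finite G] {χ ψ ξ : G → ℂ} {x y : G}

theorem coe_deg (h : IsCharacter G χ) : (charDegree χ : ℂ) = χ 1 := charDegree_eq h

theorem deg_add (h : IsCharacter G χ) (h' : IsCharacter G ψ) :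
    charDegree (χ + ψ) = charDegree χ + charDegree ψ := by
  have := coe_deg (char_add h h')
  rw [Pi.add_apply, ← coe_deg h, ← coe_deg h'] at this
  exact_mod_cast this

theorem deg_pos' (h : IsIrrCharacter G χ) : 0 < charDegree χ := deg_pos (mem_irr_top.2 h)

theorem deg_dvd_of_normal (h : IsIrrCharacter G χ) {N : Subgroup G} [N.Normal] {ξ ψ : N → ℂ}
    (hξ : IsIrrCharacter N ξ) (hψ : IsCharacter N ψ) (e : (fun x : N => χ x) = ξ + ψ) :
    charDegree ξ ∣ charDegree χ := by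
  have := Fintype.ofFinite G
  have := Fintype.ofFinite N
  obtain ⟨n, hn⟩ := inner_char_eq_nat hψ (irr_isCharacter hξ)
  have i : classInner (fun x : N => χ x) ξ = (n + 1 : ℕ) := by
    rw [e, Char.inner_add_left, inner_irr_self hξ, hn]; push_cast; ring
  have := (NormalEmb.sub N).clifford_one h hξ (i.trans_ne (Nat.cast_ne_zero.2 n.succ_ne_zero))
  change χ 1 = classInner (fun x : N => χ x) ξ * _ at this
  rw [i, ← coe_deg (irr_isCharacter h), ← coe_deg (irr_isCharacter hξ), ← mul_assoc] at this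
  exact Dvd.intro_left _ (by exact_mod_cast this.symm)

theorem not_normal (S : PSet p G) (h : ¬ Good p χ) : ¬ S.P.Normal := fun hn => h fun x y hx hy => by
  have : ∀ x, Pel p x → x ∈ S.P := fun x ⟨k, hk⟩ => by
    obtain ⟨g, hg⟩ := S.exists_conj_mem_P hk
    simpa [mul_assoc] using hn.conj_mem _ hg g⁻¹
  obtain ⟨i, rfl⟩ := S.mem_P_iff.1 (this y hy)
  simp [(S.commute_zp (S.P_le_C (this x hx)) i).eq]

theorem sl0 (hχ : IsIrrCharacter G χ) (hf : charKer χ = ⊥) (hd : charDegree χ + 1 < p)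
    (hG : ¬ p ^ 2 ∣ Nat.card G) (h : ¬ Good p χ) (hx : Pel p x) (h1 : x ≠ 1) :
    (∃ s, Eig χ x s ∧ s.Nodup ∧ p + 2 * count 1 s ≤ 2 * charDegree χ + 1) ∧
      (∀ y, ¬ p ∣ orderOf y → Commute y x → y ∈ center G) ∧ x ∈ commutator G := by
  obtain ⟨S, rfl⟩ := exists_pset_eq (hx.ord_eq h1 hG) hG
  have hn := not_normal S h
  have h2 := (PSet.feit_low (mem_irr_top.2 hχ) hf hd hn).1
  obtain ⟨-, hK, h3, θ, hθ, B, j, hj, rfl, h4, h5⟩ := PSet.low_struct (mem_irr_top.2 hχ) hf hd hn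
  refine ⟨?_, fun y hy e => hK (S.mem_K_iff.2 ⟨S.mem_C_iff.2 e, hy⟩), S.z_mem_commutator fun k =>
    hn (PSet.normal_of_mem_center (charCenter_eq_center_of_faithful hχ hf ▸
      PSet.z_mem_center_of_fi k (mem_irr_top.2 hχ) hd))⟩
  have hE := (B.toEx hK hθ hj).1
  have key : ∀ T : Finset (ZMod p), T.card = charDegree (B.ex j) →
      (∀ i ≠ 0, B.δ * S.eta j i = ∑ a ∈ T, ec (j * a * i)) →
      Eig (B.ex j) S.z (T.val.map fun a => ec (j * a)) ∧ (T.val.map fun a => ec (j * a)).Nodup :=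
    fun T a b => ⟨fun k => by
      simp only [Multiset.map_map, comp_def, ← AddChar.map_nsmul_eq_pow, nsmul_eq_mul, mul_comm (k : ZMod p)]
      rw [← S.zp_natCast]
      by_cases i : (k : ZMod p) = 0
      · simp [i, a, coe_deg (irr_isCharacter hχ)]
      · simpa [hE.one, b _ i] using hE.val _ i 1 (one_mem _),
      T.nodup.map (ec_injective.comp (mul_right_injective₀ hj))⟩
  rcases h4 with ⟨h4, h6⟩ | ⟨h4, h6⟩
  · obtain ⟨a, b⟩ := key S.Asᶜ (by rw [Finset.card_compl, PSet.card_As, ZMod.card]; omega)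
      fun i hi => by
        have := sum_ec_mul (j * i)
        rw [if_neg (mul_ne_zero hj hi), ← Finset.sum_add_sum_compl S.As] at this
        simp only [h4, PSet.eta, show ∀ a, j * a * i = a * (j * i) from fun a => by ring]
        push_cast
        linear_combination -this
    exact ⟨_, a, b, by have := nodup_iff_count_le_one.1 b 1; omega⟩
  · obtain ⟨a, b⟩ := key S.As (by rw [PSet.card_As]; omega) fun i _ => by simp [h4, PSet.eta]
    refine ⟨_, a, b, ?_⟩
    rw [count_eq_zero_of_notMem fun k => ?_]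
    · omega
    obtain ⟨a, ha, e⟩ := mem_map.1 k
    exact mul_ne_zero hj (PSet.ne_zero_of_mem_As ha) (ec_injective (e.trans ec_zero.symm))

omit hp in
theorem exists_faithful (h : IsCharacter G χ) [(charKer χ).Normal] : ∃ ζ : G ⧸ charKer χ → ℂ,
    IsCharacter _ ζ ∧ charKer ζ = ⊥ ∧ χ = fun x => ζ (QuotientGroup.mk' _ x) := by
  obtain ⟨ζ, h1, e⟩ := exists_char_quotient h _ le_rfl
  have hs := QuotientGroup.mk'_surjective (charKer χ)
  refine ⟨ζ, h1, ?_, e⟩
  rw [← map_comap_eq_self_of_surjective hs (charKer ζ), ← charKer_comp ζ _ hs]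
  exact (Subgroup.map_eq_bot_iff _).2 (by rw [QuotientGroup.ker_mk']; exact (congrArg charKer e).ge)

omit hp in
theorem good_iff (hf : charKer χ = ⊥) : Good p χ ↔ ∀ x y : G, Pel p x → Pel p y → Commute x y := by
  simp only [Good, hf, mem_bot, mul_inv_eq_one, mul_inv_eq_iff_eq_mul, commute_iff_eq, one_mul]

omit hp in
theorem good_of_deg (h : IsCharacter G χ) (h1 : charDegree χ = 1) : Good p χ := fun x y _ _ =>
  commutator_le_charKer_of_one h (by rw [← coe_deg h, h1, Nat.cast_one])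
    (commutator_mem_commutator (mem_top x) (mem_top y))

variable (p) in
/-- A twist of `ξ` is inflated from a group of order not divisible by `p ^ 2`. -/
structure Tq {T : Type*} [Group T] (ξ : G → ℂ) (f : G →* T) (ζ : T → ℂ) (l : G →* ℂˣ) : Prop where
  surj : Surjective f
  irr : IsIrrCharacter T ζ
  ker : charKer ζ = ⊥
  nsq : ¬ p ^ 2 ∣ Nat.card T
  bad : ¬ Good p ζ
  val : ξ = fun x => l x * ζ (f x)
  ord : ∃ a, ∀ x, l x ^ p ^ a = 1

namespace Tq

variable {T : Type*} [Group T] [Finite T] {f : G →* T} {ζ : T → ℂ} {l : G →* ℂˣ} (h : Tq p ξ f ζ l)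
include h

omit hp [Finite G] [Finite T] in
theorem deg : charDegree ξ = charDegree ζ := by simp [h.val, charDegree]

theorem comap_center : (center T).comap f = charCenter ξ := by
  have h1 := irr_isCharacter h.irr
  have h2 : IsCharacter G ξ := h.val ▸ char_mul (char_linear l) (char_comp h1 f)
  ext x
  rw [← charCenter_eq_center_of_faithful h.irr h.ker, mem_comap, mem_charCenter_iff h1,
    mem_charCenter_iff h2, h.val]
  simp [linear_norm]

theorem exists_pel (hd : charDegree ξ + 1 < p) :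
    p ≤ 2 * charDegree ξ + 1 ∧ ∃ u ∈ commutator G, Pel p u ∧ f u ≠ 1 := by
  obtain ⟨x, hx, h1⟩ : ∃ x : T, Pel p x ∧ x ≠ 1 := by
    by_contra! k
    exact h.bad ((good_iff h.ker).2 fun x y hx _ => k x hx ▸ Commute.one_left y)
  obtain ⟨⟨s, -, -, a⟩, -, b⟩ := sl0 h.irr h.ker (h.deg ▸ hd) h.nsq h.bad hx h1
  obtain ⟨u, c, d, rfl⟩ := hx.lift (f := f) (L := commutator G) (by
    rwa [_root_.commutator_def, map_commutator, map_top_of_surjective f h.surj])
  exact ⟨by have := h.deg; omega, u, c, d, h1⟩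

end Tq

end

variable {G : Type u} [Group G] [Finite G] {χ ξ : G → ℂ}

theorem exists_tq0 (hξ : IsIrrCharacter G ξ) (hd : charDegree ξ < p) (h : ¬ Good p ξ)
    {O : Subgroup G} (h1 : O ≤ charCenter ξ) (h2 : ∀ x ∈ O, ∃ k, x ^ p ^ k ∈ charKer ξ)
    (h3 : ¬ p ^ 2 ∣ O.index) : ∃ (T : Type u) (_ : Group T) (_ : Finite T) (f : G →* T) (ζ : T → ℂ)
      (l : G →* ℂˣ), Tq p ξ f ζ l := by
  have hc := irr_isCharacter hξ
  obtain ⟨l, a, h4, h5⟩ := exists_twist (p := p) hc (Nat.not_dvd_of_pos_of_lt (deg_pos' hξ) hd)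
  have h6 := irr_linear_mul l hξ
  have := charKer_normal (irr_isClassFunction h6)
  obtain ⟨ζ, h7, h8, e⟩ := exists_faithful (irr_isCharacter h6)
  have hs := QuotientGroup.mk'_surjective (charKer fun x => (l x : ℂ) * ξ x)
  exact ⟨_, _, inferInstance, _, ζ, l⁻¹, hs, (irr_comp_iff_of_surjective h7 _ hs).1 (e ▸ h6), h8,
    fun d => h3 (d.trans (index_dvd_of_le fun x hx => h5 x (h1 hx) (h2 x hx))),
    fun k => h ((good_mul hc l).1 (e ▸ (good_comp hs).2 k)),
    funext fun x => by rw [← congrFun e x]; simp, a, fun x => by simp [h4]⟩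

theorem exists_tq (hξ : IsIrrCharacter G ξ) (hd : charDegree ξ + 1 < p) (h : ¬ Good p ξ)
    (hr : Red p ξ) : ∃ (T : Type u) (_ : Group T) (_ : Finite T) (f : G →* T) (ζ : T → ℂ)
      (l : G →* ℂˣ), Tq p ξ f ζ l := by
  wlog hf : charKer ξ = ⊥ generalizing G
  · have hN := charKer_normal (irr_isClassFunction hξ)
    obtain ⟨ζ, h1, h2, e⟩ := exists_faithful (irr_isCharacter hξ)
    have hs := QuotientGroup.mk'_surjective (charKer ξ)
    obtain ⟨T, _, _, f, η, l, k⟩ := this (ξ := ζ) ((irr_comp_iff_of_surjective h1 _ hs).1 (e ▸ hξ))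
      (by rw [e] at hd; exact hd) (fun k => h (e ▸ (good_comp hs).2 k)) ((red_comp hs).1 (e ▸ hr)) h2
    exact ⟨T, _, inferInstance, f.comp _, η, l.comp (QuotientGroup.mk' _), k.surj.comp hs, k.irr, k.ker,
      k.nsq, k.bad, e.trans (funext fun x => congrFun k.val _), k.ord.imp fun a k x => k _⟩
  obtain ⟨O, h1, h2, h3⟩ := hr
  have hc := irr_isCharacter hξ
  have h4 : IsPGroup p O := fun x => (h2 x x.2).imp fun k hk => Subtype.ext (mem_bot.1 (hf ▸ hk))
  have h5 : ∀ x, Pel p x → x ∈ centralizer (O : Set G) := fun x hx y hy => commute_of_pgroup hc hf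
    (by omega) (hx.isPGroup.to_sup_of_normal_right h4) (mem_sup_right hy) (mem_sup_left (mem_zpowers x))
  obtain ⟨θ, ψ, k1, k2, k3, k4⟩ := exists_bad (char_restrict hc (centralizer (O : Set G))) fun k =>
    h ((good_iff hf).2 fun x y hx hy => (good_res hc hf).1 k x (h5 x hx) y (h5 y hy) hx hy)
  have k5 : charDegree ξ = _ := (congrArg charDegree k3).trans (deg_add (irr_isCharacter k1) k2)
  obtain ⟨T, _, _, f, ζ, l, k⟩ := exists_tq0 k1 (by omega) k4 (O := O.subgroupOf _) (fun x hx =>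
    center_le_charCenter k1 (mem_center_iff.2 fun y => Subtype.ext (y.2 x hx).symm))
    (fun x hx => (h4 ⟨x, hx⟩).imp fun k hk => by
      rw [show x ^ p ^ k = 1 from Subtype.ext (congrArg Subtype.val hk :)]; exact one_mem _)
    fun d => h3 (d.trans (relIndex_dvd_index_of_normal O _))
  have k6 := (k.exists_pel (by omega)).1
  obtain ⟨c, k7⟩ := deg_dvd_of_normal hξ k1 k2 k3
  obtain rfl : ψ = 0 := char_eq_zero_of_one_eq_zero k2 (by
    rw [← coe_deg k2, Nat.cast_eq_zero]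
    rcases c with _ | _ | c
    · omega
    · omega
    · nlinarith)
  exact exists_tq0 hξ (by omega) h (fun x hx => mem_charCenter_of_res_irr hc
    (C := centralizer (O : Set G)) (by rwa [k3, add_zero]) fun y hy => (hy x hx).symm) h2 h3

variable (p) in
/-- The decomposition of a character on which the `p`-elements do not commute. -/
structure Sl (χ ξ ψ : G → ℂ) (O : Subgroup G) (l : G →* ℂˣ) : Prop where
  irr : IsIrrCharacter G ξ
  ch : IsCharacter G ψ
  eq : χ = ξ + ψ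
  bad : ¬ Good p ξ
  good : Good p ψ
  deg : p ≤ 2 * charDegree ξ + 1
  add : charDegree χ = charDegree ξ + charDegree ψ
  normal : O.Normal
  idx : ¬ p ^ 2 ∣ O.index
  scal : O ≤ charCenter ξ
  eig : ∀ u, Pel p u → u ∉ O →
    ∃ s, Eig ξ u s ∧ s.Nodup ∧ p + 2 * count (l u : ℂ) s ≤ 2 * charDegree ξ + 1
  cent : ∀ u y, Pel p u → u ∉ O → ¬ p ∣ orderOf y → Commute y u → y ∈ charCenter ξ
  der : ∃ u ∈ commutator G, Pel p u ∧ u ∉ O

theorem good_of_bad {ψ : G → ℂ} (hξ : IsIrrCharacter G ξ) (hψ : IsCharacter G ψ)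
    (hd : charDegree (ξ + ψ) + 1 < p) (h : p ≤ 2 * charDegree ξ + 1)
    (hr : ∀ θ φ, IsIrrCharacter G θ → IsCharacter G φ → ψ = θ + φ → Red p θ) : Good p ψ := by
  by_contra k
  obtain ⟨θ, φ, k1, k2, rfl, k3⟩ := exists_bad hψ k
  rw [deg_add (irr_isCharacter hξ) hψ, deg_add (irr_isCharacter k1) k2] at hd
  obtain ⟨T, _, _, f, ζ, l, k⟩ := exists_tq k1 (by omega) k3 (hr θ φ k1 k2 rfl)
  have := (k.exists_pel (by omega)).1
  omega

theorem exists_sl (hχ : IsCharacter G χ) (hd : charDegree χ + 1 < p) (h : ¬ Good p χ)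
    (hr : Red p χ) : ∃ ξ ψ O l, Sl p χ ξ ψ O l := by
  obtain ⟨ξ, ψ, h1, h2, rfl, h3⟩ := exists_bad hχ h
  have hc := irr_isCharacter h1
  have h4 := deg_add hc h2
  obtain ⟨T, _, _, f, ζ, l, k⟩ := exists_tq h1 (by omega) h3 (hr.of_add hc h2)
  obtain ⟨h5, h6⟩ := k.exists_pel (by omega)
  have h7 := fun u (hu : Pel p u) => sl0 k.irr k.ker (by rw [← k.deg]; omega) k.nsq k.bad (hu.map f)
  refine ⟨ξ, ψ, f.ker, l, h1, h2, rfl, h3, good_of_bad h1 h2 hd h5 fun θ φ a b c => Red.of_add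
    (irr_isCharacter a) (char_add b hc) (by rwa [← add_assoc, ← c, add_comm]), h5, h4, inferInstance,
    by rw [index_ker, MonoidHom.range_eq_top.2 k.surj, card_top]; exact k.nsq,
    fun x hx => k.comap_center ▸ mem_comap.2 (by rw [hx]; exact one_mem _), fun u a b => ?_,
    fun u y a b c d => k.comap_center ▸ (h7 u a b).2.1 _ (fun e => c (e.trans (orderOf_map_dvd f y)))
      (d.map f), h6⟩
  obtain ⟨s, c, d, e⟩ := (h7 u a b).1
  have i := mul_right_injective₀ (l u).ne_zero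
  refine ⟨_, k.val ▸ ((eig_comp f).2 c).mul l, d.map i, ?_⟩
  have := count_map_eq_count' _ s i 1
  rw [mul_one] at this
  rwa [this, k.deg]

namespace Sl

variable {ψ : G → ℂ} {O : Subgroup G} {l : G →* ℂˣ} (h : Sl p χ ξ ψ O l)
include h

omit hp in
theorem two_le : 2 ≤ charDegree ξ := by
  have := deg_pos' h.irr
  have := mt (good_of_deg (irr_isCharacter h.irr)) h.bad
  omega

theorem exists_mem (hG : p ^ 2 ∣ Nat.card G) : ∃ o ∈ O, Pel p o ∧ o ≠ 1 := by
  obtain ⟨o, ho⟩ := exists_prime_orderOf_dvd_card' (G := O) p (by_contra fun k => h.idx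
    (((hp.out.coprime_iff_not_dvd.2 k).pow_left 2).dvd_of_dvd_mul_left (O.card_mul_index ▸ hG)))
  exact ⟨o, o.2, pel_coe.2 ⟨1, by simp [← ho]⟩, fun e => hp.out.one_lt.ne' (by
    rw [← ho, show o = 1 from Subtype.ext e, orderOf_one])⟩

theorem of_not_dvd (hf : charKer χ = ⊥) (hd : charDegree χ + 1 < p) (hG : ¬ p ^ 2 ∣ Nat.card G)
    {u : G} (hu : Pel p u) (h1 : u ≠ 1) : u ∉ O ∧ l u = 1 ∧ u ∈ charKer ψ := by
  obtain ⟨v, h2, h3, h4⟩ := h.der
  obtain ⟨S, rfl⟩ := exists_pset_eq (hu.ord_eq h1 hG) hG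
  have := h.normal
  have hψ := charKer_normal (char_isClassFunction h.ch)
  have k : ∀ M : Subgroup G, M.Normal → ∀ v ∈ M, Pel p v → v ≠ 1 → S.z ∈ M := fun M _ v a b c =>
    by_contra fun d => S.not_dvd_card_of_z_notMem d (b.ord_eq c hG ▸ M.orderOf_dvd_natCard a)
  refine ⟨fun a => h4 ?_, Abelianization.commutator_subset_ker l
    (k _ inferInstance v h2 h3 fun e => h4 (e ▸ one_mem _)), by_contra fun a => ?_⟩
  · obtain ⟨_, h3⟩ := h3
    obtain ⟨g, hg⟩ := S.exists_conj_mem_P h3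
    simpa [mul_assoc] using this.conj_mem _ (zpowers_le.2 a hg) g⁻¹
  have b : ∀ y ∈ charKer ψ, Commute S.z y := fun y hy => by
    have := S.comm_mem_ker (S.not_dvd_card_of_z_notMem a)
      (h.eq ▸ char_add (irr_isCharacter h.irr) h.ch) hd hy
    rwa [hf, mem_bot, mul_inv_eq_one, mul_inv_eq_iff_eq_mul] at this
  refine not_normal S h.bad (PSet.normal_of_comm fun g => ?_)
  have c := h.good _ _ (hu.conj g) hu
  have d := b _ c
  have e : Pel p (g * S.z * g⁻¹ * S.z * (g * S.z * g⁻¹)⁻¹ * S.z⁻¹) :=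
    (hu.conj _).mul hu.inv (Commute.inv_right (by
      simpa using (d.mul_right (Commute.refl S.z)).symm))
  by_contra f
  exact a (k _ hψ _ c e fun e => f (by rwa [mul_inv_eq_one, mul_inv_eq_iff_eq_mul] at e))

end Sl

end Lg

end CF.Small
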