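import Cfsg.Agent.Small.Lg3
import Cfsg.Agent.Invol.BaerSuzuki

/-!
Feit's theorem on groups with a faithful character of degree less than `p - 1`: the index of the
largest normal `p`-subgroup is not divisible by `p ^ 2`.
-/

set_option autoImplicit false

namespace CF.Small.Lg

open Subgroup Cfsg CF.Char CF.Clifford CF.BlockB Multiset Function

universe u

variable {p : ℕ} [hp : Fact p.Prime] {G : Type u} [Group G] [Finite G] {χ ξ ψ : G → ℂ} {z : G} {c : ℂ}

omit hp in
theorem Eig.rep_mul {t o : G} {n : ℕ} {s : Multiset ℂ} (hχ : IsCharacter G χ)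
    (h : Eig χ t (replicate n c)) (h' : Eig χ o s) (e : Commute t o) :
    Eig χ (t * o) (s.map (c * ·)) := by
  obtain ⟨u, hu⟩ := h.mem_center hχ fun _ => eq_of_mem_replicate
  have := h'.center_mul hu e
  rcases s.empty_or_exists_mem with rfl | ⟨a, ha⟩
  · exact this
  · rwa [← eq_of_mem_replicate (h.unique (eig_of_mul hχ hu) ▸ mem_replicate.2
      ⟨(h'.card ▸ card_pos_iff_exists_mem.2 ⟨a, ha⟩).ne', rfl⟩ : (u : ℂ) ∈ replicate n c)]

namespace Sl

variable {O : Subgroup G} {l : G →* ℂˣ} (h : Sl p χ ξ ψ O l)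
include h

omit hp in
theorem mem_center (hf : charKer χ = ⊥) (h1 : z ∈ charCenter ξ) (h2 : z ∈ charCenter ψ) :
    z ∈ center G := mem_center_iff.2 fun x => by
  have := (charKer_add (irr_isCharacter h.irr) h.ch).ge
    ⟨commutator_mem_charKer_of_mem_charCenter (irr_isClassFunction h.irr) h1 x,
      commutator_mem_charKer_of_mem_charCenter (char_isClassFunction h.ch) h2 x⟩
  rw [← h.eq, hf, mem_bot, mul_inv_eq_one, mul_inv_eq_iff_eq_mul] at this
  exact this.symm

omit hp in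
theorem big (h1 : z ∈ charCenter ξ) : ∃ c s, Eig χ z s ∧ p ≤ 2 * count c s + 1 := by
  obtain ⟨c, hc⟩ := eig_of_center (irr_isCharacter h.irr) h1
  obtain ⟨s, hs⟩ := exists_eig h.ch z
  exact ⟨c, _, h.eq ▸ hc.add hs, by have := h.deg; simp; omega⟩

omit hp in
theorem split (h1 : z ∈ charCenter ξ) {c' : ℂ} (e : Eig χ z {c, c, c'}) (n : c ≠ c') :
    charDegree ξ = 2 ∧ Eig ξ z (replicate (charDegree ξ) c) ∧
      Eig ψ z (replicate (charDegree ψ) c') := by
  obtain ⟨r, hr⟩ := eig_of_center (irr_isCharacter h.irr) h1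
  obtain ⟨s, hs⟩ := exists_eig h.ch z
  have k := e.unique (h.eq ▸ hr.add hs)
  have k1 := congrArg (count r) k
  have k2 := h.two_le
  have k3 : r = c ∧ charDegree ξ = 2 := by
    by_cases a : r = c <;> by_cases b : r = c' <;> simp [a, b, n, n.symm] at k1 ⊢ <;> omega
  obtain ⟨rfl, k3⟩ := k3
  rw [k3] at k
  obtain rfl : {c'} = s := by simpa using k
  exact ⟨k3, hr, hs.card ▸ hs⟩

end Sl

variable (p) in
/-- A minimal counterexample. -/
structure Mc (χ : G → ℂ) : Prop where
  irr : IsIrrCharacter G χ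
  ker : charKer χ = ⊥
  deg : charDegree χ + 1 < p
  core : pCore p G = ⊥
  sq : p ^ 2 ∣ Nat.card G
  gen : closure {x : G | Pel p x} = ⊤
  ih : ∀ H : Subgroup G, H ≠ ⊤ → Red p fun x : H => χ x

variable (p) in
/-- A `p`-element with an eigenvalue of large multiplicity. -/
def Big (χ : G → ℂ) (z : G) (c : ℂ) : Prop :=
  Pel p z ∧ z ≠ 1 ∧ ∃ s, Eig χ z s ∧ p ≤ 2 * count c s + 1

namespace Mc

variable (h : Mc p χ)
include h

omit hp in
theorem ch : IsCharacter G χ := irr_isCharacter h.irr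

omit hp in
theorem ker' (H : Subgroup G) : charKer (fun x : H => χ x) = ⊥ := by
  rw [charKer_restrict h.ch, h.ker, bot_subgroupOf]

theorem sl {H : Subgroup G} (h1 : H ≠ ⊤) (h2 : ¬ Good p fun x : H => χ x) :
    ∃ ξ ψ O l, Sl p (fun x : H => χ x) ξ ψ O l :=
  exists_sl (char_restrict h.ch H) h.deg h2 (h.ih H h1)

omit hp [Finite G] in
theorem notMem (hz : Pel p z) (h1 : z ≠ 1) : z ∉ center G := fun k => by
  have : (zpowers z).Normal := ⟨fun x hx g => by
    rwa [mem_center_iff.1 (zpowers_le.2 k hx), mul_inv_cancel_right]⟩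
  exact h1 (h.core.le (Solv.le_pCore hz.isPGroup (mem_zpowers z)))

omit hp [Finite G] in
theorem cent_ne (hz : z ∉ center G) : centralizer {z} ≠ ⊤ := fun k =>
  hz (mem_center_iff.2 fun y => mem_centralizer_singleton_iff.1 (k.ge trivial))

theorem two_le : 2 ≤ charDegree χ := by
  have := deg_pos' h.irr
  by_contra k
  obtain ⟨z, hz⟩ := exists_prime_orderOf_dvd_card' p ((dvd_pow_self p two_ne_zero).trans h.sq)
  obtain ⟨s, hs⟩ := exists_eig h.ch z
  obtain ⟨a, rfl⟩ := card_eq_one.1 (hs.card.trans (by omega))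
  exact h.notMem ⟨1, by simp [← hz]⟩ (fun e => hp.out.one_lt.ne' (by rw [← hz, e, orderOf_one]))
    (charCenter_eq_center_of_faithful h.irr h.ker ▸ hs.mem_center h.ch fun _ => mem_singleton.1)

theorem comm {P : Subgroup G} (hP : IsPGroup p P) {x y : G} (hx : x ∈ P) (hy : y ∈ P) :
    Commute x y := commute_of_pgroup h.ch h.ker (by have := h.deg; omega) hP hx hy

omit hp in
theorem eq_bot {D : Subgroup G} [D.Normal] {O : Subgroup D} [O.Normal]
    (hO : ∀ x ∈ O, ∃ k, x ^ p ^ k ∈ charKer fun x : D => χ x) : O = ⊥ := by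
  have := Solv.map_pCore_of_normal (p := p) D
  rw [h.core, bot_inf_eq, map_eq_bot_iff_of_injective _ D.subtype_injective] at this
  exact le_bot_iff.1 (this ▸ Solv.le_pCore fun x => (hO x x.2).imp fun k hk =>
    Subtype.ext (mem_bot.1 (h.ker' D ▸ hk)))

theorem big1 (hz : Big p χ z c) : ∃ (H : Subgroup G) (ξ ψ : H → ℂ) (O : Subgroup H) (l : H →* ℂˣ),
    Sl p (fun x : H => χ x) ξ ψ O l ∧ closure {x : H | Pel p x} = ⊤ ∧ 2 * charDegree ξ + 1 = p ∧
      2 * charDegree ψ + 3 = p ∧ charCenter ψ = ⊤ ∧ p ^ 2 ∣ Nat.card H ∧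
        ∃ s : Multiset ℂ, s.Nodup ∧ Eig χ z (s + replicate (charDegree ψ) c) := by
  obtain ⟨h1, h2, s, h3, h4⟩ := hz
  obtain ⟨g, hg⟩ : ∃ g, ¬ IsPGroup p (closure ({z, g * z * g⁻¹} : Set G)) := by
    by_contra! k
    exact h2 (h.core.le (Solv.le_pCore (Invol.baer_suzuki_elem k) (subset_normalClosure rfl)))
  have h5 := h3.conj (irr_isClassFunction h.irr) g
  have h6 := h1.conj g
  generalize g * z * g⁻¹ = w at *
  have := h.deg
  have := h.two_le
  have hz : z ∈ closure ({z, w} : Set G) := subset_closure (.inl rfl)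
  have hw : w ∈ closure ({z, w} : Set G) := subset_closure (.inr rfl)
  obtain ⟨ξ, ψ, O, l, k⟩ := h.sl (H := closure {z, w})
    (fun e => by have := one_eq_of_count h.irr e h3 h5 (c := c) (c' := c) (by omega); omega) fun e => by
      obtain ⟨P, a, b⟩ := h1.exists_sylow h6 ((good_res h.ch h.ker).1 e z hz w hw h1 h6)
      exact hg (P.isPGroup'.to_le ((closure_le _).2 (Set.pair_subset a b)))
  have hc := irr_isCharacter k.irr
  have k1 := k.add
  have k2 := k.deg
  have k3 := k.two_le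
  change charDegree χ = _ at k1
  have key : ∀ a b : closure ({z, w} : Set G), closure {a, b} = ⊤ → Pel p a → Eig χ a s →
      2 * charDegree ξ + 1 = p ∧ 2 * charDegree ψ + 3 = p ∧ ∃ t : Multiset ℂ, t.Nodup ∧ c ≠ l a ∧
        s = t + replicate (charDegree ψ) c ∧ Eig ψ a (replicate (charDegree ψ) c) := by
    intro a b e ha hs
    obtain ⟨t, t1, t2, t3⟩ := k.eig a ha fun i => by
      obtain ⟨r, hr⟩ := eig_of_center hc (k.scal i)
      obtain ⟨t, ht⟩ := exists_eig hc b
      obtain ⟨r', hr'⟩ := card_pos_iff_exists_mem.1 (ht.card.trans_gt (by omega))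
      have := one_eq_of_count k.irr e hr ht (c := r) (c' := r') (by simpa [count_pos] using hr')
      omega
    obtain ⟨t', t4⟩ := exists_eig k.ch a
    obtain rfl := (eig_res.2 hs).unique (k.eq ▸ t1.add t4)
    have := nodup_iff_count_le_one.1 t2 c
    have := count_le_card c t'
    have t5 := t4.card
    rw [count_add] at h4
    have t6 : t' = replicate (charDegree ψ) c :=
      t5 ▸ eq_replicate_card.2 fun x hx => (count_eq_card.1 (by omega) x hx).symm
    exact ⟨by omega, by omega, t, t2, fun i => by rw [← i] at t3; omega, by rw [← t6], t6 ▸ t4⟩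
  have e : closure ({⟨z, hz⟩, ⟨w, hw⟩} : Set (closure ({z, w} : Set G))) = ⊤ := by
    convert closure_closure_coe_preimage
    ext x; simp [Subtype.ext_iff]
  obtain ⟨a1, a2, t, a3, a4, a5, a6⟩ := key _ _ e (pel_coe.1 h1) h3
  obtain ⟨-, -, -, -, -, -, a7⟩ := key _ _ ((congrArg Subgroup.closure (Set.pair_comm _ _)).trans e) (pel_coe.1 h6) h5
  refine ⟨_, ξ, ψ, O, l, k, top_le_iff.1 (e.ge.trans (closure_mono (Set.pair_subset (pel_coe.1 h1)
    (pel_coe.1 h6)))), a1, a2, top_le_iff.1 (e.ge.trans ((closure_le _).2 (Set.pair_subset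
      (a6.mem_center k.ch fun _ => eq_of_mem_replicate) (a7.mem_center k.ch fun _ =>
        eq_of_mem_replicate)))), by_contra fun i => ?_, t, a3, a5 ▸ h3⟩
  obtain ⟨-, b1, b2⟩ := k.of_not_dvd (h.ker' _) h.deg i (u := ⟨z, hz⟩) (pel_coe.1 h1)
    fun e => h2 (congrArg Subtype.val e)
  exact a4 (b1 ▸ eq_of_mem_replicate (a6.unique (eig_of_ker k.ch b2) ▸
    mem_replicate.2 ⟨by omega, rfl⟩))

theorem big2 {H : Subgroup G} {ξ ψ : H → ℂ} {O : Subgroup H} {l : H →* ℂˣ}
    (k : Sl p (fun x : H => χ x) ξ ψ O l) (h1 : charCenter ψ = ⊤) (h2 : p ^ 2 ∣ Nat.card H) :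
    ∃ (o : H) (a b : ℂ), Pel p o ∧ o ≠ 1 ∧ a ≠ b ∧ Eig ξ o (replicate (charDegree ξ) a) ∧
      Eig ψ o (replicate (charDegree ψ) b) := by
  obtain ⟨o, o1, o2, o3⟩ := k.exists_mem h2
  obtain ⟨a, ha⟩ := eig_of_center (irr_isCharacter k.irr) (k.scal o1)
  obtain ⟨b, hb⟩ := eig_of_center k.ch (h1.ge (mem_top o))
  refine ⟨o, a, b, o2, o3, ?_, ha, hb⟩
  rintro rfl
  exact h.notMem (pel_coe.2 o2) (fun e => o3 (Subtype.ext e))
    (charCenter_eq_center_of_faithful h.irr h.ker ▸ (eig_res.1 (k.eq ▸ ha.add hb)).mem_center h.ch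
      fun x hx => (mem_add.1 hx).elim eq_of_mem_replicate eq_of_mem_replicate)

theorem big3 (hz : Big p χ z c) : p = 5 := by
  obtain ⟨H, ξ, ψ, O, l, k, -, h1, h2, h3, h4, -⟩ := h.big1 hz
  obtain ⟨o, a, b, o1, o2, o3, o4, o5⟩ := h.big2 k h3 h4
  have o6 := eig_res.1 (k.eq ▸ o4.add o5)
  obtain ⟨H', ξ', ψ', -, -, -, -, -, h5, -, -, s, h6, h7⟩ := h.big1 (c := a) ⟨pel_coe.2 o1,
    fun e => o2 (Subtype.ext e), _, o6, by simp; omega⟩
  have := congrArg (count b) (o6.unique h7)
  have := nodup_iff_count_le_one.1 h6 b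
  have := k.two_le
  simp [count_replicate, o3] at *
  omega

theorem exists_inv {H : Subgroup G} {ξ ψ : H → ℂ} {O : Subgroup H} {l : H →* ℂˣ}
    (k : Sl p (fun x : H => χ x) ξ ψ O l) (hH : closure {x : H | Pel p x} = ⊤) (h5 : p = 5)
    (h1 : charDegree ξ = 2) (h2 : charDegree ψ = 1) : ∃ t : H, t ^ 2 = 1 ∧
      Eig ξ t (replicate 2 (-1)) ∧ Eig ψ t (replicate 1 1) := by
  have hc := irr_isCharacter k.irr
  obtain ⟨t, ht⟩ := exists_prime_orderOf_dvd_card' 2 (h1 ▸ irr_one_dvd_card k.irr (coe_deg hc).symm)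
  have e : t ^ 2 = 1 := ht ▸ pow_orderOf_eq_one t
  have d : ∀ {φ : H → ℂ} {s}, IsCharacter H φ → Eig φ t s → s.prod = 1 := fun hφ hs => by
    rw [← hs.det hφ, ← coe_detHom hφ, map_eq_one_of_gen (fun _ => id) hH _ (by rw [ht, h5]; decide),
      Units.val_one]
  obtain ⟨s, hs⟩ := exists_eig hc t
  obtain ⟨s', hs'⟩ := exists_eig k.ch t
  obtain ⟨a, b, rfl⟩ := card_eq_two.1 (hs.card.trans h1)
  obtain ⟨c, rfl⟩ := card_eq_one.1 (hs'.card.trans h2)
  obtain rfl : c = 1 := by simpa using d k.ch hs'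
  have h3 : a * b = 1 := by simpa using d hc hs
  have h4 := hs.pow_eq hc e (mem_cons_self a _)
  obtain rfl : a = b := by linear_combination b * h4 - a * h3
  rcases sq_eq_one_iff.1 h4 with rfl | rfl
  · have := (k.eq ▸ hs.add hs').mem_ker (char_restrict h.ch H) (by simp)
    rw [h.ker', mem_bot] at this
    simp [this] at ht
  · exact ⟨t, e, hs, hs'⟩

open scoped IsMulCommutative in
theorem not_big : ¬ Big p χ z c := fun hz => by
  have h5 := h.big3 hz
  obtain ⟨H, ξ, ψ, O, l, k, k0, h1, h2, h3, h4, -⟩ := h.big1 hz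
  obtain ⟨o, a, b, o1, o2, o3, o4, o5⟩ := h.big2 k h3 h4
  have hc := irr_isCharacter k.irr
  have d1 : charDegree ξ = 2 := by omega
  have d2 : charDegree ψ = 1 := by omega
  have d3 : charDegree χ = 3 := k.add.trans (by omega)
  obtain ⟨t, t1, t2, t3⟩ := h.exists_inv k k0 h5 d1 d2
  rw [d1] at o4
  rw [d2] at o5
  have c1 := k.mem_center (h.ker' H) (t2.mem_center hc fun _ => eq_of_mem_replicate) (h3.ge trivial)
  have c2 := k.mem_center (h.ker' H) (o4.mem_center hc fun _ => eq_of_mem_replicate) (h3.ge trivial)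
  have c3 : Commute (t : G) o := congrArg Subtype.val (mem_center_iff.1 c2 t)
  have e1 : Eig χ t {-1, -1, 1} := eig_res.1 (k.eq ▸ t2.add t3)
  have e2 : Eig χ (t * o) _ := eig_res.1 (k.eq ▸ (t2.rep_mul hc o4 (mem_center_iff.1 c2 t)).add
    (t3.rep_mul k.ch o5 (mem_center_iff.1 c2 t)))
  have t4 : (t : G) ^ 2 = 1 := congrArg Subtype.val t1
  obtain ⟨j, hj⟩ := id o1
  have a1 := o4.pow_eq hc hj (a := a) (by simp)
  have b1 := o5.pow_eq k.ch hj (a := b) (by simp)
  have od : Odd (p ^ j) := Odd.pow (by rw [h5]; decide)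
  have e3 : ∀ {g : G} {n : ℕ}, (-a) ^ n ≠ b ^ n → Commute g ((t * o) ^ n) → Commute g (t * o) :=
    fun i => e2.commute h.ch h.ker (c := -a) (c' := b) (by simp) i
  have C1 : ∀ g : G, Commute g o → Commute g t := fun g e => by
    simpa using (e3 (n := 2) (fun i => by
      rcases sq_eq_sq_iff_eq_or_eq_neg.1 i with i | i
      · rw [← i, od.neg_pow, a1] at b1; norm_num at b1
      · exact o3 (neg_injective i)) (by simpa [c3.mul_pow, t4] using e.pow_right 2)).mul_right
        e.inv_right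
  have C2 : ∀ g : G, Commute g t → Commute g o := fun g e => by
    simpa using e.inv_right.mul_right (e3 (n := p ^ j) (by rw [od.neg_pow, a1, b1]; norm_num) (by
      rw [c3.mul_pow, show (o : G) ^ p ^ j = 1 from congrArg Subtype.val hj, mul_one]
      exact e.pow_right _))
  have o6 := pel_coe.2 o1
  have o7 : (o : G) ≠ 1 := fun e => o2 (Subtype.ext e)
  have g0 : ¬ Good p fun x : H => χ x := fun i => k.bad ((good_add hc k.ch).1 (k.eq ▸ i)).1
  obtain ⟨ξ', ψ', O', l', k'⟩ := h.sl (h.cent_ne (h.notMem o6 o7)) fun i =>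
    g0 ((good_res h.ch h.ker).2 fun x hx y hy => (good_res h.ch h.ker).1 i
      x (mem_centralizer_singleton_iff.2 (congrArg Subtype.val (mem_center_iff.1 c2 ⟨x, hx⟩)))
      y (mem_centralizer_singleton_iff.2 (congrArg Subtype.val (mem_center_iff.1 c2 ⟨y, hy⟩))))
  obtain ⟨u, -, u1, u2⟩ := k'.der
  obtain ⟨P, u3, o8⟩ := (pel_coe.2 u1).exists_sylow o6 (mem_centralizer_singleton_iff.1 u.2)
  have p2 : ∀ {K : Type u} [Group K] {y : K}, y ^ 2 = 1 → ¬ p ∣ orderOf y := fun e i => by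
    have := i.trans (orderOf_dvd_of_pow_eq_one e)
    rw [h5] at this
    omega
  have key : ∀ y : G, (∀ x ∈ P, Commute y x) → y ^ 2 = 1 → Eig χ y {-1, -1, 1} →
      ∃ hy, Eig ξ' ⟨y, hy⟩ (replicate (charDegree ξ') (-1)) ∧
        Eig ψ' ⟨y, hy⟩ (replicate (charDegree ψ') 1) := fun y a b c =>
    ⟨mem_centralizer_singleton_iff.2 (a _ o8), (k'.split (k'.cent u ⟨y, _⟩ u1 u2 (p2 (Subtype.ext b))
      (Subtype.ext (a u u3))) (eig_res.2 c) (by norm_num)).2⟩
  have c4 : ∀ x ∈ P, Commute (t : G) x := fun x hx => (C1 x (h.comm P.isPGroup' hx o8)).symm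
  have hN : ∀ n ∈ normalizer (P : Set G), Commute n o := fun n hn => C2 n (by
    obtain ⟨_, a1, a2⟩ := key t c4 t4 e1
    obtain ⟨_, b1, b2⟩ := key (n * t * n⁻¹) (fun x hx => by
      simpa [mul_assoc] using (c4 _ ((mem_normalizer_iff''.1 hn x).1 hx)).map (MulAut.conj n))
      (by rw [conj_pow, t4]; simp) (e1.conj (irr_isClassFunction h.irr) n)
    have := (charKer_add (irr_isCharacter k'.irr) k'.ch).ge
      ⟨div_mem_ker (irr_isCharacter k'.irr) a1 b1, div_mem_ker k'.ch a2 b2⟩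
    rw [← k'.eq, h.ker', mem_bot, inv_mul_eq_one, Subtype.ext_iff] at this
    exact mul_inv_eq_iff_eq_mul.1 this.symm)
  have : IsMulCommutative P := ⟨⟨fun x y => Subtype.ext (h.comm P.isPGroup' x.2 y.2)⟩⟩
  let τ := MonoidHom.transfer (MonoidHom.id P)
  have o9 : o.1 ∉ τ.ker := fun i => by
    rw [MonoidHom.mem_ker, MonoidHom.transfer_eq_pow _ _ fun k g hg => by
      obtain ⟨n, hn, e⟩ := P.conj_eq_normalizer_conj_of_mem _ g (pow_mem o8 k) hg
      rw [e, mul_assoc, ← ((hN n hn).pow_right k).eq, inv_mul_cancel_left]] at i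
    exact o7 (o6.eq_one fun d => P.not_dvd_index
      (d.trans (orderOf_dvd_of_pow_eq_one (congrArg Subtype.val i))))
  have D1 : τ.ker ≠ ⊤ := fun i => o9 (i.ge trivial)
  obtain ⟨O1, _, a2, a3⟩ := h.ih _ D1
  rw [h.eq_bot a2, index_bot] at a3
  obtain ⟨v, v1, v2, v3⟩ := k.der
  let v' : τ.ker := ⟨v, Abelianization.commutator_subset_ker (τ.comp H.subtype) v1⟩
  have v4 : Pel p v' := pel_coe.1 ((pel_coe (x := v)).2 v2)
  have v5 : v' ≠ 1 := fun i => v3 (by
    rw [show v = 1 from Subtype.ext (congrArg Subtype.val i :)]; exact one_mem _)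
  obtain ⟨ξ'', ψ'', O'', l'', k''⟩ := h.sl D1 fun i => by
    obtain ⟨O2, _, b2, b3⟩ := i.exists (char_restrict h.ch _)
    rw [h.eq_bot b2, index_bot] at b3
    exact b3 ((v4.ord_eq v5 a3).symm.dvd.trans (orderOf_dvd_natCard v'))
  have := k''.split (z := ⟨t, Pel.eq_one (p := p) (P.isPGroup' _) (p2 (by rw [← map_pow, t4, map_one]))⟩)
    (k''.cent v' _ v4 (k''.of_not_dvd (h.ker' _) h.deg a3 v4 v5).1 (p2 (Subtype.ext t4))
      (Subtype.ext (congrArg Subtype.val (mem_center_iff.1 c1 v).symm :))) (eig_res.2 e1) (by norm_num)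
  have i := deg_dvd_of_normal h.irr k''.irr k''.ch k''.eq
  rw [this.1, d3] at i
  omega

theorem good_pel (hz : Pel p z) (h1 : z ≠ 1) {x y : G} (hx : Commute x z) (hy : Commute y z)
    (hx' : Pel p x) (hy' : Pel p y) : Commute x y := by
  refine (good_res h.ch h.ker (L := centralizer {z})).1 (by_contra fun i => ?_) x
    (mem_centralizer_singleton_iff.2 hx) y (mem_centralizer_singleton_iff.2 hy) hx' hy'
  obtain ⟨ξ, ψ, O, l, k⟩ := h.sl (h.cent_ne (h.notMem hz h1)) i
  obtain ⟨c, s, a, b⟩ := k.big (z := ⟨z, mem_centralizer_singleton_iff.2 rfl⟩) (center_le_charCenter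
    k.irr (mem_center_iff.2 fun y => Subtype.ext (mem_centralizer_singleton_iff.1 y.2)))
  exact h.not_big ⟨hz, h1, s, eig_res.1 a, b⟩

theorem good_cent {g : G} (hg : g ∉ center G) (hz : Pel p z) (h1 : z ≠ 1) (e : Commute z g) :
    Good p fun x : centralizer ({g} : Set G) => χ x := by
  by_contra i
  obtain ⟨ξ, ψ, O, l, k⟩ := h.sl (h.cent_ne hg) i
  by_cases d : p ^ 2 ∣ Nat.card (centralizer ({g} : Set G))
  · obtain ⟨o, o1, o2, o3⟩ := k.exists_mem d
    obtain ⟨c, s, a, b⟩ := k.big (k.scal o1)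
    exact h.not_big ⟨pel_coe.2 o2, fun e => o3 (Subtype.ext e), s, eig_res.1 a, b⟩
  let z' : centralizer ({g} : Set G) := ⟨z, mem_centralizer_singleton_iff.2 e⟩
  obtain ⟨a1, a2, a3⟩ := k.of_not_dvd (h.ker' _) h.deg d (u := z') (pel_coe.1 hz)
    fun e => h1 (congrArg Subtype.val e)
  obtain ⟨s, s1, s2, s3⟩ := k.eig z' (pel_coe.1 hz) a1
  have s4 : Eig χ z _ := eig_res.1 (k.eq ▸ s1.add (eig_of_ker k.ch a3))
  obtain ⟨P, z1, -⟩ := hz.exists_sylow hz (Commute.refl z)
  obtain ⟨u, u1, u2⟩ : ∃ u ∈ P, ¬ Commute u g := by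
    by_contra! j
    exact d ((P.pow_dvd_card_of_pow_dvd_card h.sq).trans (card_dvd_of_le fun u hu =>
      mem_centralizer_singleton_iff.2 (j u hu)))
  have u3 := pel_of_mem P.isPGroup' u1
  have u4 := h.comm P.isPGroup' u1 z1
  obtain ⟨t, ht⟩ := exists_eig h.ch (u * g * u⁻¹ * g⁻¹)
  have := card_le_count (char_restrict h.ch (centralizer {z}))
    (w := ⟨z, mem_centralizer_singleton_iff.2 rfl⟩) (mem_center_iff.2 fun y =>
      Subtype.ext (mem_centralizer_singleton_iff.1 y.2)) (commutator_mem_commutator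
      (mem_top ⟨u, mem_centralizer_singleton_iff.2 u4⟩)
      (mem_top ⟨g, mem_centralizer_singleton_iff.2 e.symm⟩)) (eig_res.2 s4) (eig_res.2 ht)
      fun a ha => by simpa [count_replicate, ha.symm] using nodup_iff_count_le_one.1 s2 a
  refine h.not_big (c := 1) ⟨?_, fun j => u2 (by
    rwa [mul_inv_eq_one, mul_inv_eq_iff_eq_mul] at j), t, ht, ?_⟩
  · simpa [mul_assoc] using u3.mul (u3.inv.conj g) (h.good_pel hz h1 u4
      ((e.symm.mul_left u4.inv_left).mul_left e.symm.inv_left) u3 (u3.inv.conj g))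
  · simp [a2, s1.card] at this s3
    omega

theorem false : False := by
  have := Fintype.ofFinite G
  obtain ⟨P⟩ : Nonempty (Sylow p G) := inferInstance
  have := Fintype.ofFinite P
  have pe := fun x (hx : x ∈ P) => pel_of_mem P.isPGroup' hx
  have l1 := FTB.Hyp.card_lt (H := P) ⟨eq_bot_iff.2 fun x hx => by_contra fun i =>
    h.notMem (pe x hx.1) i hx.2, fun g x hg a ha b hb a1 b1 e1 e2 => ?_⟩
    (fun a ha b hb => h.comm P.isPGroup' ha hb) (fun M _ hM => top_le_iff.1 (h.gen.ge.trans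
      ((closure_le _).2 fun x hx => ?_))) h.irr (coe_deg h.ch).symm (by have := h.two_le; omega)
  · have := Nat.le_of_dvd Nat.card_pos (P.pow_dvd_card_of_pow_dvd_card h.sq)
    have := Nat.pow_le_pow_left h.deg.le 2
    rw [add_comm] at this
    omega
  · have b2 := (pe b hb).conj x
    have b3 : x * b * x⁻¹ ≠ 1 := by simpa using b1
    have b4 := (good_res h.ch h.ker).1 (h.good_cent hg (pe a ha) a1 e1.symm) _
      (mem_centralizer_singleton_iff.2 e2.symm) _ (mem_centralizer_singleton_iff.2 e1.symm) b2 (pe a ha)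
    have b5 := b2.mem_sylow P fun y hy =>
      h.good_pel (pe a ha) a1 b4 (h.comm P.isPGroup' hy ha) b2 (pe y hy)
    exact mem_normalizer_fintype fun y hy => ((pe y hy).conj x).mem_sylow P fun w hw =>
      h.good_pel b2 b3 ((h.comm P.isPGroup' hy hb).map (MulAut.conj x)) (h.comm P.isPGroup' hw b5)
        ((pe y hy).conj x) (pe w hw)
  · obtain ⟨Q, hQ, -⟩ := Pel.exists_sylow hx hx (Commute.refl x)
    obtain ⟨g, rfl⟩ := MulAction.exists_smul_eq G P Q
    obtain ⟨y, hy, rfl⟩ := hQ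
    exact ‹M.Normal›.conj_mem _ (hM hy) g

end Mc

theorem red_aux (n : ℕ) : ∀ {G : Type u} [Group G] [Finite G] {χ : G → ℂ}, Nat.card G < n →
    IsCharacter G χ → charDegree χ + 1 < p → Red p χ := by
  induction n with | zero => exact fun h => absurd h (Nat.not_lt_zero _) | succ n ih =>
  intro G _ _ χ hn hχ hd
  have A : ∀ {χ : G → ℂ}, IsIrrCharacter G χ → charKer χ ≠ ⊥ → charDegree χ + 1 < p → Red p χ := by
    intro χ hχ hf hd
    have := charKer_normal (irr_isClassFunction hχ)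
    obtain ⟨ζ, h1, -, e⟩ := exists_faithful (irr_isCharacter hχ)
    rw [e] at hd ⊢
    refine (red_comp (QuotientGroup.mk'_surjective _)).2 (ih ?_ h1 hd)
    have := card_eq_card_quotient_mul_card_subgroup (charKer χ)
    have := (one_lt_card_iff_ne_bot _).2 hf
    nlinarith [Nat.card_pos (α := G ⧸ charKer χ)]
  have B : ∀ {χ : G → ℂ}, IsIrrCharacter G χ → charDegree χ + 1 < p → Red p χ := by
    intro χ hχ hd
    have hc := irr_isCharacter hχ
    by_cases hf : charKer χ = ⊥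
    swap
    · exact A hχ hf hd
    have I : ∀ H : Subgroup G, H ≠ ⊤ → Red p fun x : H => χ x := fun H hH =>
      ih (by have := H.card_le_card_group; have := mt (card_eq_iff_eq_top H).1 hH; omega)
        (char_restrict hc H) hd
    by_cases hL : closure {x : G | Pel p x} = ⊤
    swap
    · obtain ⟨O, _, h1, h2⟩ := I _ hL
      have : (closure {x : G | Pel p x}).Normal := ⟨fun x hx g => (closure_le (comap (MulAut.conj
        g).toMonoidHom (closure {x : G | Pel p x}))).2
          (fun y hy => Subgroup.subset_closure (Pel.conj hy g)) hx⟩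
      obtain ⟨P⟩ : Nonempty (Sylow p G) := inferInstance
      refine ⟨(pCore p (closure {x : G | Pel p x})).map (Subgroup.subtype _), inferInstance,
        fun x hx => (pel_of_mem (Solv.isPGroup_map_pCore _) hx).imp fun k hk => by simp [hk],
        fun d => h2 ?_⟩
      rw [index_map_subtype] at d
      exact (((hp.out.coprime_iff_not_dvd.2 fun i => P.not_dvd_index (i.trans (index_dvd_of_le
        fun x hx => subset_closure (pel_of_mem P.isPGroup' hx)))).pow_left 2).dvd_of_dvd_mul_right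
        d).trans (index_dvd_of_le (Solv.le_pCore fun x => (h1 x x.2).imp fun k hk => Subtype.ext (by
          rwa [charKer_restrict hc, hf, bot_subgroupOf, mem_bot] at hk)))
    by_cases hO : pCore p G = ⊥
    · by_contra i
      exact Mc.false ⟨hχ, hf, hd, hO, by_contra fun d => i ⟨⊥, inferInstance, fun x hx =>
        ⟨0, by simp [mem_bot.1 hx]⟩, by rwa [index_bot]⟩, hL, I⟩
    obtain ⟨l, a, h1, h2⟩ := exists_twist (p := p) hc (Nat.not_dvd_of_pos_of_lt (deg_pos' hχ) (by omega))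
    refine Red.of_mul hc h1 (A (irr_linear_mul l hχ) (fun i => hO (eq_bot_iff.2 fun x hx =>
      i ▸ h2 x (center_le_charCenter hχ (mem_center_iff.2 fun g => ?_)) ((pel_of_mem
        Solv.pCore_isPGroup hx).imp fun k hk => by simp [hk]))) (by simpa [charDegree] using hd))
    exact mem_centralizer_singleton_iff.1 ((hL.ge.trans ((closure_le _).2 fun y hy =>
      mem_centralizer_singleton_iff.2 (commute_of_pgroup hc hf (by omega) (hy.isPGroup.to_sup_of_normal_right
        Solv.pCore_isPGroup) (mem_sup_left (mem_zpowers y)) (mem_sup_right hx)))) trivial)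
  by_cases h : Good p χ
  · exact h.red hχ
  obtain ⟨ξ, ψ, h1, h2, rfl, h3⟩ := exists_bad hχ h
  have h4 := deg_add (irr_isCharacter h1) h2
  obtain ⟨T, _, _, f, ζ, l, k⟩ := exists_tq h1 (by omega) h3 (B h1 (by omega))
  exact (B h1 (by omega)).add (irr_isCharacter h1) h2 (good_of_bad h1 h2 hd (k.exists_pel (by omega)).1
    fun θ φ a b c => B a (by have := c ▸ deg_add (irr_isCharacter a) b; omega))

/-- Feit's theorem. -/
theorem red (hχ : IsCharacter G χ) (hd : charDegree χ + 1 < p) : Red p χ :=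
  red_aux _ (Nat.lt_succ_self _) hχ hd

end CF.Small.Lg
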