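import Cfsg.Agent.Small.Lg4
import Cfsg.Agent.Small.Tab
import Cfsg.Agent.Clifford.Extend

/-!
The central quotient, and principal blocks with three nonexceptional characters.
-/

set_option autoImplicit false

namespace CF.Small

open Subgroup Cfsg CF.Char CF.Clifford CF.BlockB CF.PF Function
open scoped ComplexConjugate

variable {p : ℕ} [hp : Fact p.Prime] {G : Type*} [Group G] [Finite G]

omit hp in
theorem dvd_sub_of_val {q : ℕ} (hq : q.Prime) {χ : G → ℂ} (hχ : IsCharacter G χ) {x y : G}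
    (e : Commute x y) (hx : Lg.Pel q x) {a b : ℤ} (ha : χ (x * y) = a) (hb : χ y = b) :
    (q : ℤ) ∣ a - b := by
  have := Fact.mk hq
  obtain ⟨M, hM⟩ := exists_isPModular hq
  have := v_char_mul_sub_lt_one hM hχ e hx.ord
  rwa [ha, hb, ← Int.cast_sub, v_intCast_lt_one_iff hM] at this

theorem exists_sum_pm (s : Multiset ℂ) (r : ℂ) (h : ∀ a ∈ s, a = r ∨ a = -r) :
    ∃ n : ℕ, s.sum = (s.card - 2 * n) * r ∧ s.prod = (-1) ^ n * r ^ s.card := by
  induction s using Multiset.induction_on with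
  | empty => exact ⟨0, by simp⟩
  | cons a s ih =>
    obtain ⟨n, h1, h2⟩ := ih fun b hb => h b (Multiset.mem_cons_of_mem hb)
    rcases h a (Multiset.mem_cons_self a s) with rfl | rfl
    · exact ⟨n, by simp [h1]; ring, by simp [h2]; ring⟩
    · exact ⟨n + 1, by simp [h1]; ring, by simp [h2]; ring⟩

omit hp in
theorem inv_val (hG : commutator G = ⊤) {χ : G → ℂ} (hχ : IsCharacter G χ) {u : G} (hu : u ^ 2 = 1) :
    ∃ k : ℕ, χ u = charDegree χ - 4 * k := by
  obtain ⟨s, hs⟩ := Lg.exists_eig hχ u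
  obtain ⟨n, h1, h2⟩ := exists_sum_pm s 1 fun a ha => sq_eq_one_iff.1 (hs.pow_eq hχ hu ha)
  rw [← hs.det hχ, ← coe_detHom hχ, Abelianization.commutator_subset_ker (detHom hχ) (hG.ge trivial),
    one_pow, mul_one, Units.val_one, eq_comm, neg_one_pow_eq_one_iff_even (by norm_num)] at h2
  obtain ⟨k, rfl⟩ := h2
  exact ⟨k, by rw [hs.val, h1, hs.card]; push_cast; ring⟩

theorem cs3 {A B a b : ℝ} (hA : 0 < A) (hB : 0 < B)
    (h : 1 + a ^ 2 / A + b ^ 2 / B = (1 + a + b) ^ 2 / (1 + A + B)) : a = A := by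
  field_simp at h
  by_contra k
  nlinarith [mul_pos hB (sq_pos_of_ne_zero (sub_ne_zero.2 k)), mul_nonneg hA.le (sq_nonneg (B - b)),
    sq_nonneg (a * B - b * A)]

namespace PSet

variable {S : PSet p G} {ζ α β Θ φ : G → ℂ}

theorem exists_quot (hζ : ζ ∈ irr (⊤ : Subgroup G)) (hf : charKer ζ = ⊥)
    (hd : charDegree ζ + 1 < p) (hn : ¬ S.P.Normal) : ∃ T : PSet p (G ⧸ center G),
      T.z = S.z ∧ T.K = ⊥ ∧ T.fi = S.fi ∧ IsSimpleGroup (G ⧸ center G) ∧
        ¬ IsMulCommutative (G ⧸ center G) := by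
  have hc := isCh_top.1 (isCh_of_irr hζ)
  have hz := subset_normalClosure (s := {S.z}) rfl
  obtain ⟨S', e⟩ := S.exists_sub hz
  obtain ⟨a0, hK, a1, -⟩ := low_struct hζ hf hd hn
  have h5 : IsIrrCharacter (normalClosure ({S.z} : Set G)) fun x => ζ x := by
    simpa using (mem_irr.1 a0).2
  have h6 : charKer (fun x : normalClosure ({S.z} : Set G) => ζ x) = ⊥ := by
    rw [charKer_restrict hc, hf, bot_subgroupOf]
  have z1 : Lg.Pel p S.z := ⟨1, by simpa using S.z_pow⟩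
  have hn' := Lg.not_normal S' (mt (Lg.good_res hc hf).1 fun k => hn (normal_of_comm fun g =>
    k _ (normalClosure_normal.conj_mem _ hz g) _ hz (z1.conj g) z1))
  have h8 : S'.fi = S.fi := by
    have := (feit_low hζ hf hd hn).1
    have : charDegree ζ + _ = p ∨ charDegree ζ = _ ∧ _ := (feit_low (mem_irr_top.2 h5) h6 hd hn').1
    have := (low_struct (mem_irr_top.2 h5) h6 hd hn').2.2.1
    omega
  have h9 : ∀ M : Subgroup G, M.Normal → S.z ∈ M → center G ≤ M → M = ⊤ := fun M _ k1 k2 =>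
    eq_top_iff.2 fun g _ => by
      obtain ⟨m, hm, h, hh, rfl⟩ := S.exists_mul_H k1 g
      obtain ⟨n, k3, k4⟩ := mem_As.1 ((Finset.eq_of_subset_of_card_le (s := S'.As) (fun a ha => by
        obtain ⟨n, k3, rfl⟩ := mem_As.1 ha
        exact mem_As.2 ⟨n, As_subset hz e k3⟩) (by rw [card_As, card_As, h8])).ge
          (mem_As.2 ⟨h, S.H_le hh, rfl⟩))
      obtain ⟨i, y, hy, k5⟩ := S.exists_mul_of_mem_C ((S.act_eq_iff (As_subset hz e k3).1
        (S.H_le hh)).1 ((As_subset hz e k3).2.trans k4))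
      rw [inv_mul_eq_iff_eq_mul.1 k5]
      exact mul_mem hm (mul_mem (normalClosure_le_normal (by simpa) n.2)
        (mul_mem (zpowers_le.2 k1 (S.zp_mem i)) (k2 (hK hy))))
  have hs := QuotientGroup.mk'_surjective (center G)
  have hZ : center G = S.K := le_antisymm (center_le_K hn) hK
  have h1 : (S.z : G ⧸ center G) ≠ 1 := fun k =>
    hn (normal_of_mem_center ((QuotientGroup.eq_one_iff _).1 k))
  have hk : Nat.card S.K * Nat.card (G ⧸ center G) = Nat.card G := by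
    rw [← hZ, mul_comm, card_eq_card_quotient_mul_card_subgroup (center G)]
  obtain ⟨T, hT⟩ := exists_pset_eq (z := (S.z : G ⧸ center G)) (orderOf_eq_prime
    (by rw [← QuotientGroup.mk_pow, S.z_pow]; rfl) h1) fun h => S.nsq (hk ▸ h.mul_left _)
  have k6 : ∀ g : G, (g : G ⧸ center G) ∈ T.C → g ∈ S.C := fun g hg => by
    have k6 : S.z⁻¹ * (g * S.z * g⁻¹) ∈ S.K := hZ ▸ QuotientGroup.eq.1 (by
      simp [(hT ▸ T.mem_C_iff.1 hg).eq])
    have k7 := S.pPart_zp_mul 1 k6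
    rw [zp_one, mul_inv_cancel_left, pPart_conj, pPart_of_pElement hp.out z1.ord] at k7
    exact S.mem_C_iff.2 (mul_inv_eq_iff_eq_mul.1 k7)
  have k7 : T.K = ⊥ := eq_bot_iff.2 fun y hy => by
    obtain ⟨g, rfl⟩ := hs y
    obtain ⟨i, w, hw, rfl⟩ := S.exists_mul_of_mem_C (k6 g (T.K_le_C hy))
    refine T.eq_one_of_mem_P_H ?_ (T.K_le_H hy)
    rw [map_mul, show QuotientGroup.mk' _ w = 1 from (QuotientGroup.eq_one_iff w).2 (hK hw), mul_one,
      zp, map_pow]
    exact pow_mem (hT.subst (motive := (· ∈ T.P)) (mem_zpowers T.z)) _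
  obtain ⟨n, k8⟩ := S.exists_index_N
  obtain ⟨m, k9⟩ := T.exists_index_N
  have k10 := T.card_eq
  rw [k7, card_bot, mul_one] at k10
  have k11 : T.fi = S.fi := by
    rw [S.card_eq, k10, k8, k9, mul_comm p (Nat.card S.K), mul_assoc, mul_assoc, mul_assoc,
      Nat.mul_right_inj Nat.card_pos.ne', Nat.mul_right_inj hp.out.ne_zero] at hk
    have := Nat.le_of_dvd (by omega) T.fi_dvd
    simpa [mul_add, ← mul_assoc, Nat.mod_eq_of_lt (show T.fi < p by omega),
      Nat.mod_eq_of_lt (show S.fi < p by omega)] using congrArg (· % p) hk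
  have : Nontrivial (G ⧸ center G) := ⟨_, _, h1⟩
  refine ⟨T, hT, k7, k11, ⟨fun M _ => ?_⟩, fun k => h1 ?_⟩
  · have k12 : center G ≤ M.comap (QuotientGroup.mk' _) := fun x hx =>
      mem_comap.2 (by rw [show QuotientGroup.mk' _ x = 1 from (QuotientGroup.eq_one_iff x).2 hx]
                      exact one_mem _)
    rw [← map_comap_eq_self_of_surjective hs M]
    by_cases k : S.z ∈ M.comap (QuotientGroup.mk' _)
    · exact .inr (by rw [h9 _ inferInstance k k12, map_top_of_surjective _ hs])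
    refine .inl ((Subgroup.map_eq_bot_iff _).2 fun y hy => (QuotientGroup.eq_one_iff y).2
      (mem_center_iff.2 fun g => ((h9 (centralizer (M.comap (QuotientGroup.mk' _))) inferInstance
        (fun y hy => ?_) (center_le_centralizer _)).ge (mem_top g) y hy).symm))
    have := S.comm_mem_ker (S.not_dvd_card_of_z_notMem k) hc hd hy
    rw [hf, mem_bot, mul_inv_eq_one, mul_inv_eq_iff_eq_mul] at this
    exact this.symm
  · have := T.z_mem_commutator (k11 ▸ fun k => hn (normal_of_mem_center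
      (charCenter_eq_center_of_faithful (mem_irr_top.1 hζ) hf ▸ z_mem_center_of_fi k hζ hd)))
    rwa [(commutator_eq_bot_iff_center_eq_top _).2 center_eq_top, mem_bot, hT] at this

theorem act_pow {n : G} (hn : n ∈ S.N) : S.act n ^ S.fi = 1 := by
  have : (S.C.subgroupOf S.N).Normal := (normal_subgroupOf_iff_le_normalizer S.C_le_N).2 S.N_le_normalizer_C
  have h := S.act_of_mem_C ((S.C.subgroupOf S.N).pow_index_mem ⟨n, hn⟩)
  rw [subtype_apply, ← S.coe_actHom, map_pow] at h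
  exact h

namespace Blk

variable (B : S.Blk (triv S.K))

open _root_.Classical in
theorem inv_formula (hK : S.K = ⊥) (ho : Odd S.fi) (h2 : p ≠ 2) {u w : G} (hu : u ^ 2 = 1)
    (hw : w ^ 2 = 1) : ∑ φ ∈ B.X, B.ε φ * (φ u * φ w) / charDegree φ =
      B.δ * (B.ex 1 u * B.ex 1 w) / B.x := by
  have r : ∀ {u : G}, u ^ 2 = 1 → ¬ p ∣ orderOf u := fun h d => h2 ((Nat.prime_dvd_prime_iff_eq hp.out
    Nat.prime_two).1 (d.trans (orderOf_dvd_of_pow_eq_one h)))
  have e := card_class_mul_eq u w S.z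
  have : IsEmpty {x : G × G // IsConj u x.1 ∧ IsConj w x.2 ∧ x.1 * x.2 = S.z} := ⟨by
    rintro ⟨⟨a, b⟩, h1, h3, h4⟩
    have a2 : a * a = 1 := by simpa [hu, sq] using (h1.pow 2).symm
    have b2 : b * b = 1 := by simpa [hw, sq] using (h3.pow 2).symm
    have c : a * S.z * a⁻¹ = S.zp (-1) := by
      rw [zp_neg, zp_one, ← h4, ← mul_assoc, a2, one_mul, mul_inv_rev, inv_eq_of_mul_eq_one_right b2]
    have c1 := S.mem_N_of_conj (mem_zpowers _) S.z_ne_one (c ▸ S.zp_mem _)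
    have c2 := act_pow c1
    rw [S.zp_injective ((S.conj_z c1).symm.trans c), ho.neg_one_pow] at c2
    exact h2 ((Nat.prime_dvd_prime_iff_eq hp.out Nat.prime_two).1 ((ZMod.natCast_eq_zero_iff 2 p).1
      (by push_cast; linear_combination -c2)))⟩
  have h1 : ∀ a : G, (Nat.card {x : G // IsConj a x} : ℂ) ≠ 0 := fun a =>
    Nat.cast_ne_zero.2 (@Nat.card_pos _ ⟨⟨a, IsConj.refl a⟩⟩ _).ne'
  rw [Nat.card_of_isEmpty, Nat.cast_zero, eq_comm, mul_eq_zero_iff_left (div_ne_zero (mul_ne_zero (h1 u)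
    (h1 w)) (Nat.cast_ne_zero.2 Nat.card_pos.ne')),
    ← sum_irr_top fun χ => χ u * χ w * conj (χ S.z) / χ 1, B.sum_split,
    Finset.sum_eq_zero (s := irr ⊤ \ B.all) fun ψ hψ => by
      rw [B.vanish_of_notMem hK (Finset.mem_sdiff.1 hψ).1 (Finset.mem_sdiff.1 hψ).2
        S.ord.symm.dvd]; simp,
    Finset.sum_congr (s₁ := B.Y) rfl (g := fun ψ => B.ex 1 u * B.ex 1 w / B.x * conj (ψ S.z))
      fun ψ hψ => by
        rw [B.Y_reg (triv_mem_irr _) hψ (r hu), B.Y_reg (triv_mem_irr _) hψ (r hw),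
          ← coe_deg (isCh_of_irr (B.Y_irr hψ)), B.deg_Y (triv_mem_irr _) hψ]
        ring,
    Finset.sum_congr (s₁ := B.X) rfl (g := fun φ => B.ε φ * (φ u * φ w) / charDegree φ) fun φ hφ => by
      rw [B.pX_z hφ, coe_deg (isCh_of_irr (B.X_irr φ hφ)), map_intCast, mul_comm],
    ← Finset.mul_sum, ← map_sum, B.psum_Y_z, map_neg, map_intCast] at e
  linear_combination e

open _root_.Classical in
theorem sum_val (hK : S.K = ⊥) (hΘ : IsCh ⊤ Θ) : ∑ i ∈ Finset.univ.erase 0, Θ (S.zp i) =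
    ((p - 1) * ∑ φ ∈ B.X, B.ε φ * mu ⊤ Θ φ - B.δ * S.fi * ∑ φ ∈ B.Y, mu ⊤ Θ φ : ℤ) := by
  conv_lhs => rw [IsCh.eq_sum_mu hΘ]
  simp only [Finset.sum_apply, Pi.smul_apply, smul_eq_mul]
  rw [Finset.sum_comm, B.sum_split, Finset.sum_eq_zero (s := irr ⊤ \ B.all) fun ψ hψ =>
    Finset.sum_eq_zero fun i hi => by
      rw [B.vanish_of_notMem hK (Finset.mem_sdiff.1 hψ).1 (Finset.mem_sdiff.1 hψ).2
        (S.orderOf_zp (Finset.ne_of_mem_erase hi)).symm.dvd, mul_zero],
    Finset.sum_congr (s₁ := B.X) rfl (g := fun φ => ((p - 1) * (B.ε φ * mu ⊤ Θ φ) : ℂ)) fun φ hφ => by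
      rw [Finset.sum_congr rfl fun i hi => by rw [B.pX_zp hφ (Finset.ne_of_mem_erase hi)]]
      simp [Nat.cast_pred hp.out.pos, mul_comm],
    Finset.sum_congr (s₁ := B.Y) rfl (g := fun φ => (-(B.δ * S.fi * mu ⊤ Θ φ) : ℂ)) fun φ hφ => by
      obtain ⟨j, hj, rfl⟩ := B.mem_Y.1 hφ
      rw [← Finset.mul_sum, B.sum_ex_zp hj]; ring]
  simp [Finset.mul_sum, sub_eq_add_neg]

theorem deg_le (hΘ : IsCh ⊤ Θ) : ∑ φ ∈ B.X, mu ⊤ Θ φ * charDegree φ +
    (∑ φ ∈ B.Y, mu ⊤ Θ φ) * B.x ≤ charDegree Θ := by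
  rw [deg_eq_sum_mu hΘ, B.sum_split, Finset.sum_mul,
    Finset.sum_congr (s₁ := B.Y) rfl fun φ hφ => by rw [← B.deg_Y (triv_mem_irr _) hφ]]
  exact Nat.le_add_right _ _

open _root_.Classical in
/-- A principal block with three nonexceptional characters. -/
structure Tri (α β : G → ℂ) : Prop where
  X : B.X = {triv ⊤, α, β}
  n1 : triv ⊤ ≠ α
  n2 : triv ⊤ ≠ β
  n3 : α ≠ β
  e1 : B.ε α = B.δ
  e2 : B.ε β = -1

open _root_.Classical in
theorem sum_tri {A : Type*} [AddCommMonoid A] (h : B.X = {triv ⊤, α, β}) (n1 : triv ⊤ ≠ α)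
    (n2 : triv ⊤ ≠ β) (n3 : α ≠ β) (F : (G → ℂ) → A) :
    ∑ φ ∈ B.X, F φ = F (triv ⊤) + F α + F β := by
  rw [h, Finset.sum_insert (by simp [n1, n2]), Finset.sum_pair n3, add_assoc]

end Blk

theorem exists_tri [IsSimpleGroup G] (hK : S.K = ⊥) (hf : S.fi = 3) (h2 : 2 ∣ Nat.card G) :
    ∃ (B : S.Blk (triv S.K)) (α β : G → ℂ), B.Tri α β := by
  classical
  obtain ⟨B, hB⟩ := S.exists_pblk
  have p2 : p ≠ 2 := by rintro rfl; simpa [hf] using S.fi_dvd
  obtain ⟨u, hu⟩ := exists_prime_orderOf_dvd_card' 2 h2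
  have u2 : u ^ 2 = 1 := hu ▸ pow_orderOf_eq_one u
  have val : ∀ φ ∈ irr (⊤ : Subgroup G), ∃ a : ℤ, φ u = a ∧ (a = charDegree φ → φ = triv ⊤) :=
    fun φ hφ => by
      have hc := irr_isCharacter (mem_irr_top.1 hφ)
      obtain ⟨a, ha⟩ := gen_eq_int_of_sq_eq_one (gen_of_char hc) u2
      refine ⟨a, ha, fun e => by_contra fun k => ?_⟩
      have := (charKer_eq_bot_of_simple (mem_irr_top.1 hφ) (by rwa [triv_top] at k)).le
        ((mem_charKer_iff hc).2 (by rw [ha, e, ← Lg.coe_deg hc, Int.cast_natCast]))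
      simp [mem_bot.1 this] at hu
  have key : ∀ α β, B.X = {triv ⊤, α, β} → triv ⊤ ≠ α → triv ⊤ ≠ β → α ≠ β → B.ε α = 1 →
      B.ε β = -1 ∧ B.δ = 1 := fun α β hX n1 n2 n3 e => by
    have m1 : α ∈ B.X := by simp [hX]
    have m2 : β ∈ B.X := by simp [hX]
    obtain ⟨a, ha, ha'⟩ := val α (B.X_irr α m1)
    obtain ⟨b, hb, -⟩ := val β (B.X_irr β m2)
    obtain ⟨c, hc, -⟩ := val _ (B.ex_irr 1 one_ne_zero)
    have k1 := B.inv_formula hK (by rw [hf]; decide) p2 u2 u2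
    have k2 := B.reg_rel (triv_mem_irr _) one_ne_zero (g := u) (by
      rw [hu, Nat.prime_dvd_prime_iff_eq hp.out Nat.prime_two]; exact p2)
    have k3 := B.deg_eq (triv_mem_irr _)
    rw [B.sum_tri hX n1 n2 n3, B.ε_triv hB, e] at k1 k2 k3
    simp only [ha, hb, hc, deg_triv, triv_of_mem (mem_top u)] at k1 k2 k3
    have d1 := deg_pos (B.X_irr α m1)
    have d2 := deg_pos (B.X_irr β m2)
    have d3 := B.x_pos
    have k4 : (1 + a ^ 2 / charDegree α + B.ε β * b ^ 2 / charDegree β : ℝ) = B.δ * c ^ 2 / B.x := by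
      apply Complex.ofReal_injective
      push_cast at k1 ⊢
      linear_combination k1
    norm_cast at k2
    rcases B.ε_sign β m2 with e | e <;> rcases B.δ_sign with e' | e' <;> rw [e, e'] at k2 k3 k4
    · refine (n1 (ha' ?_).symm).elim
      exact_mod_cast cs3 (a := a) (b := b) (Nat.cast_pos.2 d1) (Nat.cast_pos.2 d2) (by
        rw [show (1 + a + b : ℝ) = c by exact_mod_cast (by omega),
          show (1 + charDegree α + charDegree β : ℝ) = B.x by exact_mod_cast (by omega)]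
        simpa using k4)
    · omega
    · exact ⟨e, e'⟩
    · refine (n1 (ha' ?_).symm).elim
      exact_mod_cast cs3 (a := a) (b := c) (Nat.cast_pos.2 d1) (Nat.cast_pos.2 d3) (by
        rw [show (1 + a + c : ℝ) = b by exact_mod_cast (by omega),
          show (1 + charDegree α + B.x : ℝ) = charDegree β by exact_mod_cast (by omega)]
        push_cast at k4
        linear_combination k4)
  obtain ⟨α, β, n3, hX⟩ := Finset.card_eq_two.1 (show (B.X.erase (triv ⊤)).card = 2 by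
    rw [Finset.card_erase_of_mem hB, B.pcard_X, hf])
  have n1 : triv ⊤ ≠ α := (Finset.ne_of_mem_erase (hX.ge (by simp))).symm
  have n2 : triv ⊤ ≠ β := (Finset.ne_of_mem_erase (hX.ge (by simp))).symm
  have X1 : B.X = {triv ⊤, α, β} := by rw [← hX, Finset.insert_erase hB]
  have X2 : B.X = {triv ⊤, β, α} := by rw [X1, Finset.pair_comm]
  rcases B.ε_sign α (by simp [X1]) with e | e
  · have := key α β X1 n1 n2 n3 e
    exact ⟨B, α, β, X1, n1, n2, n3, e.trans this.2.symm, this.1⟩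
  rcases B.ε_sign β (by simp [X1]) with e' | e'
  · exact ⟨B, β, α, X2, n2, n1, n3.symm, e'.trans (key β α X2 n2 n1 n3.symm e').2.symm, e⟩
  refine ⟨B, α, β, X1, n1, n2, n3, e.trans (B.δ_sign.resolve_left fun k => ?_).symm, e'⟩
  have k3 := B.deg_eq (triv_mem_irr _)
  rw [B.sum_tri X1 n1 n2 n3, B.ε_triv hB, e, e', k, deg_triv] at k3
  have := deg_pos (B.X_irr α (by simp [X1]))
  have := B.x_pos
  omega

end PSet

end CF.Small
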