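import Cfsg.Agent.Small.Lg5
import Cfsg.Agent.Fgs2.Isa5

/-!
There is no linear group of degree `16` with a non-normal Sylow `19`-subgroup.
-/

set_option autoImplicit false

namespace CF.Small

open Subgroup Cfsg CF.Char CF.Clifford CF.BlockB CF.PF Function
open scoped ComplexConjugate

universe u

variable {p : ℕ} [hp : Fact p.Prime]

theorem prime_le {G : Type u} [Group G] [Finite G] [IsSimpleGroup (G ⧸ center G)]
    (hG : ¬ IsMulCommutative (G ⧸ center G)) {χ : G → ℂ} (hχ : IsIrrCharacter G χ)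
    (hf : charKer χ = ⊥) (h : p ∣ Nat.card (G ⧸ center G)) (hd : charDegree χ + 1 < p) :
    ¬ Lg.Good p χ ∧ p ≤ 2 * charDegree χ + 1 := by
  have hc := irr_isCharacter hχ
  have k : ¬ Lg.Good p χ := fun k => by
    obtain ⟨O, _, h1, h2⟩ := k.exists hc
    have hs := QuotientGroup.mk'_surjective (center G)
    rcases (‹O.Normal›.map _ hs).eq_bot_or_eq_top with e | e
    · refine h2 (h.trans ?_)
      rw [← index_bot, ← e]
      exact index_map_dvd O hs
    · refine hG ⟨⟨fun x y => ?_⟩⟩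
      obtain ⟨x, hx, rfl⟩ := e.ge (mem_top x)
      obtain ⟨y, hy, rfl⟩ := e.ge (mem_top y)
      exact (((Lg.good_iff hf).1 k x y ((h1 x hx).imp fun _ h => mem_bot.1 (hf ▸ h))
        ((h1 y hy).imp fun _ h => mem_bot.1 (hf ▸ h))).map _).eq
  obtain ⟨T, _, _, f, ζ, l, t⟩ := Lg.exists_tq hχ hd k (Lg.red hc hd)
  exact ⟨k, (t.exists_pel hd).1⟩

variable {G : Type*} [Group G] [Finite G]

omit hp in
theorem not_pow_dvd {q k : ℕ} (hq : q.Prime) {χ : G → ℂ} (hχ : IsCharacter G χ) (hf : charKer χ = ⊥)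
    (h : PRat q χ) (hk : q ^ k ∣ Nat.card G) :
    q ^ k ∣ q ^ (charDegree χ / (q - 1)) * (charDegree χ / (q - 1)).factorial := by
  have := Fact.mk hq
  obtain ⟨R, hR⟩ := Sylow.exists_subgroup_card_pow_prime q hk
  have := Fgs2.Isa.schur_dvd hq (IsPGroup.of_card hR) (char_restrict hχ R) (Lg.coe_deg hχ).symm
    fun m c x => h.pow hq (k := k) (congrArg Subtype.val (hR ▸ pow_card_eq_one' (x := x))) c
  rwa [charKer_restrict hχ, hf, bot_subgroupOf, index_bot, hR] at this

namespace PSet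

variable {S : PSet p G} {ζ α β θ φ : G → ℂ} {j : ZMod p}

theorem sum_eta_conj (hj : j ≠ 0) :
    ∑ i ∈ Finset.univ.erase 0, S.eta j i * S.eta (-j) i = p * S.fi - S.fi ^ 2 := by
  simp only [eta, Finset.sum_mul_sum, ← Finset.sum_product', ← ec_add, ← add_mul]
  rw [Finset.sum_product]
  dsimp only
  rw [sum_ec_fun, Finset.filter_congr (q := fun a => a.1 = a.2) fun a _ => by
    rw [neg_mul, ← sub_eq_add_neg, sub_eq_zero, mul_right_inj' hj], ← Finset.diag_eq_filter,
    Finset.diag_card, Finset.card_product, card_As]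
  simp [sq]

theorem Gen.center_pow (hG : S.Gen) (hζ : ζ ∈ irr (⊤ : Subgroup G)) (hf : charKer ζ = ⊥) {y : G}
    (hy : y ∈ center G) (h : ¬ p ∣ orderOf y) : y ^ charDegree ζ = 1 := by
  have hc := isCh_top.1 (isCh_of_irr hζ)
  obtain ⟨c, e⟩ := Lg.eig_of_center hc (center_le_charCenter (mem_irr_top.1 hζ) hy)
  have h1 := Lg.map_eq_one_of_gen (p := p) (S := Group.conjugatesOfSet {S.z}) (fun x hx => by
    obtain ⟨_, rfl, k⟩ := Group.mem_conjugatesOfSet_iff.1 hx
    obtain ⟨g, rfl⟩ := isConj_iff.1 k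
    exact Lg.Pel.conj ⟨1, by simpa using S.z_pow⟩ g)
    (hG _ normalClosure_normal (subset_normalClosure rfl)) (detHom hc) h
  rw [Units.ext_iff, coe_detHom, e.det hc, Multiset.prod_replicate] at h1
  exact mem_bot.1 (hf ▸ (e.pow _).mem_ker hc fun a ha => by
    obtain ⟨b, hb, rfl⟩ := Multiset.mem_map.1 ha
    rwa [Multiset.eq_of_mem_replicate hb])

theorem Blk.eq_ex (B : S.Blk θ) (h1 : S.ei θ + 1 < p) (hj : j ≠ 0) (hφ : φ ∈ irr (⊤ : Subgroup G))
    (h : ∀ a ∈ S.A, φ a = B.ex j a) : φ = B.ex j := by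
  classical
  have e := fun j' => bz_eq_of (b_congr h θ j')
  by_contra k
  refine B.δ_ne_zero (neg_eq_zero.1 ((B.bz_ex j hj).symm.trans ((e j).symm.trans
    (B.bz_other φ hφ j hj (fun i => ?_) k))))
  obtain ⟨l, h2, h3⟩ := Finset.exists_mem_notMem_of_card_lt_card (s := Finset.univ.filter (S.Rel θ j))
    (t := Finset.univ.erase 0) (by rw [card_rel θ hj]; simp; omega)
  have := B.bz_ex' hj (Finset.ne_of_mem_erase h2)
  rw [if_neg (by simpa using h3), ← e, B.bz_X φ i l (Finset.ne_of_mem_erase h2)] at this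
  exact B.ε_ne_zero i this

theorem Blk.sum_Y_le (B : S.Blk θ) (hK : S.K ≤ center G) (hθ : θ ∈ irr S.K) {y : G}
    (hy : ∀ w ∈ S.K, w ^ orderOf y = 1 → w = 1) :
    Nat.card S.K * ∑ ψ ∈ B.Y, ‖ψ y‖ ^ 2 ≤ Nat.card (centralizer ({y} : Set G)) := by
  classical
  have h1 : ∑ w ∈ els S.K, conj (θ w) * ∑ φ ∈ irr ⊤, φ (w * y) * conj (φ y) =
      Nat.card (centralizer ({y} : Set G)) := by
    rw [Finset.sum_eq_single_of_mem 1 (mem_els.2 (one_mem _)) fun w hw h => by
      rw [sum_irr_mul_conj_of_not_conj (mem_top _) (mem_top _) fun x _ e => h (hy w (mem_els.1 hw) (by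
        have := congrArg (· ^ orderOf y) e
        simpa [(Commute.mul_pow (mem_center_iff.1 (hK (mem_els.1 hw)) y).symm)] using this)), mul_zero],
      (B.toEx hK hθ one_ne_zero).1.one, map_one, one_mul, one_mul]
    simp only [Complex.mul_conj']
    exact_mod_cast top_inf_eq (centralizer ({y} : Set G)) ▸ sum_irr_norm_sq' (mem_top y)
  simp only [Finset.mul_sum] at h1
  rw [Finset.sum_comm, Finset.sum_congr rfl (g := fun φ => ((Nat.card S.K * (mu S.K φ θ /
    charDegree φ * ‖φ y‖ ^ 2) : ℝ) : ℂ)) fun φ hφ => by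
      push_cast
      rw [coe_mu le_top (isCh_of_irr hφ) (isCh_of_irr hθ), coe_deg (isCh_of_irr hφ), ip,
        ← Complex.mul_conj', ← mul_assoc, mul_div_assoc', mul_inv_cancel_left₀ (card_ne_zero _),
        Finset.sum_div, Finset.sum_mul]
      exact Finset.sum_congr rfl fun w hw => by
        rw [mul_of_center hφ (hK (mem_els.1 hw))]; ring] at h1
  norm_cast at h1
  rw [← h1, Finset.mul_sum]
  refine le_trans (le_of_eq (Finset.sum_congr rfl fun ψ hψ => ?_)) (Finset.sum_le_sum_of_subset_of_nonneg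
    (fun ψ hψ => B.Y_irr hψ) fun _ _ _ => by positivity)
  have h2 := isCh_of_irr (B.Y_irr hψ)
  obtain ⟨j, hj, rfl⟩ := B.mem_Y.1 hψ
  rw [mu_of_eq (n := charDegree (B.ex j)) (by
    rw [ip_congr _ (φ' := B.ex j 1 • θ) (B.toEx hK hθ hj).1.reg fun _ _ => rfl, ip_smul_left,
      ip_irr_self hθ, mul_one, coe_deg h2]), div_self (Nat.cast_pos.2 (deg_pos (B.Y_irr hψ))).ne', one_mul]

namespace Blk.Tri

variable {B : S.Blk (triv S.K)} (h : B.Tri α β)
include h

theorem m0 : triv ⊤ ∈ B.X := by simp [h.X]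

theorem m1 : α ∈ B.X := by simp [h.X]

theorem m2 : β ∈ B.X := by simp [h.X]

theorem num (hG : commutator G = ⊤) (hf : S.fi = 3) :
    1 + B.δ * charDegree α - charDegree β = B.δ * B.x ∧ charDegree α ≠ 1 ∧
      (p : ℤ) ∣ charDegree α - B.δ ∧ (p : ℤ) ∣ charDegree β + 1 ∧ (p : ℤ) ∣ B.x - B.δ * 3 := by
  have k := B.deg_eq (triv_mem_irr _)
  rw [B.sum_tri h.X h.n1 h.n2 h.n3, B.ε_triv h.m0, h.e1, h.e2, deg_triv] at k
  exact ⟨by linear_combination k, fun e => h.n1 (eq_triv_of_deg hG (B.X_irr α h.m1) e).symm,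
    h.e1 ▸ (B.pX_modEq h.m1).symm.dvd, by simpa [h.e2] using (B.pX_modEq h.m2).symm.dvd,
    by simpa [hf] using B.px_modEq.symm.dvd⟩

theorem cases (hK : S.K = ⊥) (hφ : φ ∈ irr (⊤ : Subgroup G)) (hd : ¬ p ∣ charDegree φ) :
    φ = triv ⊤ ∨ φ = α ∨ φ = β ∨ φ ∈ B.Y := by
  simpa [B.mem_all, h.X, or_assoc] using not_not.1 (mt (B.dvd_deg_of_notMem hK hφ) hd)

end Blk.Tri

theorem exists_num (hζ : ζ ∈ irr (⊤ : Subgroup G)) (hf : charKer ζ = ⊥)
    (hd : charDegree ζ + 3 = p) (hn : ¬ S.P.Normal) (he : S.fi = 3) (h2 : 2 ∣ charDegree ζ) :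
    IsSimpleGroup (G ⧸ center G) ∧ ¬ IsMulCommutative (G ⧸ center G) ∧
    ∃ (T : PSet p (G ⧸ center G)) (B : T.Blk (triv T.K)) (α β Θ : G ⧸ center G → ℂ) (b s : ℕ),
      T.K = ⊥ ∧ T.fi = 3 ∧ B.Tri α β ∧ IsCh ⊤ Θ ∧ (∀ g : G, Θ g = ζ g * conj (ζ g)) ∧
      mu ⊤ Θ (triv ⊤) = 1 ∧
      ((p - 1) * (1 + B.δ * mu ⊤ Θ α - b) - B.δ * 3 * s : ℤ) = 3 * charDegree ζ ∧
      1 + mu ⊤ Θ α * charDegree α + s * B.x ≤ charDegree ζ ^ 2 := by
  have := Fintype.ofFinite G
  have hi := mem_irr_top.1 hζ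
  have hc := irr_isCharacter hi
  obtain ⟨T, h1, h3, h4, _, h5⟩ := exists_quot hζ hf (by omega) hn
  obtain ⟨-, hK, -, θ, hθ, B', j, hj, e, h6, h7⟩ := low_struct hζ hf (by omega) hn
  obtain ⟨B, α, β, h8⟩ := exists_tri h3 (h4.trans he)
    (h2.trans (irr_one_dvd_index_center hi (Lg.coe_deg hc).symm))
  obtain ⟨Θ, h9, h10⟩ := exists_char_quotient (char_mul hc (char_conj hc)) (center G) fun w hw x => by
    obtain ⟨u, hu⟩ := center_le_charCenter hi hw
    have := (mem_charCenter_iff hc).1 (center_le_charCenter hi hw)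
    rw [← mul_one w, hu, norm_mul, mul_eq_right₀ (norm_ne_zero_iff.2 (irr_one_ne_zero hi))] at this
    simp only [Pi.mul_apply, hu, map_mul]
    linear_combination (ζ x * conj (ζ x)) * (Complex.mul_conj' u).trans (show _ = 1 by rw [this]; simp)
  have h11 : ∀ g : G, Θ g = ζ g * conj (ζ g) := fun g => (congrFun h10 g).symm
  have hΘ := isCh_top.2 h9
  have h12 : mu ⊤ Θ (triv ⊤) = 1 := mu_of_eq (by
    have := Fintype.ofFinite (G ⧸ center G)
    rw [ip_top, triv_top, ← inner_comp_surjective (QuotientGroup.mk' _)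
      (QuotientGroup.mk'_surjective _), Nat.cast_one, ← inner_irr_self hi, inner_eq_inner_one ζ ζ]
    simp [h11])
  have h13 := B.sum_val h3 hΘ
  have h14 := B.deg_le hΘ
  rw [B.sum_tri h8.X h8.n1 h8.n2 h8.n3, h12] at h13 h14
  rw [B.ε_triv h8.m0, h8.e1, h8.e2, h4, Finset.sum_congr rfl (g := fun i => S.eta j i * S.eta (-j) i)
    fun i hi => by
      have := (B'.toEx hK hθ hj).1.val i (Finset.ne_of_mem_erase hi) 1 (one_mem _)
      rw [mul_one, e, (B'.toEx hK hθ hj).1.one, show B'.δ = -1 by omega] at this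
      rw [show T.zp i = S.zp i by simp [zp, h1], h11, this, ← conj_eta]
      simp, sum_eta_conj hj, he] at h13
  refine ⟨‹_›, h5, T, B, α, β, Θ, mu ⊤ Θ β, ∑ φ ∈ B.Y, mu ⊤ Θ φ, h3, h4.trans he, h8, hΘ, h11, h12,
    ?_, ?_⟩
  · apply Int.cast_injective (α := ℂ)
    have : (charDegree ζ + 3 : ℂ) = p := by exact_mod_cast hd
    push_cast at h13 ⊢
    linear_combination -h13 - 3 * this
  · have : charDegree Θ = charDegree ζ ^ 2 := charDegree_of_eq (by
      rw [← QuotientGroup.mk_one, h11, ← Lg.coe_deg hc]; simp [sq])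
    rw [deg_triv] at h14
    omega

theorem Blk.Tri.card_dvd [IsSimpleGroup G] (hG : ¬ IsMulCommutative G) {B : S.Blk (triv S.K)}
    (h : B.Tri α β) (hK : S.K = ⊥) (hf : S.fi = 3) (h19 : p = 19) (hx : B.x = 22)
    (h11 : ¬ 11 ^ 2 ∣ Nat.card G) {y : G} (hy : orderOf y = 11) :
    Nat.card (centralizer ({y} : Set G)) ∣ 33 := by
  have hi := B.ex_irr 1 one_ne_zero
  have hc := isCh_top.1 (isCh_of_irr hi)
  have hd : charDegree (B.ex 1) = 22 := hx
  have h1 : B.ex 1 1 = (22 : ℤ) := by rw [← Lg.coe_deg hc, hd]; rfl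
  obtain ⟨-, -, n1, n2, -⟩ := h.num (commutator_eq_top hG) hf
  rw [show (p : ℤ) = 19 by omega] at n1 n2
  have y1 : y ≠ 1 := by rintro rfl; simp at hy
  obtain ⟨m, hm⟩ := irr_one_dvd_card (mem_irr_top.1 hi) (Lg.coe_deg hc).symm
  have key : ∀ r ∈ centralizer ({y} : Set G), r ≠ 1 → ∀ q : ℕ, q.Prime → q ≠ 11 → Lg.Pel q r →
      ∃ n : ℤ, B.ex 1 r = n ∧ (q : ℤ) ∣ n - 22 ∧ (n = -11 ∨ n = 0 ∨ n = 11) := by
    intro r hr r1 q hq q1 hr'
    have := Fact.mk hq
    have r2 : ¬ p ∣ orderOf r := fun d => not_dvd_card_centralizer hK y1 (by rw [hy, h19]; decide)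
      (d.trans (Subgroup.orderOf_dvd_natCard _ hr))
    obtain ⟨n, hn⟩ := int_of_fixed (char_isIntegral hc r) fun u => by
      have d := (aut_deg u.toRingHom hi).trans hd
      have := B.δ_sign
      rcases h.cases hK (aut_mem_irr u.toRingHom hi) (by rw [d, h19]; decide) with e | e | e | e
      · rw [e, deg_triv] at d; omega
      · rw [← e, d] at n1; omega
      · rw [← e, d] at n2; omega
      · exact B.Y_reg (triv_mem_irr _) e r2
    have c := mem_centralizer_singleton_iff.1 hr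
    have d1 := dvd_sub_of_val (q := 11) (by norm_num) hc c.symm ⟨1, by simp [← hy]⟩ (a := 0)
      ((vanish_of_defect_zero (q := 11) (by norm_num) hi hm (fun d => h11 (by
        rw [hm, hd]; exact (show 11 ^ 2 ∣ 22 * 11 by decide).trans (Nat.mul_dvd_mul_left _ d))) (by
        obtain ⟨k, hk⟩ := hr'.ord
        rw [(Commute.orderOf_mul_eq_mul_orderOf_of_coprime c.symm (by
          rw [hy, hk]
          exact ((Nat.coprime_primes (by norm_num) hq).2 q1.symm).pow_right k)), hy]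
        exact dvd_mul_right _ _)).trans Int.cast_zero.symm) hn
    have d2 := dvd_sub_of_val hq hc (Commute.one_right r) hr' ((congrArg _ (mul_one r)).trans hn) h1
    have d3 := char_norm_le hc r
    have d4 : ‖B.ex 1 r‖ ≠ ‖B.ex 1 1‖ := fun e => r1 (by
      have := (mem_charCenter_iff hc).2 e
      rwa [charCenter_eq_center_of_faithful (mem_irr_top.1 hi) (charKer_eq_bot_of_simple
        (mem_irr_top.1 hi) fun e => by simp [e, charDegree] at hd), center_eq_bot hG] at this)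
    rw [hn, h1, Complex.norm_intCast, Complex.norm_intCast] at d3 d4
    norm_cast at d3 d4
    exact ⟨n, hn, d2, by rcases abs_cases n with h | h <;> omega⟩
  refine (Nat.dvd_iff_prime_pow_dvd_dvd _ _).2 fun q k hq hk => ?_
  have := Fact.mk hq
  rcases k with _ | k
  · simp
  by_cases q1 : q = 11
  · subst q1
    rcases k with _ | k
    · decide
    · exact (h11 ((pow_dvd_pow 11 (by omega)).trans (hk.trans (card_subgroup_dvd_card _)))).elim
  obtain ⟨r, hr⟩ := exists_prime_orderOf_dvd_card' q ((dvd_pow_self q k.succ_ne_zero).trans hk)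
  obtain ⟨n, a1, a2, a3⟩ := key r r.2 (fun e => hq.one_lt.ne' (by
    rw [← hr, show r = 1 from Subtype.ext e, orderOf_one])) q hq q1 (Lg.pel_coe.2 ⟨1, by simp [← hr]⟩)
  have q2 : q ≠ 2 := by
    rintro rfl
    obtain ⟨k, hk⟩ := inv_val (commutator_eq_top hG) hc (u := r) (by
      rw [← hr, ← coe_pow, pow_orderOf_eq_one, coe_one])
    rw [a1, hd] at hk
    have : n = 22 - 4 * k := by exact_mod_cast hk
    omega
  obtain rfl : q = 3 := by
    have : q ∣ 66 := Int.natCast_dvd_natCast.1 (a2.trans (by rcases a3 with rfl | rfl | rfl <;> decide))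
    have := Nat.le_of_dvd (by norm_num) this
    interval_cases q <;> first | rfl | omega | norm_num at hq
  obtain ⟨R, hR⟩ := Sylow.exists_subgroup_card_pow_prime 3 hk
  have := card_dvd_of_const (isCh_of_irr hi) (R.map (Subgroup.subtype _)) (c := -11) h1 (by
    rintro _ ⟨g, hg, rfl⟩ g1
    obtain ⟨n, a1, a2, a3⟩ := key g g.2 g1 3 hq q1
      (Lg.pel_coe.2 (Lg.pel_of_mem (IsPGroup.of_card hR) hg))
    rw [subtype_apply, a1, show n = -11 by omega])
  rw [card_map_of_injective (subtype_injective _), hR] at this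
  exact Int.natCast_dvd_natCast.1 this

end PSet

theorem PSet.not_nineteen {G : Type u} [Group G] [Finite G] {S : PSet p G} {ζ : G → ℂ} (hG : S.Gen)
    (hζ : ζ ∈ irr (⊤ : Subgroup G)) (hf : charKer ζ = ⊥) (hn : ¬ S.P.Normal) (h19 : p = 19)
    (hd : charDegree ζ = 16) : False := by
  have hi := mem_irr_top.1 hζ
  have hc := irr_isCharacter hi
  have he : S.fi = 3 := by have := (feit_low hζ hf (by omega) hn).1; omega
  obtain ⟨_, h1, T, B, α, β, Θ, b, s, h2, h3, h4, -, -, -, h5, h6⟩ :=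
    exists_num hζ hf (by omega) hn he (by omega)
  obtain ⟨n1, n2, n3, n4, n5⟩ := h4.num (commutator_eq_top h1) h3
  have hx := irr_one_dvd_card (mem_irr_top.1 (B.ex_irr 1 one_ne_zero))
    (coe_deg (isCh_of_irr (B.ex_irr 1 one_ne_zero))).symm
  change B.x ∣ _ at hx
  have := deg_pos (B.X_irr α h4.m1)
  rw [hd] at h5 h6
  generalize mu ⊤ Θ α = a at h5 h6
  rw [show (p : ℤ) = 19 by omega] at h5 n3 n4 n5
  rcases B.δ_sign with e | e <;> rw [e] at n1 n3 n5 h5
  swap
  · have := Nat.mul_le_mul (show 10 ≤ s by omega) (show 35 ≤ B.x by omega)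
    omega
  have := Nat.mul_le_mul_right (charDegree α) (show 2 ≤ a by omega)
  have := Nat.mul_le_mul_right B.x (show 2 ≤ s by omega)
  obtain e | e | e : B.x = 3 ∨ B.x = 41 ∨ B.x = 22 := by omega
  · have := T.le_two_mul_deg (isCh_top.1 (isCh_of_irr (B.ex_irr 1 one_ne_zero)))
      (charKer_eq_bot_of_simple (mem_irr_top.1 (B.ex_irr 1 one_ne_zero)) fun k => by
        simp [Blk.x, k, charDegree] at e) fun k => h1 (by
          have := k.eq_bot_or_eq_top.resolve_left (by simpa using T.z_ne_one)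
          exact ⟨⟨fun x y => by
            obtain ⟨i, rfl⟩ := T.mem_P_iff.1 (this.ge (mem_top x))
            exact (T.commute_zp (T.P_le_C (this.ge (mem_top y))) i).symm⟩⟩)
    change p ≤ 2 * B.x + 1 at this
    omega
  · have := Fact.mk (show Nat.Prime 41 by norm_num)
    have := (prime_le (p := 41) h1 hi hf (e ▸ hx) (by omega)).2
    omega
  obtain ⟨-, hK, -, θ, hθ, B', j, hj, rfl, -⟩ := low_struct hζ hf (by omega) hn
  have hE := B'.toEx hK hθ hj
  have z16 : ∀ w ∈ S.K, w ^ 16 = 1 := fun w hw => hd ▸ hG.center_pow hζ hf (hK hw) (S.K_reg hw)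
  have r : PRat 11 (B'.ex j) := fun m c e => congrFun (B'.eq_ex (by omega) hj (mem_irr_top.2
    (irr_pow_coprime hi (coprime_card_of_modEq (by norm_num) c e))) fun a ha => by
      obtain ⟨i, -, w, hw, rfl⟩ := S.mem_A_iff.1 ha
      rw [pow_eq_pow_iff_modEq.2 (e.of_dvd (Nat.dvd_ordCompl_of_dvd_not_dvd
        (orderOf_dvd_natCard _) fun d => ?_)), pow_one]
      have := d.trans (orderOf_dvd_of_pow_eq_one (n := p * 16) (by
        rw [(S.commute_zp (S.K_le_C hw) i).symm.mul_pow, pow_mul, zp_pow_p, mul_comm p, pow_mul,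
          z16 w hw]; simp))
      omega)
  have r2 : ¬ 11 ^ 2 ∣ Nat.card G := fun d => by simpa [hd] using not_pow_dvd (by norm_num) hc hf r d
  have := Fact.mk (show Nat.Prime 11 by norm_num)
  obtain ⟨y, hy⟩ := exists_prime_orderOf_dvd_card' (G := G) 11
    ((show 11 ∣ B.x by omega).trans (hx.trans (card_quotient_dvd_card _)))
  have y1 : y ^ 11 = 1 := hy ▸ pow_orderOf_eq_one y
  have y2 : ∀ w ∈ S.K, w ^ 11 = 1 → w = 1 := fun w hw k => by
    simpa using pow_gcd_eq_one.2 ⟨k, z16 w hw⟩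
  obtain ⟨c, hc'⟩ := gen_eq_int_of_pow (gen_of_char hc) (g := y) fun m k =>
    r.pow (by norm_num) (k := 1) (by simpa using y1) (hy ▸ k)
  have c1 := dvd_sub_of_val (q := 11) (by norm_num) hc (Commute.one_right y) ⟨1, by simpa using y1⟩
    ((congrArg _ (mul_one y)).trans hc') (b := 16) (by rw [← Lg.coe_deg hc, hd]; rfl)
  have c2 := B'.sum_Y_le hK hθ (y := y) (hy ▸ y2)
  have c3 := B'.card_Y
  rw [Finset.sum_congr rfl (g := fun _ => ((c ^ 2 : ℤ) : ℝ)) fun ψ hψ => by
    obtain ⟨l, hl, rfl⟩ := B'.mem_Y.1 hψ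
    rw [B'.ex_reg_eq hθ hl hj (by rw [hy, h19]; decide), hc']
    simp, Finset.sum_const, show B'.Y.card = 6 by rw [hE.2, he] at c3; omega] at c2
  have c4 := (card_le_of_le (show centralizer {y} ≤ (centralizer {(y : G ⧸ center G)}).comap
    (QuotientGroup.mk' _) from fun x hx => mem_centralizer_singleton_iff.2 (congrArg
      (QuotientGroup.mk' _) (mem_centralizer_singleton_iff.1 hx)))).trans_eq (Solv.card_comap_mk' _ _)
  have c5 := Nat.le_of_dvd (by norm_num) (h4.card_dvd h1 h2 h3 h19 e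
    (fun d => r2 (d.trans (card_quotient_dvd_card _))) (y := y) (orderOf_eq_prime
      (by rw [← QuotientGroup.mk_pow, y1]; rfl) fun k => by
        simp [y2 y (center_le_K hn ((QuotientGroup.eq_one_iff y).1 k)) y1] at hy))
  rw [show Nat.card (center G) = Nat.card S.K by rw [le_antisymm (center_le_K hn) hK]] at c4
  have c6 : Nat.card S.K * (6 * c ^ 2) ≤ Nat.card (centralizer ({y} : Set G)) := by
    simp only [nsmul_eq_mul] at c2
    exact_mod_cast c2
  have c7 : (0 : ℤ) < Nat.card S.K := Nat.cast_pos.2 Nat.card_pos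
  have c8 : 25 ≤ c ^ 2 := by
    rcases (by omega : 5 ≤ c ∨ c ≤ -6) with h | h <;> nlinarith only [h]
  have c9 := (Nat.cast_le (α := ℤ)).2 (c4.trans (Nat.mul_le_mul_right _ c5))
  push_cast at c9
  nlinarith only [c6, c7, c8, c9]

end CF.Small
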