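import Cfsg.Agent.Small.M24d

/-!
# Simple groups of order 244823040: stages of the search
-/

set_option autoImplicit false
set_option maxRecDepth 100000
set_option Elab.async false

namespace CF.Small.En.M24

theorem t1 : (params N A 23).all od = true := by
  decide +kernel

theorem t2 : addB N A ((params N A 23).filter (·.e == 2)) (cmpB N A 0 no) [] [] [(1, [])] = true := by
  decide +kernel

theorem t3 : addB N A [P23] (addB N A ((params N A 7).filter (·.c % 11 == 0)) (cmpB N A 0 (fltU 0 11 no)))
    [] [] [(1, [])] = true := by
  decide +kernel

theorem t4 : addB N A [P23] (addB N A ((params N A 11).filter fun P => P != P11 && P.c % 7 != 0 &&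
    four.all (·.1 != P)) (cmpB N A 0 (fltU 0 5 (fltK N A 0 no)))) [] [] [(1, [])] = true := by
  decide +kernel

theorem t5a : hard (⟨11, 5, 2⟩, 1, 1) = true := by
  decide +kernel

theorem t5b : hard (⟨11, 5, 24⟩, 4, 3) = true := by
  decide +kernel

end CF.Small.En.M24
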