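import Cfsg.Agent.Small.M24d

/-!
# Simple groups of order 244823040: stages of the search
-/

set_option autoImplicit false
set_option maxRecDepth 100000
set_option Elab.async false

namespace CF.Small.En.M24

theorem t5c : hard (⟨11, 10, 12⟩, 2, 3) = true := by
  decide +kernel

theorem t5d : hard (⟨11, 5, 288⟩, 1, 9) = true := by
  decide +kernel

theorem t6 : addB N A [P23] (addB N A [P11] (addB N A ((params N A 5).filter (·.c % 2 == 0)) (cmpB N A 0
    fun ps fl W => W.any (·.1 == 11) || memS s7a ps fl W || memS s7b ps fl W || k5 ps fl W)))
    [] [] [(1, [])] = true := by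
  decide +kernel

theorem t7a : allS s7a k7 = true := by
  decide +kernel

end CF.Small.En.M24
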