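import Cfsg.Agent.Small.M24d

/-!
# Simple groups of order 244823040: the list of divisors
-/

set_option autoImplicit false
set_option maxRecDepth 100000

namespace CF.Small.En.M24

theorem hA : DOK N A := dok_of [1024, 27, 5, 7, 11, 23] (by decide +kernel)

end CF.Small.En.M24
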