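import Cfsg.Agent.Small.Cv5
import Cfsg.Agent.Small.Rec
import Cfsg.Agent.Small.M24a
import Cfsg.Agent.Small.M24b
import Cfsg.Agent.Small.M24f

/-!
# Simple groups of order 244823040: the Sylow normalizers
-/

set_option autoImplicit false
set_option linter.unusedSectionVars false
set_option maxRecDepth 100000

namespace CF.Small.En.M24

open Subgroup CF.BlockB Cfsg CF.PF Sv CF.Char MulAction

instance fact5 : Fact (Nat.Prime 5) := ⟨by norm_num⟩

instance fact7 : Fact (Nat.Prime 7) := ⟨by norm_num⟩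

instance fact11 : Fact (Nat.Prime 11) := ⟨by norm_num⟩

instance fact23 : Fact (Nat.Prime 23) := ⟨by norm_num⟩

variable {G : Type*} [Group G] [Finite G] [IsSimpleGroup G] {χ : G → ℂ}

/-- A column. -/
abbrev bc {p : ℕ} [hp : Fact p.Prime] (S : PSet p G) (h : p ≠ 2 := by decide) : BC G := ⟨p, hp, h, S⟩

variable (hN : Nat.card G = N)
include hN

theorem hG : ¬ IsMulCommutative G := nc_of_card hN (by norm_num)

theorem pset (p : ℕ) [Fact p.Prime] (h : p ∣ N ∧ ¬ p ^ 2 ∣ N := by norm_num) : Nonempty (PSet p G) :=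
  nonempty_pset (hN ▸ h.1) (hN ▸ h.2)

theorem mem {p : ℕ} [Fact p.Prime] (S : PSet p G) : S.pa ∈ params N A p :=
  hN ▸ S.mem_params (hG hN) (hN ▸ hA)

theorem init {k : K} (h : k [] [] [(1, [])] = true) : Acc G k := acc_init (commutator_eq_top (hG hN)) h

theorem c23 (S : PSet 23 G) : S.pa = P23 := by
  have h := List.all_eq_true.1 t1 _ (mem hN S)
  simp only [od, Bool.or_eq_true, Bool.and_eq_true, beq_iff_eq, List.all_eq_true, bne_iff_ne, Nat.ble_eq,
    ne_eq, ← Nat.dvd_iff_mod_eq_zero] at h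
  rcases h with (h | h) | h
  · exact absurd (((init hN t2).addB (hG hN) hN hA (bc S) (List.mem_filter.2 ⟨mem hN S, by simpa⟩)).cmpB
      (hG hN) hN hA) not_acc_false
  · exact h
  obtain ⟨χ, i, k1, k2, k3⟩ := S.exists_odd (commutator_eq_top (hG hN))
  obtain ⟨⟨⟨⟨k4, k5⟩, k6⟩, k7⟩, k8⟩ := (h _ (hA _ (hN ▸ dvd_of_mem_dm (mem_dm.2 ⟨χ, i, rfl⟩)))).resolve_left
    (not_or.2 ⟨not_or.2 ⟨not_not.2 k1, k2⟩, fun k => k3 (k _ (hN ▸ S.mem_bopts (hG hN) (by decide) i))⟩)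
  obtain ⟨g, g1, g2⟩ := S.exists_ord (by norm_num) k6
  obtain ⟨⟨w, w1, w2⟩, hw⟩ := exists_prime_orderOf_dvd_card' 2
    (S.dvd_of_wm (by norm_num) Nat.prime_two g1 g2 k7 k8)
  replace hw : orderOf w = 2 := (Subgroup.orderOf_coe _).trans hw
  obtain ⟨T⟩ := pset hN 11
  obtain ⟨v1, v2⟩ := invol_val (commutator_eq_top (hG hN)) (isCh_of_irr i) (hw ▸ pow_orderOf_eq_one w)
  have v3 := natAbs_lt_deg (hG hN) i k2 (by rintro rfl; simp at hw) v1
  have v4 := S.modEq_of_comm i (.inl k3) (by simp [hw]) (S.ord ▸ orderOf_dvd_natCard _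
    (mem_centralizer_singleton_iff.2 (S.mem_C_iff.1 (S.K_le_C w1)).symm)) v1
  have v5 := T.modEq_of_comm i (.inr k5) (by simp [hw]) (g2 ▸ orderOf_dvd_natCard _
    (mem_centralizer_singleton_iff.2 (mem_centralizer_singleton_iff.1 w2).symm)) v1
  have := IsCoprime.mul_dvd (by norm_num) (IsCoprime.mul_dvd (by norm_num) v4 v5) v2
  clear h v2 v4 v5
  omega

theorem not_dvd {p : ℕ} [Fact p.Prime] (S : PSet p G) (h : S.pa.c = 1) (hp : p ≠ 2) {w : G} (hw : orderOf w = 2) :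
    Nat.card (centralizer ({w} : Set G)) % p ≠ 0 :=
  mt Nat.dvd_of_mod_eq_zero (PSet.not_dvd_card_centralizer (card_eq_one.1 h) (by rintro rfl; simp at hw)
    (hw ▸ mt (Nat.prime_dvd_prime_iff_eq Fact.out Nat.prime_two).1 hp))

theorem not_hard {x : Par × ℕ × ℕ} (h : hard x = true) (S : PSet 11 G) : S.pa ≠ x.1 := fun e => by
  simp only [hard, ← e, Bool.and_eq_true, beq_iff_eq, bne_iff_ne, ne_eq, ← Nat.dvd_iff_mod_eq_zero, frcL_eq] at h
  obtain ⟨⟨⟨⟨⟨⟨h1, h2⟩, h3⟩, h4⟩, h5⟩, h6⟩, h⟩ := h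
  obtain ⟨g, g1, g2⟩ := S.exists_ord (by norm_num) h1
  have h7 := Nat.Coprime.mul_dvd_of_dvd_of_dvd h5 (S.dvd_of_wm (by norm_num) Nat.prime_two g1 g2 h2 h3)
    (S.dvd_of_wm (by norm_num) Nat.prime_three g1 g2 h2 h4)
  obtain ⟨⟨w, w1, w2⟩, hw⟩ := exists_prime_orderOf_dvd_card' 2 (((dvd_mul_right 2 _).mul_right _).trans h7)
  replace hw : orderOf w = 2 := (Subgroup.orderOf_coe _).trans hw
  replace w2 : Commute w g := mem_centralizer_singleton_iff.1 w2
  obtain ⟨T, hT⟩ := exists_pset (p := 5) (zpowers g) (by rw [Nat.card_zpowers, g2]) (by norm_num [hN])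
  obtain ⟨U⟩ := pset hN 23
  have w3 : w ∈ T.C := by rw [PSet.C, PSet.P, hT]; exact Solv.mem_centralizer_zpowers_iff.2 w2
  replace h7 := h7.trans (card_dvd_of_le inf_le_right)
  rw [T.card_cent' g2] at h7
  obtain ⟨W, k1, k2⟩ := (rs_init (commutator_eq_top (hG hN))).addB (hG hN) hN hA (bc U)
    (List.mem_singleton.2 (c23 hN U)) h
  obtain ⟨W, k1, k2⟩ := k1.addB (hG hN) hN hA (bc S) (List.mem_singleton.2 rfl) k2
  obtain ⟨W, k1, k2⟩ := k1.addB (hG hN) hN hA (bc T) (List.mem_filter.2 ⟨mem hN T, by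
    exact beq_iff_eq.2 (Nat.mod_eq_zero_of_dvd (Nat.Coprime.dvd_of_dvd_mul_left h6 h7))⟩) k2
  obtain ⟨W, k1, k2⟩ := k1.cmpB (hG hN) hN hA k2
  rw [kf, frcL_eq, List.all_eq_true] at k2
  have h8 : orderOf (w * g) = 10 := by
    rw [w2.orderOf_mul_eq_mul_orderOf_of_coprime (by rw [hw, g2]; norm_num), hw, g2]
  rcases Bool.or_eq_true_iff.1 (k2 (Nat.card (centralizer ({w} : Set G))) (List.mem_filter.2 ⟨List.mem_filter.2
    ⟨hA _ (hN ▸ card_subgroup_dvd_card _), by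
      rw [S.kc_of (hN ▸ hA) (S.K_le_C w1) (by decide) (h8 ▸ orderOf_dvd_natCard _
        ⟨mem_centralizer_singleton_iff.2 ((Commute.refl w).mul_left w2.symm), mul_mem (S.K_le_N w1) g1⟩),
        bne_iff_ne.2 (not_dvd hN U (by rw [c23 hN U]) (by decide) hw), ← hN,
        idx_cent (hG hN) (by rintro rfl; simp at hw)]
      rfl⟩, T.kc_of (hN ▸ hA) w3 (by decide) (hw ▸ orderOf_dvd_natCard _
      ⟨mem_centralizer_singleton_iff.2 rfl, T.C_le_N w3⟩)⟩)) with k | k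
  · exact k1.not_inv2 (hG hN) hN rfl hw w1 k
  · obtain ⟨W, k3, k4⟩ := k1.cmpG (hG hN) hN hA (fun χ i => by
      simpa using List.ne_nil_of_mem (mem_vopts (hG hN) hN i hw)) k
    exact k3.not_inv2 (hG hN) hN rfl hw w1 k4

theorem c11 (S : PSet 11 G) : S.pa = P11 := by
  obtain ⟨U⟩ := pset hN 23
  obtain ⟨T⟩ := pset hN 7
  obtain ⟨V⟩ := pset hN 5
  have h1 := List.mem_singleton.2 (c23 hN U)
  by_contra h
  by_cases h2 : 7 ∣ Nat.card S.K
  · exact not_acc_false (((((init hN t3).addB (hG hN) hN hA (bc U) h1).addB (hG hN) hN hA (bc T)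
      (List.mem_filter.2 ⟨mem hN T, beq_iff_eq.2 (Nat.mod_eq_zero_of_dvd
        (S.compat_aux T (by decide) h2).1)⟩)).cmpB (hG hN) hN hA).fltU (hG hN) S)
  refine not_acc_false ((((((init hN t4).addB (hG hN) hN hA (bc U) h1).addB (hG hN) hN hA (bc S)
    (List.mem_filter.2 ⟨mem hN S, ?_⟩)).cmpB (hG hN) hN hA).fltU (hG hN) V).fltK (hG hN) hN hA)
  simp only [four, Bool.and_eq_true, bne_iff_ne, List.all_cons, List.all_nil, and_true]
  exact ⟨⟨h, mt Nat.dvd_of_mod_eq_zero h2⟩, (not_hard hN t5a S).symm, (not_hard hN t5b S).symm,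
    (not_hard hN t5c S).symm, (not_hard hN t5d S).symm⟩

theorem ne_11 (h : χ ∈ irr (⊤ : Subgroup G)) : charDegree χ ≠ 11 := fun e => by
  obtain ⟨S⟩ := pset hN 23
  obtain ⟨T⟩ := pset hN 11
  obtain ⟨B, hB⟩ := S.exists_pblk
  have h1 := c23 hN S
  have h2 : S.fi = 11 := congrArg (·.e) h1
  have h3 := S.mem_bopts (hG hN) (by decide) h
  rw [hN, h1, e, show bopts N P23 11 = [-11] by decide, List.mem_singleton] at h3
  have h4 := (B.mem_Y_iff h (by omega)).2 (by omega)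
  obtain ⟨-, ψ, k1, -, k2⟩ := B.caseA (commutator_eq_top (hG hN)) hB (card_eq_one.1 (congrArg (·.c) h1))
    (by have := B.be_Y h4; rw [h2] at this; omega) (by rw [← B.deg_Y (triv_mem_irr _) h4, e, h2])
  have h5 := T.mem_bopts (hG hN) (by decide) (B.X_irr ψ k1)
  rw [hN, c11 hN T, k2, show bopts N P11 (23 + 1) = [] by decide] at h5
  exact List.not_mem_nil h5

theorem even_5 (T : PSet 5 G) : 2 ∣ Nat.card T.K := by
  obtain ⟨S⟩ := pset hN 11
  have h1 := c11 hN S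
  obtain ⟨g, -, hg⟩ := S.exists_H_eq (card_eq_one.1 (congrArg (·.c) h1))
  rw [show S.fi = 10 from congrArg (·.e) h1] at hg
  have := orderOf_dvd_natCard _ (mem_centralizer_singleton_iff.2 (Commute.self_pow g 2))
  rw [T.card_cent' (by rw [orderOf_pow, hg]; rfl), hg] at this
  omega

end CF.Small.En.M24
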